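import Cfsg.Agent.Ree.Three.FuncE
import Cfsg.Agent.Ree.Torus.Central

/-!
When `Phi` is three times as large as `⟨x⟩`, a character of the group fixed by the power map which moves the
primitive blocks has a multiplicity divisible by 3: the function of `V × K⟨x⟩` is the sum of three functions of
`(V × K)⟨m^i p⟩`, permuted by the power map.
-/

set_option autoImplicit false
set_option linter.style.haveILetI false
set_option linter.unusedSectionVars false

namespace Cfsg.Lib.Ree.Three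

open Subgroup Cfsg Cfsg.Lib.Chars Cfsg.Lib.Ree
open scoped ComplexConjugate

universe u

attribute [local instance 10] _root_.Classical.propDecidable

theorem sum_three_roots {u : ℂ} (h3 : u ^ 3 = 1) (h1 : u ≠ 1) : 1 + u + u ^ 2 = 0 := by
  have : (u - 1) * (1 + u + u ^ 2) = 0 := by linear_combination h3
  exact (mul_eq_zero.1 this).resolve_left (sub_ne_zero.2 h1)

theorem fin_three_mul : ∀ i : Fin 3, i ≠ 0 → ∀ n : ℕ, 3 ∣ (i : ℕ) * n → 3 ∣ n := by
  intro i hi n h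
  refine (Nat.Prime.dvd_mul Nat.prime_three).1 h |>.resolve_left fun h' => hi ?_
  exact Fin.ext (Nat.eq_zero_of_dvd_of_lt h' i.2)

variable {G : Type u} [Group G] {t : G} {E E₀ : Subgroup G} {k : ℕ}

namespace TFrame

variable (Φ : TFrame t E E₀ k)

theorem commute_t_pow [Finite G] {i : Fin 3} (hi : i ≠ 0) {p : G} (hp : p ∈ Φ.Phi) {n : ℕ}
    (h : Commute ((Φ.m ^ (i : ℕ) * p) ^ n) t) : 3 ∣ n := by
  rw [((Φ.pm p hp).symm.pow_left _).mul_pow, ← pow_mul] at h
  have h2 : Commute (Φ.m ^ ((i : ℕ) * n)) t := by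
    have := h.mul_left ((Φ.pt hp).pow_left n).inv_left
    rwa [mul_inv_cancel_right] at this
  exact fin_three_mul i hi n
    (Nat.dvd_of_mod_eq_zero (Φ.m_not_fix _ (by rw [h2.eq, mul_inv_cancel_right])))

/-- **The divisibility by 3.** -/
theorem mC_dvd_three [Fintype G] {x p : G} (hx : x ∈ Φ.Phi) (hp : p ∈ Φ.Phi) (hgen : ∀ q ∈ Φ.Phi, q ∈ zpowers p)
    {i : Fin 3} (hi : i ≠ 0) (ho : 3 * orderOf x = Nat.card Φ.Phi) (hx3 : 3 ∣ orderOf x) {θ : Φ.K →* ℂˣ}
    (hθz : Φ.Fixed (Φ.m ^ (i : ℕ) * p) θ) (ν : Φ.Phi →* ℂˣ) (hν : Function.Injective ν) {j : ℕ}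
    (hj : j.Coprime (Nat.card G)) (hodd : Odd j) (hθj : ∀ y, θ y ^ j = θ y)
    (hjx : j ≡ 1 + orderOf x [MOD Nat.card Φ.Phi]) (χ : IrrCharacter G) (hχ : powPerm hj χ = χ) :
    ∃ n : ℤ, Φ.mC x 0 θ (Φ.res hx ν) χ = 3 * n := by
  haveI := Φ.Phi_cyclic
  have hpe : orderOf p = Nat.card Φ.Phi := by
    rw [← Subgroup.orderOf_mk (H := Φ.Phi) p hp]
    exact orderOf_eq_card_of_forall_mem_zpowers fun q => by
      obtain ⟨l, hl⟩ := hgen q q.2
      exact ⟨l, Subtype.ext (by simpa using hl)⟩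
  set z := Φ.m ^ (i : ℕ) * p with hz
  have hrep : Φ.rep (i, false, ⟨p, hp⟩) = z := by rw [rep, hz]; simp
  have hpw : ∀ n : ℕ, z ^ n = Φ.m ^ ((i : ℕ) * n) * p ^ n := fun n => by
    rw [hz, ((Φ.pm p hp).symm.pow_left _).mul_pow, ← pow_mul]
  have h3n : ∀ n : ℕ, 3 ∣ n → z ^ n = p ^ n := fun n ⟨d, hd⟩ => by
    rw [hpw, hd, show (i : ℕ) * (3 * d) = 3 * ((i : ℕ) * d) by ring, pow_mul Φ.m,
      show Φ.m ^ 3 = 1 by rw [← Φ.m_ord, pow_orderOf_eq_one], one_pow, one_mul]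
  have he3 : 3 ∣ Nat.card Φ.Phi := ⟨orderOf x, ho.symm⟩
  have hzo : orderOf z = Nat.card Φ.Phi := by
    refine Nat.dvd_antisymm (orderOf_dvd_of_pow_eq_one ?_) ?_
    · rw [h3n _ he3, ← hpe, pow_orderOf_eq_one]
    · have h1 : 3 ∣ orderOf z :=
        Φ.commute_t_pow hi hp (show Commute ((Φ.m ^ (i : ℕ) * p) ^ orderOf z) t by
          rw [← hz, pow_orderOf_eq_one]; exact Commute.one_left t)
      rw [← hpe]
      exact orderOf_dvd_of_pow_eq_one (by rw [← h3n _ h1, pow_orderOf_eq_one])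
  -- the extension
  have X : Ext Φ.emb z := by
    refine ⟨Φ.emb_injective, fun a => ⟨(rot^[(i : ℕ)] a.1, Φ.act (i, false, ⟨p, hp⟩) a.2), ?_⟩, fun a ha => ?_⟩
    · rw [emb_apply, emb_apply]
      show Φ.vel (rot^[((i, false, (⟨p, hp⟩ : Φ.Phi)) : Fin 3 × Bool × Φ.Phi).1.val] a.1) *
        (Φ.act (i, false, ⟨p, hp⟩) a.2 : G) = _
      rw [← rep_vel, act_coe, hrep]
      group
    · obtain ⟨n, hn⟩ := mem_powers_iff_mem_zpowers.2 ha
      simp only at hn
      have hct : Commute (Φ.emb a) t := by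
        rw [emb_apply]; exact (Φ.V_comm (Φ.vel_mem _) Φ.t_mem).mul_left (Φ.K_t a.2.2)
      have h3 := Φ.commute_t_pow hi hp (n := n) (by rw [← hz, hn]; exact hct)
      exact (Φ.ext_Phi hp).disj a ⟨(n : ℤ), by rw [← hn, h3n n h3]; exact zpow_natCast p n⟩
  have hl : ∀ w w' : Four, z * Φ.vel w * z⁻¹ = Φ.vel w' → sgn 0 w' = sgn 0 w := fun _ _ _ => rfl
  -- the three characters of the powers of `z`
  set ω := ν ⟨p, hp⟩ with hω
  have hωo : orderOf ω = Nat.card Φ.Phi := by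
    rw [hω, orderOf_injective ν hν, Subgroup.orderOf_mk, hpe]
  have hgz : ∀ q : zpowers z, q ∈ zpowers (⟨z, mem_zpowers z⟩ : zpowers z) := fun q => by
    obtain ⟨l, hl⟩ := q.2; exact ⟨l, Subtype.ext (by simpa using hl)⟩
  have hdvd : ∀ a : ℕ, orderOf (ω ^ j ^ a) ∣ orderOf (⟨z, mem_zpowers z⟩ : zpowers z) := fun a => by
    rw [Subgroup.orderOf_mk, hzo, ← hωo]; exact orderOf_pow_dvd _
  let ζ : ℕ → (zpowers z →* ℂˣ) := fun a => monoidHomOfForallMemZpowers hgz (hdvd a)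
  have hζ : ∀ (a n : ℕ), ζ a (⟨z, mem_zpowers z⟩ ^ n) = ω ^ (j ^ a * n) := fun a n => by
    rw [map_pow, monoidHomOfForallMemZpowers_apply_gen, ← pow_mul]
  have hnat : ∀ q : zpowers z, ∃ n : ℕ, (⟨z, mem_zpowers z⟩ : zpowers z) ^ n = q := fun q => by
    obtain ⟨n, hn⟩ := mem_powers_iff_mem_zpowers.2 q.2
    exact ⟨n, Subtype.ext (by simpa using hn)⟩
  have hstep : ∀ a, Φ.mC z 0 θ (ζ (a + 1)) χ = Φ.mC z 0 θ (ζ a) χ := fun a => by
    conv_lhs => rw [← hχ]
    refine Φ.mC_pow X _ _ hl hθz hj hodd hθj (fun q => ?_) χ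
    obtain ⟨n, rfl⟩ := hnat q
    rw [hζ, hζ, ← pow_mul, pow_succ]
    congr 1
    ring
  obtain ⟨n₀, hn₀⟩ := Φ.mC_int X (ζ 0) hl hθz χ
  refine ⟨n₀, ?_⟩
  have hsum : Φ.mC x 0 θ (Φ.res hx ν) χ = ∑ a ∈ Finset.range 3, Φ.mC z 0 θ (ζ a) χ := by
    have hxz : x ∈ zpowers z := by
      have hxo : orderOf (⟨x, hx⟩ : Φ.Phi) = orderOf ((⟨p, hp⟩ : Φ.Phi) ^ 3) := by
        rw [orderOf_pow' _ (by norm_num : (3 : ℕ) ≠ 0), Subgroup.orderOf_mk, Subgroup.orderOf_mk, hpe, ← ho,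
          Nat.gcd_eq_right (dvd_mul_right 3 _), Nat.mul_div_cancel_left _ (by norm_num)]
      obtain ⟨l, hl⟩ := mem_zpowers_of_order hxo
      refine ⟨3 * l, ?_⟩
      have h := congrArg Subtype.val hl
      show z ^ (3 * l) = x
      rw [zpow_mul, show z ^ (3 : ℤ) = z ^ 3 from zpow_natCast z 3, h3n 3 dvd_rfl]
      simpa using h
    let ι : (Four × Φ.K) × zpowers x → (Four × Φ.K) × zpowers z := fun a =>
      (a.1, ⟨a.2, zpowers_le.2 hxz a.2.2⟩)
    have hι : Function.Injective ι := fun a a' e => Prod.ext (Prod.ext_iff.1 e).1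
      (Subtype.ext (congrArg (fun q : zpowers z => (q : G)) (Prod.ext_iff.1 e).2))
    have key : ∀ n : ℕ, ((ω ^ (j ^ 0 * n) : ℂˣ) : ℂ) + (ω ^ (j ^ 1 * n) : ℂˣ) + (ω ^ (j ^ 2 * n) : ℂˣ) =
        if 3 ∣ n then 3 * ((ω ^ n : ℂˣ) : ℂ) else 0 := by
      intro n
      have hωe : ω ^ Nat.card Φ.Phi = 1 := by rw [← hωo, pow_orderOf_eq_one]
      have e1 : ω ^ (j ^ 1 * n) = ω ^ n * ω ^ (orderOf x * n) := by
        rw [← pow_add]
        refine pow_eq_pow_of_modEq ?_ hωe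
        have := hjx.mul_right n
        rw [pow_one]
        rwa [add_mul, one_mul] at this
      have e2 : ω ^ (j ^ 2 * n) = ω ^ n * (ω ^ (orderOf x * n)) ^ 2 := by
        rw [← pow_mul, ← pow_add]
        refine pow_eq_pow_of_modEq ?_ hωe
        refine ((hjx.pow 2).mul_right n).trans ?_
        obtain ⟨d, hd⟩ := hx3
        rw [hd] at ho ⊢
        rw [← ho, show (1 + 3 * d) ^ 2 * n = (n + 3 * d * n * 2) + 3 * (3 * d) * (d * n) by ring]
        exact (Nat.ModEq.add_left _ ((Nat.modEq_zero_iff_dvd).2 (dvd_mul_right _ _))).trans (by rw [add_zero])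
      have hu3 : (ω ^ (orderOf x * n)) ^ 3 = 1 := by
        rw [← pow_mul, show orderOf x * n * 3 = 3 * orderOf x * n by ring, ho, pow_mul, hωe, one_pow]
      rw [e1, e2, pow_zero, one_mul]
      split_ifs with h
      · obtain ⟨d, hd⟩ := h
        rw [show ω ^ (orderOf x * n) = 1 by
          rw [hd, show orderOf x * (3 * d) = 3 * orderOf x * d by ring, ho, pow_mul, hωe, one_pow]]
        simp; ring
      · have hu1 : ω ^ (orderOf x * n) ≠ 1 := fun e => h (by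
          have h2 := orderOf_dvd_of_pow_eq_one e
          rw [hωo, ← ho, mul_comm 3] at h2
          exact Nat.dvd_of_mul_dvd_mul_left (orderOf_pos x) h2)
        push_cast
        have h0 := sum_three_roots (u := ((ω ^ (orderOf x * n) : ℂˣ) : ℂ))
          (by rw [← Units.val_pow_eq_pow_val, hu3, Units.val_one]) (fun e => hu1 (Units.ext (by rw [e, Units.val_one])))
        push_cast at h0
        linear_combination (ω : ℂ) ^ n * h0
    rw [Finset.sum_range_succ, Finset.sum_range_succ, Finset.sum_range_one]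
    simp only [mC, ← mul_add, ← Finset.sum_add_distrib]
    rw [← Fintype.sum_of_injective ι hι (fun a => 3 * ((χ : G → ℂ) (Φ.pnt x a) * conj (Φ.val 0 θ (Φ.res hx ν) a))) _
      (fun a ha => ?_) fun a => ?_, ← Finset.mul_sum, Φ.card_dom, Φ.card_dom, hzo, ← ho]
    · have := Φ.k_ne
      have := Φ.o_ne x
      push_cast
      field_simp
    · obtain ⟨n, hn⟩ := hnat a.2
      refine mul_eq_zero_of_right _ ?_
      rw [← map_add, ← map_add]
      simp only [val, ← mul_add]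
      rw [← hn, hζ, hζ, hζ, key, if_neg, mul_zero, map_zero]
      intro h3
      refine ha ⟨(a.1, ⟨a.2, ?_⟩), rfl⟩
      rw [← hn, Subgroup.coe_pow]
      obtain ⟨d, hd⟩ := h3
      show z ^ n ∈ zpowers x
      rw [h3n n ⟨d, hd⟩, hd, pow_mul]
      refine pow_mem ?_ d
      have hxo : orderOf ((⟨p, hp⟩ : Φ.Phi) ^ 3) = orderOf (⟨x, hx⟩ : Φ.Phi) := by
        rw [orderOf_pow' _ (by norm_num : (3 : ℕ) ≠ 0), Subgroup.orderOf_mk, Subgroup.orderOf_mk, hpe, ← ho,
          Nat.gcd_eq_right (dvd_mul_right 3 _), Nat.mul_div_cancel_left _ (by norm_num)]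
      obtain ⟨l, hl⟩ := mem_zpowers_of_order hxo
      exact ⟨l, by simpa using congrArg Subtype.val hl⟩
    · obtain ⟨n, hn⟩ := hnat (ι a).2
      show _ = (χ : G → ℂ) (Φ.pnt z (ι a)) * _
      rw [show Φ.pnt z (ι a) = Φ.pnt x a from rfl, ← map_add, ← map_add]
      simp only [val, ← mul_add]
      have hgz' : z ^ n = (a.2 : G) := congrArg (fun q : zpowers z => (q : G)) hn
      have h3 : 3 ∣ n := Φ.commute_t_pow hi hp (by rw [← hz, hgz']; exact Φ.pt (zpowers_le.2 hx a.2.2))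
      rw [← hn, hζ, hζ, hζ, key, if_pos h3]
      have hres : Φ.res hx ν a.2 = ω ^ n := by
        rw [res_apply, hω, ← map_pow]
        congr 1
        refine Subtype.ext ?_
        rw [Subgroup.coe_pow]
        show (a.2 : G) = p ^ n
        rw [← hgz', h3n n h3]
      rw [hres, show (ι a).1 = a.1 from rfl]
      simp only [map_mul, map_ofNat]
      ring
  rw [hsum, Finset.sum_range_succ, Finset.sum_range_succ, Finset.sum_range_one, hstep 1, hstep 0, hn₀]
  ring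

end TFrame

end Cfsg.Lib.Ree.Three
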