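import Cfsg.Agent.Ree.Three.FuncT

/-!
The congruences modulo the order of `K` read from the functions of `V × K`, by Fourier inversion on `K`.
-/

set_option autoImplicit false
set_option linter.style.haveILetI false
set_option linter.unusedSectionVars false

namespace Cfsg.Lib.Ree.Three

open Subgroup Cfsg Cfsg.Lib.Chars Cfsg.Lib.Ree
open scoped ComplexConjugate

universe u

attribute [local instance 10] _root_.Classical.propDecidable

variable {G : Type u} [Group G] [Fintype G] {t : G} {E E₀ : Subgroup G} [Fintype E] {k : ℕ}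

theorem sgn_dual : ∀ w₀ w : Four, ∑ l : Fin 4, sgn l w₀ * sgn l w = if w = w₀ then 4 else 0 := by decide +kernel

namespace TFrame

variable (Φ : TFrame t E E₀ k)

/-- Inversion on `K`. -/
theorem fourier (f : Φ.K → ℂ) (c : ℂ) (h : ∀ θ : Φ.K →* ℂˣ, θ ≠ 1 → ∑ y, conj ((θ y : ℂ) - 1) * f y = c) :
    (k : ℂ) * f 1 = (k : ℂ) * (∑ y, f y) + ((k : ℂ) - 1) * c ∧ (c = 0 → ∀ y, y ≠ 1 → f y = 0) := by
  haveI := Φ.cyclic_K
  letI : CommGroup Φ.K := IsCyclic.commGroup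
  haveI : Finite (Φ.K →* ℂˣ) :=
    Finite.of_equiv Φ.K (CommGroup.monoidHom_mulEquiv_of_hasEnoughRootsOfUnity Φ.K ℂ).some.toEquiv.symm
  letI : Fintype (Φ.K →* ℂˣ) := Fintype.ofFinite _
  set S := ∑ y, f y
  have key : ∀ y₀ : Φ.K, (k : ℂ) * f y₀ = (S + c) * (if y₀ = 1 then (k : ℂ) else 0) - c := by
    intro y₀
    have hdual : ∀ x : Φ.K, ∑ μ : Φ.K →* ℂˣ, (μ x : ℂ) = if x = 1 then (k : ℂ) else 0 := fun x => by
      rw [sum_dual_point, Φ.card_K]; split_ifs <;> rfl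
    have hin : ∀ θ : Φ.K →* ℂˣ, ∑ y, conj (θ y : ℂ) * f y = S + if θ = 1 then 0 else c := by
      intro θ
      by_cases hθ : θ = 1
      · subst hθ; simp [S]
      · rw [if_neg hθ, ← h θ hθ, ← Finset.sum_add_distrib]
        exact Finset.sum_congr rfl fun y _ => by rw [map_sub, map_one]; ring
    have hswap : ∑ θ : Φ.K →* ℂˣ, (θ y₀ : ℂ) * ∑ y, conj (θ y : ℂ) * f y = (k : ℂ) * f y₀ := by
      simp only [Finset.mul_sum]
      rw [Finset.sum_comm, Finset.sum_congr rfl fun y _ => show _ = (if y₀ * y⁻¹ = 1 then (k : ℂ) else 0) * f y by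
        rw [← hdual, Finset.sum_mul]
        refine Finset.sum_congr rfl fun θ _ => ?_
        rw [show conj (θ y : ℂ) = (θ y⁻¹ : ℂ) from (IsCharacter.conj_inv (isCharacter_linear θ) y).symm, map_mul,
          Units.val_mul]
        ring]
      simp only [ite_mul, zero_mul, mul_inv_eq_one]
      rw [Finset.sum_ite_eq, if_pos (Finset.mem_univ _)]
    rw [← hswap, Finset.sum_congr rfl fun (θ : Φ.K →* ℂˣ) _ => show (θ y₀ : ℂ) * ∑ y, conj (θ y : ℂ) * f y =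
        (θ y₀ : ℂ) * (S + c) - if θ = 1 then c else 0 by
      rw [hin]
      split_ifs with hθ
      · subst hθ; simp
      · ring, Finset.sum_sub_distrib, ← Finset.sum_mul, hdual, Finset.sum_ite_eq', if_pos (Finset.mem_univ _)]
    ring
  refine ⟨by rw [key 1, if_pos rfl]; ring, fun hc y hy => ?_⟩
  have h1 := key y
  rw [if_neg hy, hc] at h1
  simpa [Φ.k_ne] using h1

/-- The value of `mC` at `z = 1`. -/
theorem mC_one_eq (l : Fin 4) (θ : Φ.K →* ℂˣ) (χ : IrrCharacter G) :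
    4 * (k : ℂ) * Φ.mC 1 l θ (Φ.res (one_mem _) 1) χ =
      ∑ w : Four, (sgn l w : ℂ) * ∑ y : Φ.K, conj ((θ y : ℂ) - 1) * (χ : G → ℂ) (Φ.vel w * y) := by
  have h1 : ∀ q : zpowers (1 : G), q = 1 := fun q => Subtype.ext (by
    obtain ⟨j, hj⟩ := q.2
    rw [← hj]; exact one_zpow j)
  letI : Unique (zpowers (1 : G)) := ⟨⟨1⟩, h1⟩
  have hk0 := Φ.k_ne
  rw [mC, Φ.card_dom, orderOf_one, Nat.cast_one, mul_one, ← mul_assoc, mul_inv_cancel₀ (by simp [hk0]), one_mul,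
    Fintype.sum_prod_type, Fintype.sum_prod_type]
  refine Finset.sum_congr rfl fun w _ => ?_
  rw [Finset.mul_sum]
  refine Finset.sum_congr rfl fun y _ => ?_
  simp only [Fintype.sum_unique, h1 default, conj_val, pnt, emb_apply, map_one, Units.val_one, mul_one,
    OneMemClass.coe_one]
  ring

/-- The sum over the four signs. -/
theorem mC_one_dual (w₀ : Four) (θ : Φ.K →* ℂˣ) (χ : IrrCharacter G) :
    (k : ℂ) * ∑ l : Fin 4, (sgn l w₀ : ℂ) * Φ.mC 1 l θ (Φ.res (one_mem _) 1) χ =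
      ∑ y : Φ.K, conj ((θ y : ℂ) - 1) * (χ : G → ℂ) (Φ.vel w₀ * y) := by
  refine mul_left_cancel₀ (show (4 : ℂ) ≠ 0 by norm_num) ?_
  rw [← mul_assoc, Finset.mul_sum, Finset.sum_congr rfl fun l _ => show
    4 * (k : ℂ) * ((sgn l w₀ : ℂ) * Φ.mC 1 l θ (Φ.res (one_mem _) 1) χ) =
      ∑ w : Four, ((sgn l w₀ * sgn l w : ℤ) : ℂ) * ∑ y : Φ.K, conj ((θ y : ℂ) - 1) * (χ : G → ℂ) (Φ.vel w * y) by
      rw [mul_left_comm, Φ.mC_one_eq, Finset.mul_sum]
      exact Finset.sum_congr rfl fun w _ => by push_cast; ring,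
    Finset.sum_comm, Finset.sum_congr rfl fun w _ => by rw [← Finset.sum_mul, ← Int.cast_sum, sgn_dual]]
  simp

/-- The sums over the cosets of `K` in `V × K` are divisible by its order. -/
theorem sum_coset_dvd (w₀ : Four) (χ : IrrCharacter G) :
    ∃ n : ℤ, ∑ y : Φ.K, (χ : G → ℂ) (Φ.vel w₀ * y) = (k : ℂ) * n := by
  have X := Φ.ext_Phi (one_mem Φ.Phi)
  have h1 : ∀ q : zpowers (1 : G), q = 1 := fun q => Subtype.ext (by
    obtain ⟨j, hj⟩ := q.2
    rw [← hj]; exact one_zpow j)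
  letI : Unique (zpowers (1 : G)) := ⟨⟨1⟩, h1⟩
  have hl : ∀ (l : Fin 4) (w w' : Four), (1 : G) * Φ.vel w * 1⁻¹ = Φ.vel w' → sgn l w' = sgn l w := fun l w w' e => by
    rw [one_mul, inv_one, mul_one] at e; rw [Φ.vel_injective e]
  have hc := IsCharacter.restrict (isCharacter_of_irr χ.2) X.grp
  have hn : ∀ l : Fin 4, ∃ n : ℕ, ∑ w : Four, (sgn l w : ℂ) * ∑ y : Φ.K, (χ : G → ℂ) (Φ.vel w * y) =
      4 * (k : ℂ) * n := by
    intro l
    obtain ⟨n, hn⟩ := IsCharacter.exists_mult hc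
      (isIrrCharacter_linear (X.lin _ (Φ.lam_inv X (hl l) (Φ.fixed_triv 1)) 1))
    refine ⟨n, ?_⟩
    rw [classInner_def, ← Nat.card_congr X.equiv, Φ.card_dom, orderOf_one, Nat.cast_one, mul_one,
      inv_mul_eq_iff_eq_mul₀ (by simp [Φ.k_ne])] at hn
    rw [← hn]
    refine Eq.trans ?_ (Fintype.sum_equiv X.equiv (fun a : (Four × Φ.K) × zpowers (1 : G) => (χ : G → ℂ) (X.pt a) *
      conj ((Φ.lam l 1 a.1 * (1 : zpowers (1 : G) →* ℂˣ) a.2 : ℂˣ) : ℂ))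
      (fun h : X.grp => (χ : G → ℂ) h * conj (X.lin _ (Φ.lam_inv X (hl l) (Φ.fixed_triv 1)) 1 h : ℂ))
      (fun a => by rw [X.lin_apply]; rfl))
    conv_rhs => rw [Fintype.sum_prod_type, Fintype.sum_prod_type]
    refine Finset.sum_congr rfl fun w _ => ?_
    rw [Finset.mul_sum]
    refine Finset.sum_congr rfl fun y _ => ?_
    simp only [Fintype.sum_unique, Ext.pt, h1 default, emb_apply, OneMemClass.coe_one, mul_one, lam,
      MonoidHom.mul_apply, MonoidHom.coe_comp, Function.comp_apply, MonoidHom.coe_fst, MonoidHom.coe_snd,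
      MonoidHom.one_apply, map_one, sgnC_val, map_intCast]
    ring
  choose n hn using hn
  refine ⟨∑ l, sgn l w₀ * n l, mul_left_cancel₀ (show (4 : ℂ) ≠ 0 by norm_num) (Eq.symm ?_)⟩
  push_cast
  calc (4 : ℂ) * ((k : ℂ) * ∑ l : Fin 4, (sgn l w₀ : ℂ) * (n l : ℂ))
      = ∑ l : Fin 4, (sgn l w₀ : ℂ) * ∑ w : Four, (sgn l w : ℂ) * ∑ y : Φ.K, (χ : G → ℂ) (Φ.vel w * y) := by
        rw [Finset.sum_congr rfl fun (l : Fin 4) _ => congrArg (fun x => (sgn l w₀ : ℂ) * x) (hn l), ← mul_assoc,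
          Finset.mul_sum]
        exact Finset.sum_congr rfl fun l _ => by ring
    _ = ∑ w : Four, ((∑ l : Fin 4, sgn l w₀ * sgn l w : ℤ) : ℂ) * ∑ y : Φ.K, (χ : G → ℂ) (Φ.vel w * y) := by
        rw [Finset.sum_congr rfl fun (l : Fin 4) _ => Finset.mul_sum _ _ _, Finset.sum_comm]
        refine Finset.sum_congr rfl fun w _ => ?_
        rw [Int.cast_sum, Finset.sum_mul]
        exact Finset.sum_congr rfl fun l _ => by push_cast; ring
    _ = 4 * ∑ y : Φ.K, (χ : G → ℂ) (Φ.vel w₀ * y) := by simp [sgn_dual]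

variable {F : Type} [Field F] [Fintype F] (S : Twist.Setting t E E₀ F)
  (hq : ∃ n, Fintype.card F = 3 ^ n) (h8 : Fintype.card F % 8 = 3) (hk : 4 * k = Fintype.card F + 1)
  (htame : ∀ y ∈ Φ.K, y ≠ 1 → ∀ g : G, Commute g y → ∀ w ∈ Φ.V, g * w * g⁻¹ ∈ Φ.V)
  {M : Ideal AlgInt} {T : Twist.KTable E M} (P : Field.TwistFacts t E E₀ F T)

include S hq h8 hk htame P in
/-- The congruence at a member. -/
theorem congr_member (ρ : Φ.Phi →* ℂˣ) (χ : IrrCharacter G)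
    (hχ : coord t E χ (Twist.twist (Φ.mu ρ) T.x) ≠ 0 ∨ coord t E χ (Twist.twist (Φ.mu ρ) T.al) ≠ 0 ∨
      coord t E χ (Twist.twist (Φ.mu ρ) T.be) ≠ 0) (us α : ℤ)
    (hus : (us : ℂ) = -coord t E χ (Twist.twist (Φ.mu ρ) T.x) + coord t E χ (Twist.twist (Φ.mu ρ) T.al) +
      coord t E χ (Twist.twist (Φ.mu ρ) T.be))
    (hα : ∀ θ : Φ.K →* ℂˣ, θ ≠ 1 → Φ.mC 1 1 θ (Φ.res (one_mem _) 1) χ = α) :
    (k : ℤ) ∣ (deg (χ : G → ℂ) : ℤ) + 4 * α - us := by
  have hres : ∀ ν : Φ.Phi →* ℂˣ, Φ.res (one_mem _) ν = Φ.res (one_mem _) 1 := fun ν => MonoidHom.ext fun q => by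
    obtain ⟨j, hj⟩ := q.2
    have : q = 1 := Subtype.ext (hj.symm.trans (one_zpow j))
    rw [this, map_one, map_one]
  have hP : ∀ θ : Φ.K →* ℂˣ, θ ≠ 1 →
      ∑ y : Φ.K, conj ((θ y : ℂ) - 1) * (χ : G → ℂ) (y : G) = (k : ℂ) * (4 * (α : ℂ) - us) := by
    intro θ hθ
    have hd := fun (l : Fin 4) (hl : l ≠ 0) =>
      Φ.mC_diff (one_mem _) S hq h8 hk htame P (Φ.fixed_one θ) hθ hl 1 ρ χ hχ
    simp only [hres ρ, if_true, ← hus] at hd
    have h := Φ.mC_one_dual 1 θ χ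
    simp only [map_one, one_mul] at h
    rw [← h, Fin.sum_univ_four, hd 2 (by decide), hd 3 (by decide)]
    have h1 := hd 1 (by decide)
    rw [hα θ hθ] at h1 ⊢
    simp only [show ∀ l : Fin 4, sgn l (1 : Four) = 1 from fun l => by simp [sgn], Int.cast_one, one_mul]
    linear_combination -(3 : ℂ) * (k : ℂ) * h1
  obtain ⟨n, hn⟩ := Φ.sum_coset_dvd 1 χ
  simp only [map_one, one_mul] at hn
  have h := (Φ.fourier (fun y => (χ : G → ℂ) (y : G)) _ hP).1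
  rw [hn, OneMemClass.coe_one, irr_apply_one_eq_deg] at h
  refine ⟨n + 4 * α - us, Int.cast_injective (α := ℂ) (mul_left_cancel₀ Φ.k_ne ?_)⟩
  push_cast
  linear_combination h

include htame in
/-- The congruences at a character constant in `θ`. -/
theorem congr_out (χ : IrrCharacter G) (u α : ℤ) (hu : (χ : G → ℂ) t = u)
    (hα : ∀ θ : Φ.K →* ℂˣ, θ ≠ 1 → ∀ l, Φ.mC 1 l θ (Φ.res (one_mem _) 1) χ = α) :
    (k : ℤ) ∣ u ∧ (k : ℤ) ∣ (deg (χ : G → ℂ) : ℤ) + 4 * α := by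
  have hsum : ∀ w₀ : Four, ∑ l : Fin 4, sgn l w₀ = if w₀ = 1 then 4 else 0 := by decide +kernel
  have hP : ∀ w₀ : Four, ∀ θ : Φ.K →* ℂˣ, θ ≠ 1 →
      ∑ y : Φ.K, conj ((θ y : ℂ) - 1) * (χ : G → ℂ) (Φ.vel w₀ * y) =
        (k : ℂ) * ((if w₀ = 1 then 4 else 0 : ℤ) * (α : ℂ)) := fun w₀ θ hθ => by
    rw [← Φ.mC_one_dual w₀, Finset.sum_congr rfl fun l _ => by rw [hα θ hθ l], ← Finset.sum_mul, ← Int.cast_sum,
      hsum]
  constructor
  · obtain ⟨n, hn⟩ := Φ.sum_coset_dvd (-1, 1) χ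
    have h0 := (Φ.fourier (fun y => (χ : G → ℂ) (Φ.vel (-1, 1) * y)) _ (hP (-1, 1))).2 (by simp)
    rw [Finset.sum_eq_single (1 : Φ.K) (fun y _ hy => h0 y hy) (fun h => absurd (Finset.mem_univ _) h),
      OneMemClass.coe_one, mul_one, Φ.vel_tee, hu] at hn
    exact ⟨n, by exact_mod_cast hn⟩
  · obtain ⟨n, hn⟩ := Φ.sum_coset_dvd 1 χ
    simp only [map_one, one_mul] at hn
    have h := (Φ.fourier (fun y => (χ : G → ℂ) (Φ.vel 1 * y)) _ (hP 1)).1
    simp only [map_one, one_mul] at h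
    rw [hn, OneMemClass.coe_one, irr_apply_one_eq_deg] at h
    refine ⟨n + 4 * α, Int.cast_injective (α := ℂ) (mul_left_cancel₀ Φ.k_ne ?_)⟩
    push_cast at h ⊢
    linear_combination h

end TFrame

end Cfsg.Lib.Ree.Three
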