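import Cfsg.Agent.Ree.Three.ArithA

/-!
The configuration B with eight members does not occur: `h / a` and `h / b` are congruent to `3 Q` modulo
`2 (Q - 1)` and satisfy two equations that force incompatible sizes.
-/

set_option autoImplicit false
set_option linter.unusedSectionVars false

namespace Cfsg.Lib.Ree.Three

open Cfsg

theorem zmod_eq {x y : ℤ} {m : ℕ} (h : (m : ℤ) ∣ x - y) : (x : ZMod m) = y :=
  ((ZMod.intCast_eq_intCast_iff_dvd_sub y x m).2 h).symm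

theorem dvd_of_zmod {x y : ℤ} {m : ℕ} (h : (x : ZMod m) = y) : (m : ℤ) ∣ x - y :=
  (ZMod.intCast_eq_intCast_iff_dvd_sub y x m).1 h.symm

namespace Base

variable {Q h : ℤ} (B : Base Q h)
include B

/-- `Q²` divides `h`. -/
theorem exists_f {D : ℤ} (hh : h * midVal Q = -(Q ^ 2 * D)) : ∃ f, h = Q ^ 2 * f ∧ D = -(midVal Q * f) := by
  obtain ⟨f, hf⟩ : Q ^ 2 ∣ h :=
    (B.cop_mid.symm.pow_left (m := 2)).dvd_of_dvd_mul_right ⟨-D, by rw [hh]; ring⟩
  refine ⟨f, hf, mul_left_cancel₀ (pow_ne_zero 2 B.Q_ne) ?_⟩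
  rw [hf] at hh
  linarith

/-- The residue of `h` modulo 8 and `(Q - 1) / 4`. -/
theorem residue {f D : ℤ} (hD : D = -(midVal Q * f)) (h8 : (8 : ℤ) ∣ D - midVal Q) (hk : (Q - 1) / 4 ∣ D + 3)
    (hf : h = Q ^ 2 * f) : (8 : ℤ) ∣ h + 1 ∧ (Q - 1) / 4 ∣ h - 3 := by
  set k := (Q - 1) / 4 with hkd
  have h4 := B.four_k
  refine ⟨?_, ?_⟩
  · have hMo : IsCoprime (8 : ℤ) (midVal Q) := by
      have h2 : midVal Q % 2 = 1 := by have := B.mid_eq; omega
      obtain ⟨m, hm⟩ : ∃ m, midVal Q = 2 * m + 1 := ⟨midVal Q / 2, by omega⟩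
      have : IsCoprime (2 : ℤ) (midVal Q) := ⟨-m, 1, by rw [hm]; ring⟩
      simpa using this.pow_left (m := 3)
    have hf8 : (8 : ℤ) ∣ f + 1 := hMo.dvd_of_dvd_mul_left (by
      rw [hD] at h8
      have := h8.neg_right
      rwa [show -(-(midVal Q * f) - midVal Q) = midVal Q * (f + 1) by ring] at this)
    have hQ2 : (8 : ℤ) ∣ Q ^ 2 - 1 := by
      obtain ⟨m, hm⟩ : ∃ m, Q = 8 * m + 5 := ⟨Q / 8, by have := B.mod_eight; omega⟩
      exact ⟨8 * m ^ 2 + 10 * m + 3, by rw [hm]; ring⟩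
    rw [hf, show Q ^ 2 * f + 1 = (Q ^ 2 - 1) * f + (f + 1) by ring]
    exact dvd_add (hQ2.mul_right f) hf8
  · have hf3 : k ∣ f - 3 := by
      rw [hD] at hk
      have h1 : k ∣ (midVal Q - 1) * f := Dvd.dvd.mul_right ⟨2, by rw [B.mid_eq, ← hkd]; ring⟩ f
      have := (h1.add hk).neg_right
      rwa [show -((midVal Q - 1) * f + (-(midVal Q * f) + 3)) = f - 3 by ring] at this
    rw [hf, show Q ^ 2 * f - 3 = (Q - 1) * ((Q + 1) * f) + (f - 3) by ring]
    exact dvd_add (Dvd.dvd.mul_right ⟨4, by linarith⟩ _) hf3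

/-- Combine the congruences modulo 8 and `(Q - 1) / 4`. -/
theorem combine {x : ℤ} (h8 : (8 : ℤ) ∣ x) (hk : (Q - 1) / 4 ∣ x) : 2 * (Q - 1) ∣ x := by
  have := B.cop_eight.mul_dvd (by simpa using h8) hk
  rwa [show ((8 : ℕ) : ℤ) * ((Q - 1) / 4) = 2 * (Q - 1) by
    have := B.four_k
    push_cast
    linarith] at this

/-- `y = h / a` is congruent to `3 Q`. -/
theorem quot_congr {a y : ℤ} (hy : h = a * y) (ha : (8 : ℤ) ∣ a - 1) (hak : (Q - 1) / 4 ∣ a - 1)
    (h8 : (8 : ℤ) ∣ h + 1) (hk : (Q - 1) / 4 ∣ h - 3) : 2 * (Q - 1) ∣ y - 3 * Q := by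
  refine B.combine ?_ ?_
  · obtain ⟨m, hm⟩ : ∃ m, Q = 8 * m + 5 := ⟨Q / 8, by have := B.mod_eight; omega⟩
    rw [show y - 3 * Q = (h + 1) - (a - 1) * y - 8 * (3 * m + 2) by rw [hy, hm]; ring]
    exact dvd_sub (dvd_sub h8 (ha.mul_right y)) (dvd_mul_right _ _)
  · rw [show y - 3 * Q = (h - 3) - (a - 1) * y - 3 * (Q - 1) by rw [hy]; ring]
    exact dvd_sub (dvd_sub hk (hak.mul_right y)) (Dvd.dvd.mul_left ⟨4, by linarith [B.four_k]⟩ _)

end Base

/-- The sizes are incompatible. -/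
theorem eightB_sizes {q j T i l : ℤ} (hq : 243 ≤ q) (hj : j = q + 3 + 2 * (q + 1) * i)
    (hT : T = -(q - 2) + 2 * (q + 1) * l)
    (hE : |(q - 1) * j * T + 2 * q ^ 2 * (j - q)| < 2 * |j - q| * |T|) : False := by
  have hq2 : (0 : ℤ) < q := by omega
  rcases le_or_gt i (-1) with hi | hi
  · have hjn : j ≤ -(q - 1) := by rw [hj]; nlinarith
    obtain ⟨J, rfl⟩ : ∃ J, j = -J := ⟨-j, by ring⟩
    have hd : |(-J) - q| = J + q := by rw [abs_of_neg (by linarith)]; ring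
    rw [hd] at hE
    rcases le_or_gt 1 l with hl | hl
    · have hT' : q + 4 ≤ T := by rw [hT]; nlinarith
      rw [abs_of_pos (show (0 : ℤ) < T by linarith)] at hE
      have h1 := (abs_lt.1 hE).1
      nlinarith [mul_le_mul_of_nonneg_left hT' (show (0 : ℤ) ≤ J by linarith)]
    rcases (show l = 0 ∨ l = -1 ∨ l ≤ -2 by omega) with rfl | rfl | hl2
    · have hT' : T = -(q - 2) := by rw [hT]; ring
      rw [hT', abs_neg, abs_of_pos (show (0 : ℤ) < q - 2 by linarith)] at hE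
      have h1 := (abs_lt.1 hE).1
      nlinarith
    · have hT' : T = -(3 * q) := by rw [hT]; ring
      rw [hT', abs_neg, abs_of_pos (show (0 : ℤ) < 3 * q by linarith)] at hE
      rcases eq_or_lt_of_le (show i ≤ -1 from hi) with rfl | hi2
      · have : J = q - 1 := by linarith [hj]
        subst this
        have h1 := (abs_lt.1 hE).1
        nlinarith
      · have hJ : 3 * q + 1 ≤ J := by nlinarith
        have h1 := (abs_lt.1 hE).2
        nlinarith [mul_le_mul_of_nonneg_left hJ (show (0 : ℤ) ≤ q * (q - 9) by nlinarith)]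
    · have hT' : 5 * q + 2 ≤ -T := by rw [hT]; nlinarith
      rw [abs_of_neg (show T < 0 by linarith)] at hE
      have h1 := (abs_lt.1 hE).2
      have hJ : q - 1 ≤ J := by linarith
      nlinarith [mul_le_mul_of_nonneg_left hT' (show (0 : ℤ) ≤ (q - 3) * J - 2 * q by nlinarith),
        mul_le_mul_of_nonneg_left hJ (show (0 : ℤ) ≤ 3 * q ^ 2 - 13 * q - 6 by nlinarith)]
  have hi0 : 0 ≤ i := by omega
  rcases eq_or_lt_of_le hi0 with rfl | hi1
  · have hj' : j = q + 3 := by rw [hj]; ring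
    subst hj'
    have hTq : q - 2 ≤ |T| := by
      rcases le_or_gt 1 l with hl | hl
      · have : q + 4 ≤ T := by rw [hT]; nlinarith
        exact le_trans (by linarith) (le_abs_self T)
      · have : T ≤ -(q - 2) := by rw [hT]; nlinarith
        exact le_trans (by linarith) (neg_le_abs T)
    rw [show q + 3 - q = 3 by ring, show |(3 : ℤ)| = 3 by norm_num] at hE
    have h1 : |(q - 1) * (q + 3) * T| ≤ |(q - 1) * (q + 3) * T + 2 * q ^ 2 * 3| + |2 * q ^ 2 * 3| := by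
      have := abs_sub ((q - 1) * (q + 3) * T + 2 * q ^ 2 * 3) (2 * q ^ 2 * 3)
      rwa [add_sub_cancel_right] at this
    rw [abs_mul, abs_of_pos (show (0 : ℤ) < (q - 1) * (q + 3) by nlinarith),
      abs_of_pos (show (0 : ℤ) < 2 * q ^ 2 * 3 by positivity)] at h1
    nlinarith [mul_le_mul_of_nonneg_left hTq (show (0 : ℤ) ≤ (q - 1) * (q + 3) - 6 by nlinarith)]
  · have hj3 : 3 * q + 5 ≤ j := by rw [hj]; nlinarith
    rw [abs_of_pos (show (0 : ℤ) < j - q by linarith)] at hE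
    rcases le_or_gt 1 l with hl | hl
    · have hT' : q + 4 ≤ T := by rw [hT]; nlinarith
      rw [abs_of_pos (show (0 : ℤ) < T by linarith)] at hE
      have h1 := (abs_lt.1 hE).2
      nlinarith [mul_pos (show (0 : ℤ) < T by linarith) (show (0 : ℤ) < (q - 3) * j + 2 * q by nlinarith),
        mul_pos (show (0 : ℤ) < q * q by positivity) (show (0 : ℤ) < j - q by linarith)]
    rcases (show l = 0 ∨ l ≤ -1 by omega) with rfl | hl2
    · have hT' : T = -(q - 2) := by rw [hT]; ring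
      rw [hT', abs_neg, abs_of_pos (show (0 : ℤ) < q - 2 by linarith)] at hE
      have h1 := (abs_lt.1 hE).2
      nlinarith [mul_le_mul_of_nonneg_left hj3 (show (0 : ℤ) ≤ q ^ 2 + q + 2 by nlinarith)]
    · have hT' : 3 * q ≤ -T := by rw [hT]; nlinarith
      rw [abs_of_neg (show T < 0 by linarith)] at hE
      have h1 := (abs_lt.1 hE).1
      nlinarith [mul_le_mul_of_nonneg_left hT' (show (0 : ℤ) ≤ (q - 3) * j + 2 * q by nlinarith),
        mul_le_mul_of_nonneg_left hj3 (show (0 : ℤ) ≤ q ^ 2 - 9 * q by nlinarith)]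

/-- The second configuration is impossible. -/
theorem eightBSpec : EightBSpec := by
  intro Q h a b D5 D6 D7 D8 Z Z' X
  obtain ⟨na, nb, n5, n6, n7, n8, nZ, nZ'⟩ := X.ne
  have hb := X.toBase
  set M := midVal Q with hM
  have qa : (a : ℚ) ≠ 0 := by exact_mod_cast na
  have qb : (b : ℚ) ≠ 0 := by exact_mod_cast nb
  have q5 : (D5 : ℚ) ≠ 0 := by exact_mod_cast n5
  have q6 : (D6 : ℚ) ≠ 0 := by exact_mod_cast n6
  have qh : (h : ℚ) ≠ 0 := by exact_mod_cast hb.h_ne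
  have qM : (M : ℚ) ≠ 0 := by exact_mod_cast hb.mid_ne
  have qQ : (Q : ℚ) ≠ 0 := by exact_mod_cast hb.Q_ne
  have h2M : (2 : ℚ) * M = Q + 1 := by exact_mod_cast hb.two_mid
  -- `D5 = D7`
  have h57 : D7 = D5 := by
    have q7 : (D7 : ℚ) ≠ 0 := by exact_mod_cast n7
    have e := X.eq_b
    rw [← h2M, ← hM] at e
    have e2 : (M : ℚ) ^ 2 * (((D7 : ℚ) + D5) * (D5 + D7)) = (2 * M) ^ 2 * (D5 * D7) := by
      rw [← e]; field_simp
    have e' : (M : ℚ) ^ 2 * ((D7 : ℚ) - D5) ^ 2 = 0 := by linear_combination e2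
    exact_mod_cast sub_eq_zero.1 (pow_eq_zero_iff two_ne_zero |>.1
      ((mul_eq_zero.1 e').resolve_left (pow_ne_zero 2 qM)))
  have h68 : D8 = D6 := by linarith [X.col_al, X.col_be, h57]
  -- `h M = -Q² D5`
  set V : ℚ := (Q : ℚ) ^ 2 * (1 / (Z : ℚ) + 1 / (Z' : ℚ)) with hV
  have ex : (h : ℚ) * (-1 / a - 1 / b + V) = -((Q : ℚ) + 1) * Q * ((Q : ℚ) ^ 2 - 1) := X.eq_x
  have eal := X.eq_al
  have ef := X.eq_f
  rw [h68] at ef
  have eY : -(a : ℚ) - b - D6 - D6 - Z - Z' = 2 * D5 := by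
    have : -a - b - D6 - D6 - Z - Z' = 2 * D5 := by linarith [X.col_x, X.col_al]
    exact_mod_cast this
  rw [eY] at ef
  have hX : (h : ℚ) * (-1 / (a : ℚ) - 1 / (b : ℚ) - (M : ℚ) ^ 2 * (1 / (D6 : ℚ) + 1 / (D6 : ℚ)) - V +
      ((Q : ℚ) - 1) * Q * ((Q : ℚ) ^ 2 - 1) / h) = 2 * h * (M : ℚ) ^ 2 / D5 - 8 * (Q : ℚ) ^ 2 * ((Q : ℚ) + 1) := by
    rw [mul_add (h : ℚ), mul_div_cancel₀ _ qh]
    linear_combination -2 * eal + ex
  have hh : h * M = -(Q ^ 2 * D5) := by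
    have e3 : (2 * h * (M : ℚ) ^ 2 / D5 - 8 * (Q : ℚ) ^ 2 * (2 * M)) * (2 * D5) = 9 * (2 * (M : ℚ)) ^ 2 * h := by
      rw [h2M, ← hX]; linear_combination (h : ℚ) * ef
    field_simp at e3
    have e4 : (M : ℚ) * ((h : ℚ) * M) = M * -((Q : ℚ) ^ 2 * D5) := by linear_combination -((M : ℚ) / 8) * e3
    exact_mod_cast mul_left_cancel₀ qM e4
  obtain ⟨f, hf, hD⟩ := hb.exists_f hh
  rw [← hM] at hD
  have hf0 : f ≠ 0 := fun e => hb.h_ne (by rw [hf, e, mul_zero])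
  have qf : (f : ℚ) ≠ 0 := by exact_mod_cast hf0
  obtain ⟨ha8, hb8, h58, -, -, -, -, -⟩ := X.congr
  obtain ⟨hak, hbk, h5k, -, -, -⟩ := X.congr_k
  obtain ⟨hr8, hrk⟩ := hb.residue hD h58 h5k hf
  obtain ⟨⟨y₁, hy₁⟩, ⟨y₂, hy₂⟩, -, -, -, -, ⟨z, hz⟩, ⟨z', hz'⟩⟩ := X.dvd
  have hc₁ := hb.quot_congr hy₁ (by omega) hak hr8 hrk
  have hc₂ := hb.quot_congr hy₂ (by omega) hbk hr8 hrk
  have hyn₁ : y₁ ≠ 0 := fun e => hb.h_ne (by rw [hy₁, e, mul_zero])
  have hyn₂ : y₂ ≠ 0 := fun e => hb.h_ne (by rw [hy₂, e, mul_zero])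
  -- `y₁ + y₂ = Q R`
  have hsum : y₁ + y₂ = Q * (z + z' + (Q + 1) * (Q ^ 2 - 1)) := by
    have e1 : (h : ℚ) / a = y₁ := by rw [hy₁]; push_cast; field_simp
    have e2 : (h : ℚ) / b = y₂ := by rw [hy₂]; push_cast; field_simp
    have e3 : (h : ℚ) * Q / Z = z := by
      rw [div_eq_iff (by exact_mod_cast nZ : (Z : ℚ) ≠ 0)]
      have := congrArg (Int.cast : ℤ → ℚ) hz
      push_cast at this
      linear_combination this
    have e4 : (h : ℚ) * Q / Z' = z' := by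
      rw [div_eq_iff (by exact_mod_cast nZ' : (Z' : ℚ) ≠ 0)]
      have := congrArg (Int.cast : ℤ → ℚ) hz'
      push_cast at this
      linear_combination this
    have e5 : ((y₁ : ℚ) + y₂) = Q * (z + z' + (Q + 1) * ((Q : ℚ) ^ 2 - 1)) := by
      rw [← e1, ← e2, ← e3, ← e4]
      linear_combination -ex
    exact_mod_cast e5
  set R := z + z' + (Q + 1) * (Q ^ 2 - 1) with hR
  have hR6 : 2 * (Q - 1) ∣ R - 6 := by
    have h1 := hc₁.add hc₂
    rw [show y₁ - 3 * Q + (y₂ - 3 * Q) = Q * (R - 6) by rw [mul_sub, ← hsum]; ring] at h1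
    refine IsCoprime.dvd_of_dvd_mul_left (IsCoprime.mul_left ?_ ?_) h1
    · exact ⟨-(Q / 2), 1, by have := hb.mod_eight; omega⟩
    · exact ⟨-1, 1, by ring⟩
  set w := Q * (Q + 1) * (Q + 3) - R with hw
  have hw2 : 2 * (Q - 1) ∣ w - 2 := by
    have h8 : 2 * (Q - 1) ∣ Q * (Q + 1) * (Q + 3) - 8 := by
      obtain ⟨m, hm⟩ : ∃ m, Q = 2 * m + 1 := ⟨Q / 2, by have := hb.mod_eight; omega⟩
      exact ⟨2 * m ^ 2 + 7 * m + 7, by rw [hm]; ring⟩
    rw [show w - 2 = (Q * (Q + 1) * (Q + 3) - 8) - (R - 6) by rw [hw]; ring]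
    exact dvd_sub h8 hR6
  -- the main equation
  have hmain : w * (M * (y₁ * y₂) - Q ^ 3 * R) = Q ^ 4 * M * R := by
    have h6 : D6 = -(a + b) + M * f := by linarith [X.col_al, hD]
    have e1 : (h : ℚ) / a = y₁ := by rw [hy₁]; push_cast; field_simp
    have e2 : (h : ℚ) / b = y₂ := by rw [hy₂]; push_cast; field_simp
    have e5 : (h : ℚ) * (M : ℚ) ^ 2 / D5 = -(Q : ℚ) ^ 2 * M := by
      rw [hD, hf]; push_cast; field_simp
    have hs : ((y₁ : ℚ) + y₂) = Q * R := by exact_mod_cast hsum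
    have hwq : (w : ℚ) = Q * ((Q : ℚ) + 1) * ((Q : ℚ) + 3) - R := by exact_mod_cast hw
    have e6 : (h : ℚ) * (M : ℚ) ^ 2 / D6 = Q * (w + Q * M) := by
      rw [hwq]
      linear_combination eal - ex - e1 - e2 - e5 - hs
    rw [div_eq_iff q6] at e6
    have e7 : h * M ^ 2 = Q * (w + Q * M) * D6 := by exact_mod_cast e6
    have e8 : h * M ^ 2 * (y₁ * y₂) = Q * (w + Q * M) * (D6 * (y₁ * y₂)) := by rw [e7]; ring
    have e9 : D6 * (y₁ * y₂) = f * (M * (y₁ * y₂) - Q ^ 3 * R) := by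
      rw [h6]
      linear_combination (y₂ : ℤ) * hy₁ + (y₁ : ℤ) * hy₂ - (y₁ + y₂) * hf - (Q ^ 2 * f) * hsum
    rw [e9, hf] at e8
    refine mul_left_cancel₀ (mul_ne_zero hb.Q_ne hf0) ?_
    linear_combination -e8
  -- `M` divides `w`
  obtain ⟨j, hj⟩ : M ∣ w := by
    have hg : 0 < Int.gcd M w := Int.gcd_pos_of_ne_zero_left _ hb.mid_ne
    obtain ⟨g, M', w', hg0, hcop, hMg, hwg⟩ := Int.exists_gcd_one' hg
    have hR' : R = (g : ℤ) * (2 * M' * Q * (Q + 3) - w') := by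
      have := hb.two_mid
      linear_combination -hw - hwg + (2 * Q * (Q + 3)) * hMg - (Q * (Q + 3)) * this
    have hg' : (g : ℤ) ≠ 0 := by exact_mod_cast hg0.ne'
    have h1 : w' * (M' * (y₁ * y₂) - Q ^ 3 * (2 * M' * Q * (Q + 3) - w')) =
        Q ^ 4 * M' * (2 * M' * Q * (Q + 3) - w') := by
      refine mul_left_cancel₀ (pow_ne_zero 2 hg') ?_
      rw [hwg, hMg, hR'] at hmain
      linear_combination hmain
    have h2 : M' ∣ Q ^ 3 * (w' * w') :=
      ⟨Q ^ 4 * (2 * M' * Q * (Q + 3) - w') - w' * (y₁ * y₂) + w' * Q ^ 3 * (2 * Q * (Q + 3)), by linear_combination h1⟩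
    have hcw : IsCoprime M' w' := Int.isCoprime_iff_gcd_eq_one.2 hcop
    have hcQ : IsCoprime M' Q := IsCoprime.of_isCoprime_of_dvd_left hb.cop_mid ⟨(g : ℤ), by rw [← hM, hMg]⟩
    have h3 : IsUnit M' := (hcQ.pow_right (n := 3)).mul_right (hcw.mul_right hcw) |>.isUnit_of_dvd' dvd_rfl h2
    rw [hMg, hwg]
    exact mul_dvd_mul h3.dvd dvd_rfl
  set r := 2 * Q * (Q + 3) - j with hr
  have hRr : R = M * r := by
    have := hb.two_mid
    linear_combination -hw - hj - (Q * (Q + 3)) * this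
  have hjπ : j * (y₁ * y₂) = Q ^ 3 * r * (Q + j) := by
    refine mul_left_cancel₀ (pow_ne_zero 2 hb.mid_ne) ?_
    rw [hj, hRr] at hmain
    linear_combination hmain
  -- the residues
  obtain ⟨q, rfl⟩ : ∃ q, Q = -q := ⟨-Q, by ring⟩
  have hq : 243 ≤ q := by have := hb.big; omega
  have h2m : 2 * M = 1 - q := by have := hb.two_mid; linarith
  have hres : ∀ x t : ℤ, 2 * (-q - 1) ∣ x - t → ∃ i, x = t + 2 * (q + 1) * i := fun x t ⟨i, hi⟩ =>
    ⟨-i, by linarith⟩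
  obtain ⟨i, hji⟩ : ∃ i, j = q + 3 + 2 * (q + 1) * i := by
    have ho : ∃ i, j = 2 * i := by
      obtain ⟨e, he⟩ := hw2
      have hMo : M % 2 = 1 := by have := hb.mid_eq; omega
      have hwe : w % 2 = 0 := by rw [show w = 2 + 2 * ((-q - 1) * e) by linarith]; omega
      refine ⟨j / 2, ?_⟩
      have : (M * j) % 2 = 0 := hj ▸ hwe
      rw [Int.mul_emod, hMo] at this
      omega
    obtain ⟨i₀, rfl⟩ := ho
    obtain ⟨e, he⟩ := hw2
    rw [hj] at he
    have hi : i₀ * (1 - q) - 2 = 2 * (-q - 1) * e := by linear_combination he - i₀ * h2m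
    obtain ⟨m, hm⟩ : ∃ m, q = 4 * m + 3 := ⟨q / 4, by have := hb.mod_eight; omega⟩
    subst hm
    have hodd : ∃ s, i₀ = 2 * s + 1 := by
      refine ⟨i₀ / 2, ?_⟩
      have h' : i₀ * (2 * m + 1) + 1 = 4 * ((m + 1) * e) := by linarith
      have : (i₀ * (2 * m + 1)) % 2 = 1 := by omega
      rw [Int.mul_emod, show (2 * m + 1) % 2 = 1 by omega] at this
      omega
    obtain ⟨s, rfl⟩ := hodd
    exact ⟨s - e, by linear_combination hi⟩
  obtain ⟨l, hrl⟩ : ∃ l, r = -(q - 5) + 2 * (q + 1) * l := by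
    refine ⟨q - 4 - i, ?_⟩
    rw [hr, hji]; ring
  -- one of `y₁`, `y₂` is large
  have hr5 : q - 5 ≤ |r| := by
    rcases le_or_gt 1 l with h1 | h1
    · exact le_trans (by rw [hrl]; nlinarith) (le_abs_self r)
    · exact le_trans (by rw [hrl]; nlinarith) (neg_le_abs r)
  have hs : q * (q - 1) * (q - 5) ≤ 2 * |y₁ + y₂| := by
    rw [hsum, hRr, abs_mul, abs_mul, abs_neg, abs_of_pos (show (0 : ℤ) < q by omega),
      show |M| = -M from abs_of_neg (by omega)]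
    nlinarith [mul_le_mul_of_nonneg_left hr5 (show (0 : ℤ) ≤ q * (q - 1) by nlinarith)]
  have key : ∀ u T : ℤ, u + T = y₁ + y₂ → u * T = y₁ * y₂ → T ≠ 0 → |T| ≤ |u| →
      2 * (-q - 1) ∣ T - 3 * -q → False := by
    intro u T hsu hpr hT0 hle hTc
    obtain ⟨l', hl'⟩ := hres _ _ hTc
    have hT : T = -(q - 2) + 2 * (q + 1) * (l' - 1) + 0 := by rw [hl']; ring
    have hu : q ^ 2 < |u| := by
      have := abs_add_le u T
      rw [hsu] at this
      nlinarith [mul_le_mul_of_nonneg_left (show 6 ≤ q - 5 by linarith) (show (0 : ℤ) ≤ q * (q - 1) by nlinarith)]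
    have hrel : (-q + j) * (y₁ + y₂) * (-q) ^ 2 = M * j * (y₁ * y₂) := by
      rw [hsum, hRr]; linear_combination -M * hjπ
    have hE : (M * j * T - (-q) ^ 2 * (-q + j)) * u = (-q) ^ 2 * (-q + j) * T := by
      linear_combination -hrel + (M * j) * hpr - ((-q) ^ 2 * (-q + j)) * hsu
    have hjq : -q + j ≠ 0 := by
      rcases le_or_gt 0 i with h1 | h1
      · rw [hji]; nlinarith
      · rw [hji]; nlinarith
    have habs : |M * j * T - (-q) ^ 2 * (-q + j)| < |-q + j| * |T| := by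
      have h3 := congrArg abs hE
      rw [abs_mul, abs_mul, abs_mul, show |(-q) ^ 2| = q ^ 2 by rw [neg_sq, abs_of_nonneg (sq_nonneg q)]] at h3
      by_contra hc
      push Not at hc
      have h4 := mul_le_mul_of_nonneg_right hc (abs_nonneg u)
      rw [h3] at h4
      have h5 : 0 < |-q + j| * |T| := mul_pos (abs_pos.2 hjq) (abs_pos.2 hT0)
      nlinarith
    refine eightB_sizes hq hji (T := T) (l := l' - 1) (by linarith) ?_
    rw [show (q - 1) * j * T + 2 * q ^ 2 * (j - q) = -(2 * (M * j * T - (-q) ^ 2 * (-q + j))) by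
      linear_combination (j * T) * h2m, abs_neg, abs_mul, show |(2 : ℤ)| = 2 by norm_num,
      show j - q = -q + j by ring]
    linarith
  rcases le_total |y₁| |y₂| with hle | hle
  · exact key y₂ y₁ (by ring) (by ring) hyn₁ hle hc₁
  · exact key y₁ y₂ rfl rfl hyn₂ hle hc₂

end Cfsg.Lib.Ree.Three
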