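import Cfsg.Agent.Ree.Three.ArithEightB

/-!
The configuration B with seven members does not occur: with `y = h / a` and `z = h Q / Z` one finds
`y = ε (ε - Q - 1)` and `z = ε (ε - Q (Q + 1))`, and `ε` is an integer root of a quintic with none.
-/

set_option autoImplicit false
set_option linter.unusedSectionVars false

namespace Cfsg.Lib.Ree.Three

open Cfsg

/-- The quintic of the seven-member configuration B. -/
def sevenPoly (Q ε : ℤ) : ℤ :=
  (Q ^ 3 + 7 * Q ^ 2 + Q + ε * (1 + Q ^ 2) - ε ^ 2) *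
      (ε * (ε - (Q + 1)) * (ε - (Q + 1) * Q) - Q ^ 2 * (ε - 2 * Q)) -
    4 * Q ^ 2 * (ε * (ε - (Q + 1)) * (ε - (Q + 1) * Q))

/-- The root is not below `Q + 3`. -/
theorem sevenPoly_low {u t : ℤ} (hu : 0 ≤ u) (ht : 0 ≤ t) : 0 < sevenPoly (-(u + 243)) (-(u + 243) + 2 - t) := by
  have h : sevenPoly (-(u + 243)) (-(u + 243) + 2 - t) =
    (1) * t ^ 5 +
    (2 * u ^ 2 + 975 * u + 118819) * t ^ 4 +
    (1 * u ^ 4 + 978 * u ^ 3 + 358654 * u ^ 2 + 58451688 * u + 3572046808) * t ^ 3 +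
    (3 * u ^ 5 + 3641 * u ^ 4 + 1767552 * u ^ 3 + 429028202 * u ^ 2 + 52066887600 * u +
      2527490476816) * t ^ 2 +
    (2 * u ^ 6 + 2904 * u ^ 5 + 1756906 * u ^ 4 + 566886000 * u ^ 3 + 102887366840 * u ^ 2 +
      9959183059968 * u + 401671275448960) * t ^ 1 +
    (4 * u ^ 5 + 4840 * u ^ 4 + 2342496 * u ^ 3 + 566852924 * u ^ 2 + 68583533664 * u +
      3319075559872) := by
    unfold sevenPoly; ring
  rw [h]; positivity

/-- No root between `Q + 3` and `-2`. -/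
theorem sevenPoly_neg {u ε l r : ℤ} (hu : 0 ≤ u) (hl : l = (-2) - ε) (hr : r = ε - (-(u + 243) + 3)) (hl0 : 0 ≤ l)
    (hr0 : 0 ≤ r) : 0 < -sevenPoly (-(u + 243)) ε := by
  refine pos_of_mul_pos_right (a := (u + 238) ^ 5) ?_ (by positivity)
  have h : (u + 238) ^ 5 * (-sevenPoly (-(u + 243)) ε) =
    (2 * u ^ 6 + 2897 * u ^ 5 + 1748426 * u ^ 4 + 562776930 * u ^ 3 + 101891844366 * u ^ 2 +
      9838591089417 * u + 395828281340262) * l ^ 5 +
    (2 * u ^ 7 + 3384 * u ^ 6 + 2453836 * u ^ 5 + 988507186 * u ^ 4 + 238922482580 * u ^ 3 +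
      34647915818582 * u ^ 2 + 2791363428959382 * u + 96376369824895788) * l ^ 4 * r ^ 1 +
    (5 * u ^ 7 + 8450 * u ^ 6 + 6120136 * u ^ 5 + 2462563192 * u ^ 4 + 594510328690 * u ^ 3 +
      86114670147348 * u ^ 2 + 6929738581141878 * u + 238986990593857908) * l ^ 3 * r ^ 2 +
    (4 * u ^ 7 + 6758 * u ^ 6 + 4893232 * u ^ 5 + 1968326520 * u ^ 4 + 475057268152 * u ^ 3 +
      68792689843328 * u ^ 2 + 5534295903664992 * u + 190810363070763040) * l ^ 2 * r ^ 3 +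
    (1 * u ^ 7 + 1690 * u ^ 6 + 1224036 * u ^ 5 + 492523336 * u ^ 4 + 118907267400 * u ^ 3 +
      17224198649542 * u ^ 2 + 1386101439721561 * u + 47804872456199094) * l ^ 1 * r ^ 4 +
    (2 * u ^ 5 + 2438 * u ^ 4 + 1188728 * u ^ 3 + 289792066 * u ^ 2 + 35322042162 * u +
      1722068909604) * r ^ 5 := by
    subst hl hr; unfold sevenPoly; ring
  rw [h]
  rcases hl0.eq_or_lt with h0 | h0
  · have : 0 < r := by linarith
    subst h0; positivity
  · positivity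

/-- No root between `-1` and `-Q - 3`. -/
theorem sevenPoly_pos {u ε l r : ℤ} (hu : 0 ≤ u) (hl : l = (u + 240) - ε) (hr : r = ε - (-1)) (hl0 : 0 ≤ l)
    (hr0 : 0 ≤ r) : 0 < sevenPoly (-(u + 243)) ε := by
  refine pos_of_mul_pos_right (a := (u + 241) ^ 5) ?_ (by positivity)
  have h : (u + 241) ^ 5 * sevenPoly (-(u + 243)) ε =
    (1 * u ^ 6 + 1450 * u ^ 5 + 876013 * u ^ 4 + 282252288 * u ^ 3 + 51153153612 * u ^ 2 +
      4944147613664 * u + 199106021659072) * l ^ 5 +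
    (1 * u ^ 7 + 1698 * u ^ 6 + 1235633 * u ^ 5 + 499527772 * u ^ 4 + 121163491992 * u ^ 3 +
      17632985345340 * u ^ 2 + 1425601018847744 * u + 49395100189756480) * l ^ 4 * r ^ 1 +
    (4 * u ^ 7 + 6781 * u ^ 6 + 4926580 * u ^ 5 + 1988472509 * u ^ 4 + 481548005958 * u ^ 3 +
      69968967565980 * u ^ 2 + 5647983234169544 * u + 195388518599781136) * l ^ 3 * r ^ 2 +
    (5 * u ^ 7 + 8472 * u ^ 6 + 6152045 * u ^ 5 + 2481846370 * u ^ 4 + 600725151496 * u ^ 3 +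
      87241315589116 * u ^ 2 + 7038664240561332 * u + 243374796687127320) * l ^ 2 * r ^ 3 +
    (2 * u ^ 7 + 3390 * u ^ 6 + 2462530 * u ^ 5 + 993755907 * u ^ 4 + 240612387950 * u ^ 3 +
      34953949855028 * u ^ 2 + 2820919814110854 * u + 97565684461464051) * l ^ 1 * r ^ 4 +
    (2 * u ^ 6 + 2881 * u ^ 5 + 1729082 * u ^ 4 + 553421898 * u ^ 3 + 99629664954 * u ^ 2 +
      9565069472181 * u + 382599216003258) * r ^ 5 := by
    subst hl hr; unfold sevenPoly; ring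
  rw [h]
  rcases hl0.eq_or_lt with h0 | h0
  · have : 0 < r := by linarith
    subst h0; positivity
  · positivity

/-- No root just above `(Q + 1) Q`. -/
theorem sevenPoly_step1 {u : ℤ} (hu : 0 ≤ u) : 0 < -sevenPoly (-(u + 243)) ((u + 243) ^ 2 - (u + 243) + 1) := by
  have h : -sevenPoly (-(u + 243)) ((u + 243) ^ 2 - (u + 243) + 1) =
    (4 * u ^ 6 + 5840 * u ^ 5 + 3552664 * u ^ 4 + 1152640368 * u ^ 3 + 210356393796 * u ^ 2 +
      20474627585184 * u + 830356784391744) := by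
    unfold sevenPoly; ring
  rw [h]; positivity

/-- No root just above `(Q + 1) Q`. -/
theorem sevenPoly_step2 {u : ℤ} (hu : 0 ≤ u) : 0 < -sevenPoly (-(u + 243)) ((u + 243) ^ 2 - (u + 243) + 2) := by
  have h : -sevenPoly (-(u + 243)) ((u + 243) ^ 2 - (u + 243) + 2) =
    (3 * u ^ 6 + 4379 * u ^ 5 + 2663292 * u ^ 4 + 863898522 * u ^ 3 + 157626986183 * u ^ 2 +
      15339051205647 * u + 621951509026574) := by
    unfold sevenPoly; ring
  rw [h]; positivity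

/-- No root just above `(Q + 1) Q`. -/
theorem sevenPoly_step3 {u : ℤ} (hu : 0 ≤ u) : 0 < -sevenPoly (-(u + 243)) ((u + 243) ^ 2 - (u + 243) + 3) := by
  have h : -sevenPoly (-(u + 243)) ((u + 243) ^ 2 - (u + 243) + 3) =
    (4 * u ^ 6 + 5828 * u ^ 5 + 3538120 * u ^ 4 + 1145589408 * u ^ 3 + 208647227148 * u ^ 2 +
      20267474055696 * u + 820313817838128) := by
    unfold sevenPoly; ring
  rw [h]; positivity

/-- The quintic has no integer root. -/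
theorem sevenPoly_ne {Q : ℤ} (hQ : Q ≤ -243) (ε : ℤ) : sevenPoly Q ε ≠ 0 := by
  obtain ⟨u, rfl⟩ : ∃ u, Q = -(u + 243) := ⟨-Q - 243, by ring⟩
  have hu : 0 ≤ u := by linarith
  rcases le_or_gt ε (-(u + 243) + 2) with h1 | h1
  · obtain ⟨t, ht, rfl⟩ : ∃ t, 0 ≤ t ∧ ε = -(u + 243) + 2 - t := ⟨-(u + 243) + 2 - ε, by linarith, by ring⟩
    exact (sevenPoly_low hu ht).ne'
  rcases le_or_gt ε (-2) with h2 | h2
  · exact (neg_pos.1 (sevenPoly_neg hu rfl rfl (by linarith) (by linarith))).ne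
  rcases le_or_gt ε (u + 240) with h3 | h3
  · exact (sevenPoly_pos hu rfl rfl (by linarith) (by linarith)).ne'
  set q := u + 243 with hq
  have hq243 : 243 ≤ q := by linarith
  have hq3 : q - 2 ≤ ε := by linarith
  have hsplit : sevenPoly (-q) ε = (-(q ^ 3) + 3 * q ^ 2 - q + ε * (1 + q ^ 2) - ε ^ 2) *
      (ε * (ε + q - 1) * (ε - (q ^ 2 - q)) - q ^ 2 * (ε + 2 * q)) - 4 * q ^ 4 * (ε + 2 * q) := by
    unfold sevenPoly; ring
  have hpos : 0 < 4 * q ^ 4 * (ε + 2 * q) := mul_pos (by positivity) (by linarith)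
  have hEpos : 0 < ε * (ε + q - 1) := mul_pos (by linarith) (by linarith)
  rcases le_or_gt ε (q ^ 2 - q) with h4 | h4
  · have hL : 0 < -(q ^ 3) + 3 * q ^ 2 - q + ε * (1 + q ^ 2) - ε ^ 2 := by
      have h5 : 0 ≤ (q ^ 2 - q - ε) * (ε - (q - 2)) := mul_nonneg (by linarith) (by linarith)
      nlinarith
    have hX : ε * (ε + q - 1) * (ε - (q ^ 2 - q)) - q ^ 2 * (ε + 2 * q) < 0 := by
      have h5 : ε * (ε + q - 1) * (ε - (q ^ 2 - q)) ≤ 0 := mul_nonpos_of_nonneg_of_nonpos hEpos.le (by linarith)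
      have h6 : 0 < q ^ 2 * (ε + 2 * q) := mul_pos (by positivity) (by linarith)
      linarith
    have := mul_neg_of_pos_of_neg hL hX
    linarith [hsplit]
  · obtain ⟨d, hd, rfl⟩ : ∃ d, 1 ≤ d ∧ ε = q ^ 2 - q + d := ⟨ε - (q ^ 2 - q), by linarith, by ring⟩
    rcases (show d = 1 ∨ d = 2 ∨ d = 3 ∨ 4 ≤ d by omega) with rfl | rfl | rfl | hd4
    · exact (neg_pos.1 (sevenPoly_step1 hu)).ne
    · exact (neg_pos.1 (sevenPoly_step2 hu)).ne
    · exact (neg_pos.1 (sevenPoly_step3 hu)).ne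
    have hL : -(q ^ 3) + 3 * q ^ 2 - q + (q ^ 2 - q + d) * (1 + q ^ 2) - (q ^ 2 - q + d) ^ 2 < 0 := by
      nlinarith [mul_le_mul_of_nonneg_left hd4 (show (0 : ℤ) ≤ q ^ 2 - 2 * q by nlinarith)]
    have hX : 0 < (q ^ 2 - q + d) * (q ^ 2 - q + d + q - 1) * (q ^ 2 - q + d - (q ^ 2 - q)) -
        q ^ 2 * (q ^ 2 - q + d + 2 * q) := by
      rw [show q ^ 2 - q + d - (q ^ 2 - q) = d by ring]
      have h5 := mul_le_mul_of_nonneg_left hd4 hEpos.le
      have h6 : q ^ 2 * (q ^ 2 - q + d + 2 * q) ≤ (q ^ 2 - q + d + q - 1) * (2 * (q ^ 2 - q + d)) :=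
        mul_le_mul (by linarith) (by nlinarith) (by nlinarith) (by nlinarith)
      nlinarith
    have := mul_neg_of_neg_of_pos hL hX
    linarith [hsplit]

/-- The configuration B with seven members does not occur. -/
theorem sevenBSpec : SevenBSpec := by
  intro Q h a C B W P R Z X
  obtain ⟨na, nC, nB, nW, nP, nR, nZ⟩ := X.ne
  have hb := X.toBase
  set M := midVal Q with hM
  have qa : (a : ℚ) ≠ 0 := by exact_mod_cast na
  have qB : (B : ℚ) ≠ 0 := by exact_mod_cast nB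
  have qW : (W : ℚ) ≠ 0 := by exact_mod_cast nW
  have qP : (P : ℚ) ≠ 0 := by exact_mod_cast nP
  have qZ : (Z : ℚ) ≠ 0 := by exact_mod_cast nZ
  have qh : (h : ℚ) ≠ 0 := by exact_mod_cast hb.h_ne
  have qM : (M : ℚ) ≠ 0 := by exact_mod_cast hb.mid_ne
  have h2M : (2 : ℚ) * M = Q + 1 := by exact_mod_cast hb.two_mid
  -- `C = B` and `P = R`
  have hCB : C = B := by
    have qC : (C : ℚ) ≠ 0 := by exact_mod_cast nC
    have e := X.eq_b
    rw [← h2M, ← hM] at e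
    have e2 : (M : ℚ) ^ 2 * (((B : ℚ) + C) * (C + B)) = (2 * M) ^ 2 * (C * B) := by
      rw [← e]; field_simp
    have e' : (M : ℚ) ^ 2 * ((C : ℚ) - B) ^ 2 = 0 := by linear_combination e2
    exact_mod_cast sub_eq_zero.1 (pow_eq_zero_iff two_ne_zero |>.1
      ((mul_eq_zero.1 e').resolve_left (pow_ne_zero 2 qM)))
  have hPR : R = P := by linarith [X.col_al, X.col_be, hCB]
  have hZP : 2 * P + Z = a := by linarith [X.col_x, hPR]
  have hWP : B + W + P + Z = 0 := by linarith [X.col_al, hPR]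
  -- `h M = -Q² B`
  have ex : (h : ℚ) * (-1 / a + ((M : ℚ) - 1) ^ 2 * (1 / (P : ℚ) + 1 / P) + (Q : ℚ) ^ 2 / Z) =
      -((Q : ℚ) + 1) * Q * ((Q : ℚ) ^ 2 - 1) := by
    have := X.eq_x
    rwa [hPR, ← hM] at this
  have eal : (h : ℚ) * ((M : ℚ) ^ 2 / B + ((Q : ℚ) + 1) ^ 2 / W + ((M : ℚ) - 1) ^ 2 / P + (Q : ℚ) ^ 2 / Z) =
      (3 * (Q : ℚ) + 1) * Q * ((Q : ℚ) + 1) := by
    have := X.eq_al
    rwa [hPR, ← hM] at this
  have ef := X.eq_f
  have eY : -(a : ℚ) - 2 * W - Z = 2 * B := by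
    have : -a - 2 * W - Z = 2 * B := by linarith
    exact_mod_cast this
  rw [eY] at ef
  have hX : (h : ℚ) * (-1 / (a : ℚ) - 2 * ((Q : ℚ) + 1) ^ 2 / W - (Q : ℚ) ^ 2 / Z +
      ((Q : ℚ) - 1) * Q * ((Q : ℚ) ^ 2 - 1) / h) = 2 * h * (M : ℚ) ^ 2 / B - 8 * (Q : ℚ) ^ 2 * ((Q : ℚ) + 1) := by
    rw [mul_add (h : ℚ), mul_div_cancel₀ _ qh]
    linear_combination -2 * eal + ex
  have hh : h * M = -(Q ^ 2 * B) := by
    have e3 : (2 * h * (M : ℚ) ^ 2 / B - 8 * (Q : ℚ) ^ 2 * (2 * M)) * (2 * B) = 9 * (2 * (M : ℚ)) ^ 2 * h := by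
      rw [h2M, ← hX]; linear_combination (h : ℚ) * ef
    field_simp at e3
    have e4 : (M : ℚ) * ((h : ℚ) * M) = M * -((Q : ℚ) ^ 2 * B) := by linear_combination -((M : ℚ) / 8) * e3
    exact_mod_cast mul_left_cancel₀ qM e4
  obtain ⟨f, hf, hD⟩ := hb.exists_f hh
  rw [← hM] at hD
  have hf0 : f ≠ 0 := fun e => hb.h_ne (by rw [hf, e, mul_zero])
  -- the quotients
  obtain ⟨ha8, -, hB8, -, -, -, hZ8⟩ := X.congr
  obtain ⟨hak, hBk, hZk⟩ := X.congr_k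
  obtain ⟨hr8, hrk⟩ := hb.residue hD hB8 hBk hf
  obtain ⟨⟨y, hy⟩, -, -, -, -, -, ⟨z, hz⟩⟩ := X.dvd
  have hcy := hb.quot_congr hy (by omega) hak hr8 hrk
  have hcz : 2 * (Q - 1) ∣ z - 3 * Q := by
    refine hb.combine ?_ ?_
    · rw [show z - 3 * Q = 5 * Q * (h + 1) - (5 * Z - 1) * z - 8 * Q by linear_combination -5 * hz]
      exact dvd_sub (dvd_sub (hr8.mul_left _) (Dvd.dvd.mul_right (by omega) z)) (dvd_mul_right _ _)
    · rw [show z - 3 * Q = Q * (h - 3) - (Z - 1) * z by linear_combination -hz]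
      exact dvd_sub (hrk.mul_left _) (hZk.mul_right z)
  have hy0 : y ≠ 0 := fun e => hb.h_ne (by rw [hy, e, mul_zero])
  have ey : (h : ℚ) / a = y := by rw [hy]; push_cast; field_simp
  have ez : (h : ℚ) * Q / Z = z := by
    rw [div_eq_iff qZ]
    have := congrArg (Int.cast : ℤ → ℚ) hz
    push_cast at this
    linear_combination this
  -- the first equation
  have hsq : (y - z) ^ 2 = (Q + 1) ^ 2 * (Q - 1) * (Q * y - z) := by
    have hM1 : ((M : ℚ) - 1) = ((Q : ℚ) - 1) / 2 := by linarith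
    have e1 : ((Q : ℚ) - 1) ^ 2 * h / (2 * P) = y - Q * z - ((Q : ℚ) + 1) * Q * ((Q : ℚ) ^ 2 - 1) := by
      rw [← ey, ← ez]
      rw [hM1] at ex
      linear_combination ex
    rw [div_eq_iff (mul_ne_zero two_ne_zero qP)] at e1
    have e2 : (Q - 1) ^ 2 * h = (y - Q * z - (Q + 1) * Q * (Q ^ 2 - 1)) * (2 * P) := by exact_mod_cast e1
    have e3 : h * ((Q - 1) ^ 2 * (y * z)) = h * ((y - Q * z - (Q + 1) * Q * (Q ^ 2 - 1)) * (z - Q * y)) := by
      linear_combination (y * z) * e2 + ((y - Q * z - (Q + 1) * Q * (Q ^ 2 - 1)) * (y * z)) * hZP -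
        ((y - Q * z - (Q + 1) * Q * (Q ^ 2 - 1)) * z) * hy + ((y - Q * z - (Q + 1) * Q * (Q ^ 2 - 1)) * y) * hz
    have e4 := mul_left_cancel₀ hb.h_ne e3
    refine mul_left_cancel₀ hb.Q_ne ?_
    linear_combination e4
  obtain ⟨d', hd'⟩ : 2 * (Q - 1) ∣ y - z := by
    simpa using dvd_sub hcy hcz
  have hQ1 : Q - 1 ≠ 0 := by have := hb.big; omega
  have hsq' : (Q - 1) * d' ^ 2 = M ^ 2 * (Q * y - z) := by
    refine mul_left_cancel₀ (mul_ne_zero (by norm_num : (4 : ℤ) ≠ 0) hQ1) ?_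
    have h2 := hb.two_mid
    rw [hd', ← h2, ← hM] at hsq
    linear_combination hsq
  obtain ⟨ε, rfl⟩ : M ∣ d' := by
    refine (Int.pow_dvd_pow_iff two_ne_zero).1 (IsCoprime.dvd_of_dvd_mul_left ?_ ⟨Q * y - z, hsq'⟩)
    refine IsCoprime.pow_left ?_
    have hk2 : IsCoprime M ((Q - 1) / 4) := ⟨1, -2, by rw [hM, hb.mid_eq]; ring⟩
    have h22 : IsCoprime M 2 := ⟨1, -((Q - 1) / 4), by rw [hM, hb.mid_eq]; ring⟩
    rw [← hb.four_k, show (4 : ℤ) = 2 * 2 by norm_num]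
    exact (h22.mul_right h22).mul_right hk2
  have hyz : y - z = (Q - 1) * (Q + 1) * ε := by rw [hd', ← hb.two_mid]; ring
  have hqy : Q * y - z = (Q - 1) * ε ^ 2 := by
    refine mul_left_cancel₀ (pow_ne_zero 2 hb.mid_ne) ?_
    linear_combination -hsq'
  have hye : y = ε * (ε - (Q + 1)) := by
    refine mul_left_cancel₀ hQ1 ?_
    linear_combination hqy - hyz
  have hze : z = ε * (ε - (Q + 1) * Q) := by linear_combination hye - hyz
  -- the second equation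
  have he0 : ε ≠ 0 := fun e => hy0 (by rw [hye, e, zero_mul])
  have hWE : W * (ε * (ε - (Q + 1)) * (ε - (Q + 1) * Q)) = M * f *
      (ε * (ε - (Q + 1)) * (ε - (Q + 1) * Q) - Q ^ 2 * (ε - 2 * Q)) := by
    have hyzE : y * z = ε * (ε * (ε - (Q + 1)) * (ε - (Q + 1) * Q)) := by rw [hye, hze]; ring
    have hlin : z + Q * y = 2 * M * ε * (ε - 2 * Q) := by rw [hye, hze, hb.two_mid]; ring
    have h2W : 2 * W = 2 * M * f - a - Z := by linarith
    refine mul_left_cancel₀ (mul_ne_zero (two_ne_zero (α := ℤ)) he0) ?_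
    linear_combination (y * z) * h2W - (2 * W - 2 * M * f) * hyzE + z * hy + y * hz -
      (z + Q * y) * hf - (Q ^ 2 * f) * hlin
  have hLW : (Q + 1) ^ 2 * h = M * (Q ^ 3 + 7 * Q ^ 2 + Q + ε * (1 + Q ^ 2) - ε ^ 2) * W := by
    have e5 : (h : ℚ) * (M : ℚ) ^ 2 / B = -(Q : ℚ) ^ 2 * M := by
      rw [div_eq_iff qB]
      have := congrArg (Int.cast : ℤ → ℚ) hh
      push_cast at this
      linear_combination (M : ℚ) * this
    have hye' : (y : ℚ) = ε * ((ε : ℚ) - (Q + 1)) := by exact_mod_cast hye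
    have hze' : (z : ℚ) = ε * ((ε : ℚ) - (Q + 1) * Q) := by exact_mod_cast hze
    have e6 : ((Q : ℚ) + 1) ^ 2 * h / W =
        M * ((Q : ℚ) ^ 3 + 7 * (Q : ℚ) ^ 2 + Q + ε * (1 + (Q : ℚ) ^ 2) - (ε : ℚ) ^ 2) := by
      linear_combination eal - e5 - (1 / 2 : ℚ) * ex - (1 / 2 : ℚ) * ey - (Q / 2 : ℚ) * ez -
        (1 / 2 : ℚ) * hye' - (Q / 2 : ℚ) * hze' -
        (((Q : ℚ) ^ 3 + 6 * (Q : ℚ) ^ 2 + Q + ε * (1 + (Q : ℚ) ^ 2) - (ε : ℚ) ^ 2) / 2) * h2M
    rw [div_eq_iff qW] at e6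
    exact_mod_cast e6
  refine sevenPoly_ne hb.big ε (mul_left_cancel₀ (mul_ne_zero (pow_ne_zero 2 hb.mid_ne) hf0) ?_)
  unfold sevenPoly
  rw [← hb.two_mid, ← hM, hf] at hLW
  linear_combination -(Q ^ 3 + 7 * Q ^ 2 + Q + ε * (1 + Q ^ 2) - ε ^ 2) * M * hWE -
    (ε * (ε - (Q + 1)) * (ε - (Q + 1) * Q)) * hLW

end Cfsg.Lib.Ree.Three
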