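import Cfsg.Agent.Ree.Three.ModelW
import Cfsg.Agent.Ree.Assembly.Star

/-!
Step four of `ModelSpec`: the row `(0, 1, 1)` in every primitive block is impossible. For a primitive block the
four functions share `r` characters outside all blocks, with a common sign; every function takes that value there
(a Bessel inequality against the indicator and the sum of the four), so the congruence applies to them.
-/

set_option autoImplicit false
set_option linter.unusedSectionVars false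

namespace Cfsg.Lib.Ree.Three.StepW

open Finset

universe v

attribute [local instance 10] _root_.Classical.propDecidable

/-- The entries on the members. -/
def pat (l : Fin 4) (r : ℤ × ℤ × ℤ) : ℤ := (if r = (0, 1, 1) then 1 else 0) - if l = 0 then rowUs r else 0

/-- Their scalar products over one block. -/
def pp (l j : Fin 4) : ℤ := if l = 0 then (if j = 0 then 5 else -1) else if j = 0 then -1 else 1

theorem seven_pp : ∀ l j : Fin 4, (seven.map fun r => pat l r * pat j r).sum = pp l j := by decide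

theorem odd_square (k : ℤ) (hk : k ∣ 8) (ho : Odd k) (hp : 0 < k) : k = 1 := by
  obtain ⟨c, hc⟩ := ho
  have h8 : k ≤ 8 := Int.le_of_dvd (by norm_num) hk
  interval_cases k <;> omega

/-- Bessel against two orthogonal vectors. -/
theorem two_vec {ι : Type*} (s : Finset ι) (z e y : ι → ℤ) {A B a b : ℤ} (hA : 0 < A) (hB : 0 < B)
    (he : ∑ x ∈ s, e x * e x = A) (hy : ∑ x ∈ s, y x * y x = B) (hey : ∑ x ∈ s, e x * y x = 0)
    (ha : ∑ x ∈ s, e x * z x = a) (hb : ∑ x ∈ s, y x * z x = b) :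
    B * a ^ 2 + A * b ^ 2 ≤ A * B * ∑ x ∈ s, z x ^ 2 := by
  have h : 0 ≤ ∑ x ∈ s, (A * B * z x - B * a * e x - A * b * y x) ^ 2 := sum_nonneg fun x _ => sq_nonneg _
  have e1 : ∑ x ∈ s, (A * B * z x - B * a * e x - A * b * y x) ^ 2 =
      A * B * (A * B * ∑ x ∈ s, z x ^ 2) - A * B * (B * a ^ 2 + A * b ^ 2) := by
    have : ∀ x, (A * B * z x - B * a * e x - A * b * y x) ^ 2 = A * B * (A * B) * z x ^ 2 +
        B * a * (B * a) * (e x * e x) + A * b * (A * b) * (y x * y x) - 2 * (A * B) * (B * a) * (e x * z x) -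
        2 * (A * B) * (A * b) * (y x * z x) + 2 * (B * a) * (A * b) * (e x * y x) := fun x => by ring
    simp only [this, sum_add_distrib, sum_sub_distrib, ← mul_sum, he, hy, hey, ha, hb]
    ring
  rw [e1, ← mul_sub] at h
  linarith [nonneg_of_mul_nonneg_right h (mul_pos hA hB)]

theorem gamma_cases {γ : ℤ} (h : γ ^ 2 + 4 * (1 - γ) ^ 2 ≤ 4) : γ = 1 ∨ γ = 0 := by
  have h1 : -1 < γ := by nlinarith
  have h2 : γ < 2 := by nlinarith
  omega

theorem gamma_ne {γ : ℤ} (h : γ ≠ 1) : 4 ≤ γ ^ 2 + 4 * (1 - γ) ^ 2 := by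
  rcases Int.lt_or_gt_of_ne h with h | h <;> nlinarith

variable (m : Model.{v})

/-- The members of a block. -/
noncomputable def bk (ν : m.Blk) : Finset m.Irr := (m.L ν).toFinset

/-- The class of a block. -/
noncomputable def cls (ν : m.Blk) : Finset m.Blk := univ.filter fun ν' => m.Same ν ν'

/-- The characters in no block. -/
noncomputable def outU : Finset m.Irr := univ.filter fun χ => ∀ ν, χ ∉ m.L ν

variable {m}

theorem mem_bk {ν : m.Blk} {χ : m.Irr} : χ ∈ bk m ν ↔ χ ∈ m.L ν := List.mem_toFinset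

theorem sum_split {α : Type*} [AddCommMonoid α] (f : m.Irr → α) :
    ∑ χ, f χ = (∑ ν, ∑ χ ∈ bk m ν, f χ) + ∑ χ ∈ outU m, f χ := by
  have hd : ((univ : Finset m.Blk) : Set m.Blk).PairwiseDisjoint (bk m) := fun a _ b _ hab =>
    disjoint_left.2 fun χ ha hb => hab (m.disjoint a b χ (mem_bk.1 ha) (mem_bk.1 hb))
  rw [← sum_biUnion hd, ← sum_union]
  · refine sum_congr (ext fun χ => ?_) fun _ _ => rfl
    simp only [mem_univ, mem_union, mem_biUnion, true_and, outU, mem_filter, mem_bk, true_iff]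
    by_cases h : ∃ ν, χ ∈ m.L ν
    · exact Or.inl h
    · exact Or.inr fun ν hν => h ⟨ν, hν⟩
  · exact disjoint_left.2 fun χ h h' => by
      obtain ⟨ν, -, hν⟩ := mem_biUnion.1 h
      exact (mem_filter.1 h').2 ν (mem_bk.1 hν)

theorem cls_card (ν : m.Blk) : ((cls m ν).card : ℤ) = m.r := by
  rw [cls, m.card_same]

theorem cls_sum (ν : m.Blk) (a : ℤ) : (∑ ν', if m.Same ν ν' then a else 0) = (m.r : ℤ) * a := by
  rw [← sum_filter, sum_const, nsmul_eq_mul, m.card_same]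

theorem bk_sum {α : Type*} [AddCommMonoid α] (ν : m.Blk) (f : m.Irr → α) :
    ∑ χ ∈ bk m ν, f χ = ((m.L ν).map f).sum := List.sum_toFinset _ (m.nodup ν)

/-- Elements of the Galois group fixing all classes. -/
def Pres (g : m.Gal) : Prop := ∀ ν, m.Same ν (m.bperm g ν)

/-- Invariant vectors. -/
def Inv {α : Type*} (z : m.Irr → α) : Prop := ∀ g, Pres g → ∀ χ, z (m.perm g χ) = z χ

theorem inv_F (θ : m.Fix) (l : Fin 4) (ν : m.Blk) : Inv (m.F θ l ν) := fun g hg χ => by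
  rw [m.F_same θ l ν (m.bperm g ν) (hg ν), m.gal_F]
  exact congrFun (m.F_same θ l ν _ (hg ν)) χ

theorem inv_B (θ : m.Free) (l : Fin 4) : Inv (m.B θ l) := fun g _ χ => m.gal_B g θ l χ

theorem out_perm (g : m.Gal) {χ : m.Irr} (h : χ ∈ outU m) : m.perm g χ ∈ outU m := by
  refine mem_filter.2 ⟨mem_univ _, fun ν hν => ?_⟩
  rw [← (m.bperm g).apply_symm_apply ν] at hν
  exact (mem_filter.1 h).2 _ ((m.gal_mem g _ χ).1 hν)

/-- A target in a block costs at least one, and five for `l = 0`. -/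
theorem target_ge (ν : m.Blk) (z : m.Irr → ℤ) (l : Fin 4)
    (h1 : ((m.L ν).map fun χ => z χ * (m.sg ν χ * (m.row ν χ).1)).sum = 0)
    (h2 : ((m.L ν).map fun χ => z χ * (m.sg ν χ * (m.row ν χ).2.1)).sum = tgt l)
    (h3 : ((m.L ν).map fun χ => z χ * (m.sg ν χ * (m.row ν χ).2.2)).sum = tgt l) :
    (if l = 0 then (5 : ℤ) else 1) ≤ ∑ χ ∈ bk m ν, z χ ^ 2 := by
  rw [← bk_sum] at h1 h2 h3
  have hs : ∑ χ ∈ bk m ν, z χ * (m.sg ν χ * rowUs (m.row ν χ)) = 2 * tgt l := by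
    have : ∀ χ, z χ * (m.sg ν χ * rowUs (m.row ν χ)) = -(z χ * (m.sg ν χ * (m.row ν χ).1)) +
        z χ * (m.sg ν χ * (m.row ν χ).2.1) + z χ * (m.sg ν χ * (m.row ν χ).2.2) := fun χ => by
      unfold rowUs; ring
    simp only [this, sum_add_distrib, sum_neg_distrib, h1, h2, h3]
    ring
  have h8 : ∑ χ ∈ bk m ν, (m.sg ν χ * rowUs (m.row ν χ)) ^ 2 = 8 := by
    rw [bk_sum, show ((m.L ν).map fun χ => (m.sg ν χ * rowUs (m.row ν χ)) ^ 2) =
      ((m.L ν).map (m.row ν)).map (fun r => rowUs r ^ 2) by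
        rw [List.map_map]
        exact List.map_congr_left fun χ _ => by
          show (m.sg ν χ * rowUs (m.row ν χ)) ^ 2 = rowUs (m.row ν χ) ^ 2
          rw [mul_pow, pow_two (m.sg ν χ), m.sg_sq, one_mul]]
    rcases m.kind ν with e | e <;> rw [e] <;> rfl
  have := sum_mul_sq_le_sq_mul_sq (bk m ν) z fun χ => m.sg ν χ * rowUs (m.row ν χ)
  rw [hs, h8] at this
  unfold tgt at this
  split_ifs at this ⊢ <;> omega

/-- The scalar product over the members with a function supported on one class. -/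
theorem members_sum {ν : m.Blk} {a : ℤ} (f : m.Irr → ℤ)
    (h1 : ∀ ν', m.Same ν ν' → ∑ χ ∈ bk m ν', f χ = a) (h0 : ∀ ν', ¬ m.Same ν ν' → ∑ χ ∈ bk m ν', f χ = 0) :
    ∑ ν', ∑ χ ∈ bk m ν', f χ = (m.r : ℤ) * a := by
  rw [← cls_sum ν a]
  refine sum_congr rfl fun ν' _ => ?_
  by_cases h : m.Same ν ν'
  · rw [if_pos h, h1 ν' h]
  · rw [if_neg h, h0 ν' h]

theorem U_le {θ : m.Fix} {l : Fin 4} {ν : m.Blk} :
    (m.r : ℤ) * (if l = 0 then 5 else 1) + ∑ χ ∈ outU m, m.F θ l ν χ ^ 2 ≤ ∑ χ, m.F θ l ν χ ^ 2 := by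
  rw [sum_split (fun χ => m.F θ l ν χ ^ 2), ← cls_sum ν]
  refine add_le_add (sum_le_sum fun ν' _ => ?_) le_rfl
  by_cases h : m.Same ν ν'
  · have ht := m.F_target θ l ν ν'
    rw [if_pos h] at ht ⊢
    exact target_ge ν' _ l ht.1 ht.2.1 ht.2.2
  · rw [if_neg h]
    exact sum_nonneg fun χ _ => sq_nonneg _

/-- The outside norm of any function. -/
theorem U_small (θ : m.Fix) (l : Fin 4) (ν : m.Blk) :
    ∑ χ ∈ outU m, m.F θ l ν χ ^ 2 ≤ if l = 0 then (if m.r = 1 then 4 else 6) else (m.r : ℤ) + 1 := by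
  have h := U_le (θ := θ) (l := l) (ν := ν)
  by_cases hl : l = 0
  · subst hl
    simp only [↓reduceIte] at h ⊢
    rcases m.r_cases with hr | hr
    · rw [if_pos hr]
      have := m.F_norm_le θ ν hr
      rw [hr] at h
      push_cast at h
      linarith
    · rw [if_neg (by omega)]
      rcases m.F_conj θ with ⟨π, h0, hπ⟩ | ⟨h1, -⟩
      · have := m.F_norm_zero ν
        rw [hπ, h0] at h
        rw [if_neg (by omega)] at this
        rw [hπ, h0]
        rw [hr] at h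
        push_cast at h
        linarith
      · omega
  · simp only [if_neg hl] at h ⊢
    rw [m.F_norm θ l ν hl] at h
    linarith

variable (hW : m.TopW)
include hW

theorem F_pat {θ : m.Fix} {l : Fin 4} {ν ν' : m.Blk} {χ : m.Irr} (hp : m.Prim ν) (hs : m.Same ν ν')
    (hχ : χ ∈ m.L ν') : m.F θ l ν χ = m.sg ν' χ * pat l (m.row ν' χ) := by
  have hp' : m.Prim ν' := (m.same_prim ν ν' hs).1 hp
  rw [m.F_same θ l ν ν' hs]
  by_cases hl : l = 0
  · subst hl
    have h := m.F_diff θ 1 ν' ν' (by decide) χ hχ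
    rw [if_pos (m.same_equiv.refl ν'), hW.F_block θ 1 ν' χ (by decide) hp' hχ] at h
    simp only [pat, ↓reduceIte]
    split_ifs at h ⊢ <;> linarith
  · rw [hW.F_block θ l ν' χ hl hp' hχ]
    simp only [pat, if_neg hl, sub_zero]
    split_ifs <;> simp

theorem B_pat {θ : m.Free} {l : Fin 4} {ν : m.Blk} {χ : m.Irr} (hp : m.Prim ν) (hχ : χ ∈ m.L ν) :
    m.B θ l χ = m.sg ν χ * pat l (m.row ν χ) := by
  by_cases hl : l = 0
  · subst hl
    have h := m.B_diff θ 1 ν (by decide) χ hχ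
    rw [hW.B_block θ 1 ν χ (by decide) hp hχ] at h
    simp only [pat, ↓reduceIte]
    split_ifs at h ⊢ <;> linarith
  · rw [hW.B_block θ l ν χ hl hp hχ]
    simp only [pat, if_neg hl, sub_zero]
    split_ifs <;> simp

theorem pat_sum {ν : m.Blk} (hp : m.Prim ν) {f f' : m.Irr → ℤ} {l j : Fin 4}
    (hf : ∀ χ ∈ m.L ν, f χ = m.sg ν χ * pat l (m.row ν χ))
    (hf' : ∀ χ ∈ m.L ν, f' χ = m.sg ν χ * pat j (m.row ν χ)) : ∑ χ ∈ bk m ν, f χ * f' χ = pp l j := by
  rw [bk_sum, ← seven_pp, ← hW.seven ν hp, List.map_map]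
  refine congrArg List.sum (List.map_congr_left fun χ hχ => ?_)
  show f χ * f' χ = pat l (m.row ν χ) * pat j (m.row ν χ)
  rw [hf χ hχ, hf' χ hχ]
  linear_combination (pat l (m.row ν χ) * pat j (m.row ν χ)) * m.sg_sq ν χ

/-- The functions of a primitive class vanish on the other blocks. -/
theorem supp {ν ν' : m.Blk} (hp : m.Prim ν) (hs : ¬ m.Same ν ν') (θ : m.Fix) (l : Fin 4) {χ : m.Irr}
    (hχ : χ ∈ m.L ν') : m.F θ l ν χ = 0 := by
  by_cases hoff : m.r = 1 ∨ m.Prim ν'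
  · exact hW.off θ l ν ν' hs hoff χ hχ
  push Not at hoff
  have hr : m.r = 3 := m.r_cases.resolve_left hoff.1
  obtain ⟨τ, hτs, hτn, -, ⟨n, hn⟩, hτ3⟩ := m.cycle hr
  have hb := hτn ν' hoff.2
  have hfix : m.perm τ χ = χ := by
    by_contra hne
    set σ := m.perm τ
    have hmem : ∀ x ∈ m.L ν', σ x ∈ m.L ν' ∧ m.row ν' (σ x) = swapRow (m.swap τ) (m.row ν' x) := fun x hx => by
      have h1 := (m.gal_mem τ ν' x).2 hx
      have h2 := (m.gal_row τ ν' x hx).1
      rw [hb] at h1 h2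
      exact ⟨h1, h2⟩
    have hss : ∀ w, swapRow (m.swap τ) (swapRow (m.swap τ) w) = w := fun w => by
      cases m.swap τ <;> rfl
    have hit : ∀ j, σ^[2 * j] χ ∈ m.L ν' ∧ m.row ν' (σ^[2 * j] χ) = m.row ν' χ := fun j => by
      induction j with
      | zero => exact ⟨hχ, rfl⟩
      | succ j ih =>
        rw [show 2 * (j + 1) = 2 * j + 1 + 1 by ring, Function.iterate_succ_apply', Function.iterate_succ_apply']
        obtain ⟨a1, a2⟩ := hmem _ ih.1
        obtain ⟨b1, b2⟩ := hmem _ a1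
        exact ⟨b1, by rw [b2, a2, hss, ih.2]⟩
    obtain ⟨c, hc⟩ : ∃ c, 3 ^ n = 2 * c + 1 := (show Odd (3 ^ n) from (by decide : Odd 3).pow)
    have hrow : m.row ν' (σ χ) = m.row ν' χ := by
      have h := hn
      rw [hc] at h
      have h' := congrFun h (σ χ)
      rw [← Function.iterate_succ_apply, id_eq] at h'
      obtain ⟨-, e⟩ := hit (c + 1)
      rwa [show 2 * (c + 1) = 2 * c + 1 + 1 by ring, h'] at e
    have h3 : σ (σ χ) ≠ χ := fun h2 => by
      have e : σ^[2 * c] χ = χ := by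
        rw [Function.iterate_mul]
        exact Function.iterate_fixed h2 c
      have h := hn
      rw [hc] at h
      have h' := congrFun h χ
      rw [add_comm, Function.iterate_add_apply, e, Function.iterate_one, id_eq] at h'
      exact hne h' 
    obtain ⟨m1, r1⟩ := hit 1
    have hsub : ({χ, σ χ, σ (σ χ)} : Finset m.Irr) ⊆ (bk m ν').filter fun x => m.row ν' x = m.row ν' χ := by
      intro x hx
      simp only [mem_insert, mem_singleton] at hx
      rcases hx with rfl | rfl | rfl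
      · exact mem_filter.2 ⟨mem_bk.2 hχ, rfl⟩
      · exact mem_filter.2 ⟨mem_bk.2 (hmem χ hχ).1, hrow⟩
      · exact mem_filter.2 ⟨mem_bk.2 m1, r1⟩
    have hle := card_le_card hsub
    have hcard : ({χ, σ χ, σ (σ χ)} : Finset m.Irr).card = 3 :=
      card_eq_three.2 ⟨_, _, _, fun h => hne h.symm, fun h => h3 h.symm, fun h => hne (σ.injective h).symm, rfl⟩
    have hcount : ((bk m ν').filter fun x => m.row ν' x = m.row ν' χ).card ≤ 2 := by
      rw [card_filter, bk_sum, show ((m.L ν').map fun x => if m.row ν' x = m.row ν' χ then 1 else 0) =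
        ((m.L ν').map (m.row ν')).map (fun r => if r = m.row ν' χ then 1 else 0) by rw [List.map_map]; rfl]
      have hm : m.row ν' χ ∈ (m.L ν').map (m.row ν') := List.mem_map.2 ⟨χ, hχ, rfl⟩
      generalize m.row ν' χ = w at hm ⊢
      have hall : ∀ l ∈ [eight, seven], ∀ w ∈ l, (l.map fun r => if r = w then 1 else 0).sum ≤ (2 : ℕ) := by
        decide
      rcases m.kind ν' with e | e <;> rw [e] at hm ⊢
      · convert hall eight (by simp) w hm
      · convert hall seven (by simp) w hm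
    omega
  have h0 : ∀ θ, m.F θ 0 ν χ = 0 := by
    intro θ
    rcases m.F_conj θ with ⟨π, hπ0, hπ⟩ | ⟨h1, -⟩
    swap
    · omega
    rw [hπ, hπ0]
    by_contra hne
    obtain ⟨w, hw⟩ := hτ3 m.θ₀ ν χ hp hfix
    have htot := m.F_norm_zero ν
    rw [if_neg (by omega), sum_split] at htot
    have hmem : (m.r : ℤ) * 5 + m.F m.θ₀ 0 ν χ ^ 2 ≤ ∑ x, ∑ y ∈ bk m x, m.F m.θ₀ 0 ν y ^ 2 := by
      rw [← cls_sum ν 5, ← add_sum_erase univ _ (mem_univ ν'), ← add_sum_erase univ (fun x => ∑ y ∈ bk m x,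
        m.F m.θ₀ 0 ν y ^ 2) (mem_univ ν'), if_neg hs, zero_add, add_comm]
      refine add_le_add (single_le_sum (f := fun y => m.F m.θ₀ 0 ν y ^ 2) (fun y _ => sq_nonneg _) (mem_bk.2 hχ))
        (sum_le_sum fun x _ => ?_)
      by_cases h : m.Same ν x
      · have ht := m.F_target m.θ₀ 0 ν x
        rw [if_pos h] at ht ⊢
        exact target_ge x _ 0 ht.1 ht.2.1 ht.2.2
      · rw [if_neg h]; exact sum_nonneg fun y _ => sq_nonneg _
    have h9 : 9 ≤ m.F m.θ₀ 0 ν χ ^ 2 := by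
      have hw0 : w ≠ 0 := fun h => hne (by rw [hw, h, mul_zero])
      rw [hw, mul_pow]
      have : 0 < w ^ 2 := by positivity
      linarith
    have hU : 0 ≤ ∑ x ∈ outU m, m.F m.θ₀ 0 ν x ^ 2 := sum_nonneg fun x _ => sq_nonneg _
    rw [hr] at hmem
    push_cast at hmem
    linarith
  by_cases hl : l = 0
  · rw [hl, h0]
  · rw [m.F_diff θ l ν ν' hl χ hχ, if_neg hs, h0, add_zero]

theorem U_inner {ν : m.Blk} (hp : m.Prim ν) (θ θ' : m.Fix) (l j : Fin 4) :
    ∑ χ ∈ outU m, m.F θ l ν χ * m.F θ' j ν χ = ∑ χ, m.F θ l ν χ * m.F θ' j ν χ - (m.r : ℤ) * pp l j := by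
  rw [sum_split (fun χ => m.F θ l ν χ * m.F θ' j ν χ), members_sum (ν := ν) (a := pp l j) _ (fun ν' hs => ?_)
    fun ν' hs => sum_eq_zero fun χ hχ => by rw [supp hW hp hs θ l (mem_bk.1 hχ), zero_mul]]
  · ring
  · exact pat_sum hW ((m.same_prim ν ν' hs).1 hp) (fun χ hχ => F_pat hW hp hs hχ) fun χ hχ => F_pat hW hp hs hχ

theorem U_orth {ν ν' : m.Blk} (hp : m.Prim ν) (hs : ¬ m.Same ν ν') (θ θ' : m.Fix) (l j : Fin 4) :
    ∑ χ ∈ outU m, m.F θ l ν' χ * m.F θ' j ν χ = 0 := by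
  have h := m.F_orth θ θ' l j ν' ν fun h => hs (m.same_equiv.symm h)
  rw [sum_split, sum_eq_zero (fun x _ => sum_eq_zero fun χ hχ => ?_), zero_add] at h
  · exact h
  · by_cases hx : m.Same ν x
    · rw [hW.off θ l ν' x (fun h => hs (m.same_equiv.trans hx (m.same_equiv.symm h)))
        (Or.inr ((m.same_prim ν x hx).1 hp)) χ (mem_bk.1 hχ), zero_mul]
    · rw [supp hW hp hx θ' j (mem_bk.1 hχ), mul_zero]

omit hW

variable (m)

/-- The shared characters. -/
noncomputable def orb (ν : m.Blk) : Finset m.Irr :=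
  (outU m).filter fun χ => m.F m.θ₀ 1 ν χ ≠ 0 ∧ ∀ l, m.F m.θ₀ l ν χ = m.F m.θ₀ 1 ν χ

/-- Their signed indicator. -/
noncomputable def ev (ν : m.Blk) (χ : m.Irr) : ℤ := if χ ∈ orb m ν then m.F m.θ₀ 1 ν χ else 0

/-- The complement of the indicator in the sum of the four functions. -/
noncomputable def yv (ν : m.Blk) (χ : m.Irr) : ℤ := (∑ l, m.F m.θ₀ l ν χ) - 4 * ev m ν χ

variable {m}

theorem orb_U {ν : m.Blk} {χ : m.Irr} (h : χ ∈ orb m ν) : χ ∈ outU m := (mem_filter.1 h).1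

theorem ev_sum {α : Type*} [CommRing α] (ν : m.Blk) (f : m.Irr → α) :
    ∑ χ ∈ outU m, (ev m ν χ : α) * f χ = ∑ χ ∈ orb m ν, (m.F m.θ₀ 1 ν χ : α) * f χ := by
  rw [show orb m ν = (outU m).filter fun χ => χ ∈ orb m ν from ext fun χ =>
    ⟨fun h => mem_filter.2 ⟨orb_U h, h⟩, fun h => (mem_filter.1 h).2⟩, sum_filter]
  refine sum_congr rfl fun χ _ => ?_
  simp only [ev]
  split_ifs <;> simp_all

include hW

theorem gram {ν : m.Blk} (hp : m.Prim ν) (l j : Fin 4) :
    ∑ χ ∈ outU m, m.F m.θ₀ l ν χ * m.F m.θ₀ j ν χ =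
      if l = 0 then (if j = 0 then 2 * (m.r : ℤ) else m.r) else if j = 0 then (m.r : ℤ)
        else if l = j ∨ m.r = 3 then (m.r : ℤ) + 1 else 1 := by
  rw [U_inner hW hp, pp]
  by_cases hl : l = 0 <;> by_cases hj : j = 0 <;> simp only [hl, hj, ↓reduceIte]
  · have h := m.F_norm_zero ν
    simp only [pow_two] at h
    rw [h]
    rcases m.r_cases with e | e <;> simp [e]
  · have h := m.F_mixed m.θ₀ m.θ₀ j ν hj
    rw [show ∑ χ, m.F m.θ₀ 0 ν χ * m.F m.θ₀ j ν χ = 0 by rw [← h]; exact sum_congr rfl fun χ _ => mul_comm _ _]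
    ring
  · rw [m.F_mixed m.θ₀ m.θ₀ l ν hl]
    ring
  · by_cases hlj : l = j
    · subst hlj
      have h := m.F_norm m.θ₀ l ν hl
      simp only [pow_two] at h
      rw [h, if_pos (Or.inl rfl)]
      ring
    · rw [m.F_pair l j ν hl hj hlj]
      rcases m.r_cases with e | e <;> simp [e, hlj]

/-- The shared characters are one orbit of length `r`. -/
theorem orbit {ν : m.Blk} (hp : m.Prim ν) : (orb m ν).Nonempty ∧ (orb m ν).card = m.r ∧
    ∀ e ∈ orb m ν, m.F m.θ₀ 1 ν e * m.F m.θ₀ 1 ν e = 1 ∧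
      ∀ {α : Type} (z : m.Irr → α), Inv z → ∀ e' ∈ orb m ν, z e' = z e := by
  rcases m.r_cases with hr | hr
  · obtain ⟨e, he, he1, hall⟩ := Star.star (s := outU m) (v := fun i => m.F m.θ₀ i ν)
      (fun i => by
        simp only [pow_two]
        rw [gram hW hp i i, hr]
        by_cases hi : i = 0 <;> simp [hi])
      (fun i j hij => by
        rw [gram hW hp i j, hr]
        by_cases hi : i = 0 <;> by_cases hj : j = 0 <;> simp_all)
    have hne : m.F m.θ₀ 0 ν e ≠ 0 := fun h => by rw [h] at he1; norm_num at he1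
    have heO : e ∈ orb m ν := mem_filter.2 ⟨he, by rw [hall 1]; exact hne, fun l => by rw [hall l, hall 1]⟩
    have hsq : m.F m.θ₀ 1 ν e * m.F m.θ₀ 1 ν e = 1 := by rw [hall 1, ← pow_two, he1]
    have huniq : ∀ x ∈ orb m ν, x = e := by
      intro x hx
      by_contra hxe
      obtain ⟨hxU, hxne, hxall⟩ := mem_filter.1 hx
      have hsub : ({x, e} : Finset m.Irr) ⊆ outU m := by
        intro y hy
        rcases mem_insert.1 hy with rfl | hy
        · exact hxU
        · rw [mem_singleton.1 hy]; exact he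
      have hpos : 1 ≤ m.F m.θ₀ 1 ν x * m.F m.θ₀ 1 ν x := by
        have := mul_self_pos.2 hxne
        omega
      have n1 := sum_le_sum_of_subset_of_nonneg hsub
        (f := fun y => m.F m.θ₀ 1 ν y * m.F m.θ₀ 1 ν y) fun y _ _ => mul_self_nonneg _
      rw [sum_pair hxe, hsq, gram hW hp 1 1, hr] at n1
      norm_num at n1
      have hx1 : m.F m.θ₀ 1 ν x * m.F m.θ₀ 1 ν x = 1 := by omega
      have hzero : ∀ y ∈ outU m, y ≠ x → y ≠ e → m.F m.θ₀ 1 ν y = 0 := fun y hy h1 h2 => by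
        by_contra h0
        have hsub' : ({y, x, e} : Finset m.Irr) ⊆ outU m := by
          intro w hw
          rcases mem_insert.1 hw with rfl | hw
          · exact hy
          · exact hsub hw
        have n2 := sum_le_sum_of_subset_of_nonneg hsub'
          (f := fun y => m.F m.θ₀ 1 ν y * m.F m.θ₀ 1 ν y) fun y _ _ => mul_self_nonneg _
        rw [sum_insert (by simp [h1, h2]), sum_pair hxe, hsq, hx1, gram hW hp 1 1, hr] at n2
        norm_num at n2
        exact h0 (mul_self_eq_zero.1 (le_antisymm n2 (mul_self_nonneg _)))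
      have h01 := gram hW hp 0 1
      rw [← sum_subset hsub (fun y hy hy' => by
        simp only [mem_insert, mem_singleton, not_or] at hy'
        rw [hzero y hy hy'.1 hy'.2, mul_zero]), sum_pair hxe, hxall 0, hx1, show m.F m.θ₀ 0 ν e = m.F m.θ₀ 1 ν e from
        (hall 1).symm, hsq, hr] at h01
      norm_num at h01
    refine ⟨⟨e, heO⟩, ?_, fun x hx => ⟨?_, fun z _ y hy => ?_⟩⟩
    · rw [hr, card_eq_one]
      exact ⟨e, eq_singleton_iff_unique_mem.2 ⟨heO, huniq⟩⟩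
    · rw [huniq x hx]; exact hsq
    · rw [huniq x hx, huniq y hy]
  · obtain ⟨τ, hτs, -, -, ⟨n, hn⟩, hτ3⟩ := m.cycle hr
    set σ := m.perm τ with hσ
    set s0 := m.F m.θ₀ 0 ν with hs0
    set s1 := m.F m.θ₀ 1 ν with hs1
    have i0 : ∀ x, s0 (σ x) = s0 x := fun x => inv_F m.θ₀ 0 ν τ hτs x
    have i1 : ∀ x, s1 (σ x) = s1 x := fun x => inv_F m.θ₀ 1 ν τ hτs x
    have g11 : ∑ χ ∈ outU m, s1 χ * s1 χ = 4 := by rw [hs1, gram hW hp 1 1, hr]; norm_num
    have g01 : ∑ χ ∈ outU m, s0 χ * s1 χ = 3 := by rw [hs0, hs1, gram hW hp 0 1, hr]; norm_num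
    have g00 : ∑ χ ∈ outU m, s0 χ * s0 χ = 6 := by rw [hs0, gram hW hp 0 0, hr]; norm_num
    have hb : ∀ {x}, x ∈ outU m → s0 x ≠ 0 → σ x ≠ x := fun {x} hx h0 h => by
      obtain ⟨w, hw⟩ := hτ3 m.θ₀ ν x hp h
      have hle := single_le_sum (f := fun y => s0 y * s0 y) (fun y _ => mul_self_nonneg _) hx
      rw [g00] at hle
      have hw0 : w ≠ 0 := fun h' => h0 (by rw [hs0, hw, h', mul_zero])
      rw [hs0, hw] at hle
      nlinarith [mul_self_pos.2 hw0]
    obtain ⟨e, he, hne⟩ := exists_ne_zero_of_sum_ne_zero (show ∑ χ ∈ outU m, s0 χ * s1 χ ≠ 0 by omega)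
    have he0 : s0 e ≠ 0 := left_ne_zero_of_mul hne
    have he1 : s1 e ≠ 0 := right_ne_zero_of_mul hne
    have hoe : σ e ≠ e := hb he he0
    have hpos : ∀ {x}, s1 x ≠ 0 → 1 ≤ s1 x * s1 x := fun {x} h => by
      have := mul_self_pos.2 h
      omega
    -- the period is three
    obtain ⟨hp3, hsq⟩ : σ (σ (σ e)) = e ∧ s1 e * s1 e = 1 := by
      set p := Function.minimalPeriod σ e with hpdef
      have hper : Function.IsPeriodicPt σ (3 ^ n) e := congrFun hn e
      obtain ⟨j, -, hj⟩ := (Nat.dvd_prime_pow Nat.prime_three).1 hper.minimalPeriod_dvd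
      have hinj : Set.InjOn (fun i => σ^[i] e) (range p : Set ℕ) := fun a ha b hb h =>
        Function.iterate_injOn_Iio_minimalPeriod (by simpa using ha) (by simpa using hb) h
      have hit : ∀ i, σ^[i] e ∈ outU m ∧ s1 (σ^[i] e) = s1 e := fun i => by
        induction i with
        | zero => exact ⟨he, rfl⟩
        | succ i ih =>
          rw [Function.iterate_succ_apply']
          exact ⟨out_perm τ ih.1, by rw [i1, ih.2]⟩
      have hle := sum_le_sum_of_subset_of_nonneg (s := (range p).image fun i => σ^[i] e) (t := outU m)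
        (f := fun y => s1 y * s1 y) (image_subset_iff.2 fun i _ => (hit i).1) fun y _ _ => mul_self_nonneg _
      rw [g11, sum_image hinj, sum_congr rfl (fun i _ => by rw [(hit i).2]), sum_const, card_range, nsmul_eq_mul]
        at hle
      have hj0 : j ≠ 0 := fun h => hoe (Function.minimalPeriod_eq_one_iff_isFixedPt.1 (by rw [hj, h, pow_zero]))
      have hp4 : (p : ℤ) ≤ 4 := by nlinarith [hpos he1]
      have hj1 : j = 1 := by
        by_contra h
        have : 3 ^ 2 ≤ p := by rw [hpdef, hj]; exact Nat.pow_le_pow_right (by norm_num) (by omega)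
        omega
      have hp' : p = 3 := by rw [hpdef, hj, hj1, pow_one]
      refine ⟨?_, ?_⟩
      · have := Function.iterate_minimalPeriod (f := σ) (x := e)
        rw [← hpdef, hp'] at this
        exact this
      · rw [hp'] at hle
        push_cast at hle
        have := hpos he1
        omega
    set T : Finset m.Irr := {e, σ e, σ (σ e)} with hT
    have hTsub : T ⊆ outU m := by
      intro x hx
      simp only [hT, mem_insert, mem_singleton] at hx
      rcases hx with rfl | rfl | rfl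
      exacts [he, out_perm τ he, out_perm τ (out_perm τ he)]
    have d1 : e ≠ σ e := fun h => hoe h.symm
    have d2 : e ≠ σ (σ e) := fun h => by rw [← h] at hp3; exact hoe hp3
    have d3 : σ e ≠ σ (σ e) := fun h => d1 (σ.injective h)
    have hTc : T.card = 3 := card_eq_three.2 ⟨_, _, _, d1, d2, d3, rfl⟩
    have hTsum : ∀ f : m.Irr → ℤ, ∑ x ∈ T, f x = f e + (f (σ e) + f (σ (σ e))) := fun f => by
      rw [hT, sum_insert (by simp [d1, d2]), sum_pair d3]
    have hout : ∀ x ∈ outU m, x ∉ T → s0 x * s1 x = 0 := by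
      intro x hx hxT
      by_contra h
      have hx0 := left_ne_zero_of_mul h
      have hx1 := right_ne_zero_of_mul h
      have hσx : σ x ∉ T := fun hm => hxT (by
        simp only [hT, mem_insert, mem_singleton] at hm ⊢
        rcases hm with hm | hm | hm
        · exact Or.inr (Or.inr (σ.injective (hm.trans hp3.symm)))
        · exact Or.inl (σ.injective hm)
        · exact Or.inr (Or.inl (σ.injective hm)))
      have hle := sum_le_sum_of_subset_of_nonneg (f := fun y => s1 y * s1 y)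
        (show insert x (insert (σ x) T) ⊆ outU m from
          insert_subset_iff.2 ⟨hx, insert_subset_iff.2 ⟨out_perm τ hx, hTsub⟩⟩) fun y _ _ => mul_self_nonneg _
      rw [g11, sum_insert (by simp [hxT, (hb hx hx0).symm]), sum_insert hσx, hTsum, i1 x, i1 (σ e), i1 e, hsq] at hle
      linarith [hpos hx1]
    have hs01 : s0 e = s1 e := by
      rw [← sum_subset hTsub (fun x hx hxT => hout x hx hxT), hTsum, i0 (σ e), i0 e, i1 (σ e), i1 e] at g01
      have h1 : s0 e * s1 e = 1 := by linarith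
      rw [← mul_one (s0 e), ← hsq, ← mul_assoc, h1, one_mul]
    have hO : orb m ν = T := by
      ext x
      constructor
      · intro hx
        obtain ⟨hxU, hx1, hxall⟩ := mem_filter.1 hx
        by_contra hxT
        have := hout x hxU hxT
        rw [hs0, hxall 0] at this
        exact hx1 (mul_self_eq_zero.1 this)
      · intro hx
        have hv : s1 x = s1 e ∧ s0 x = s0 e := by
          simp only [hT, mem_insert, mem_singleton] at hx
          rcases hx with rfl | rfl | rfl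
          exacts [⟨rfl, rfl⟩, ⟨i1 e, i0 e⟩, ⟨(i1 _).trans (i1 e), (i0 _).trans (i0 e)⟩]
        refine mem_filter.2 ⟨hTsub hx, by rw [← hs1, hv.1]; exact he1, fun l => ?_⟩
        by_cases hl : l = 0
        · subst hl
          rw [← hs0, ← hs1, hv.1, hv.2, hs01]
        · have hsum : ∑ χ ∈ outU m, (m.F m.θ₀ l ν χ - s1 χ) * (m.F m.θ₀ l ν χ - s1 χ) = 0 := by
            simp only [sub_mul, mul_sub, sum_sub_distrib, hs1]
            rw [gram hW hp l l, gram hW hp l 1, gram hW hp 1 l, gram hW hp 1 1]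
            simp [hl, hr]
          exact sub_eq_zero.1 (mul_self_eq_zero.1
            ((sum_eq_zero_iff_of_nonneg fun y _ => mul_self_nonneg _).1 hsum x (hTsub hx)))
    rw [hO]
    refine ⟨⟨e, by simp [hT]⟩, by rw [hTc, hr], fun x hx => ?_⟩
    have hall : ∀ {β : Type} (z : m.Irr → β), Inv z → ∀ y ∈ T, z y = z e := by
      intro β z hz y hy
      simp only [hT, mem_insert, mem_singleton] at hy
      rcases hy with rfl | rfl | rfl
      exacts [rfl, hz τ hτs e, (hz τ hτs _).trans (hz τ hτs e)]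
    have hx1 : s1 x = s1 e := hall _ (inv_F m.θ₀ 1 ν) x hx
    exact ⟨by rw [hx1, hsq], fun z hz y hy => (hall z hz y hy).trans (hall z hz x hx).symm⟩

theorem ev_inner {ν : m.Blk} (hp : m.Prim ν) {e : m.Irr} (he : e ∈ orb m ν) {z : m.Irr → ℤ} (hz : Inv z) :
    ∑ χ ∈ outU m, ev m ν χ * z χ = (m.r : ℤ) * (m.F m.θ₀ 1 ν e * z e) := by
  have h := ev_sum ν z
  simp only [Int.cast_id] at h
  obtain ⟨-, hc, ho⟩ := orbit hW hp
  rw [h, sum_congr rfl (fun χ hχ => by rw [(ho e he).2 _ (inv_F m.θ₀ 1 ν) χ hχ, (ho e he).2 z hz χ hχ]),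
    sum_const, nsmul_eq_mul, hc]

theorem ev_self {ν : m.Blk} (hp : m.Prim ν) :
    (∑ χ ∈ outU m, ev m ν χ * ev m ν χ = (m.r : ℤ)) ∧
      ∀ l, ∑ χ ∈ outU m, ev m ν χ * m.F m.θ₀ l ν χ = (m.r : ℤ) := by
  obtain ⟨⟨e, he⟩, -, ho⟩ := orbit hW hp
  have h : ∀ l, ∑ χ ∈ outU m, ev m ν χ * m.F m.θ₀ l ν χ = (m.r : ℤ) := fun l => by
    rw [ev_inner hW hp he (inv_F m.θ₀ l ν), (mem_filter.1 he).2.2 l, (ho e he).1, mul_one]
  refine ⟨?_, h⟩
  rw [← h 1]
  refine sum_congr rfl fun χ _ => ?_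
  simp only [ev]
  split_ifs <;> simp

theorem yv_facts {ν : m.Blk} (hp : m.Prim ν) :
    (∑ χ ∈ outU m, yv m ν χ * yv m ν χ = 4 * (m.r : ℤ)) ∧ ∑ χ ∈ outU m, ev m ν χ * yv m ν χ = 0 := by
  obtain ⟨h1, h2⟩ := ev_self hW hp
  have h2' : ∀ l, ∑ χ ∈ outU m, m.F m.θ₀ l ν χ * ev m ν χ = (m.r : ℤ) := fun l => by
    rw [← h2 l]; exact sum_congr rfl fun χ _ => mul_comm _ _
  simp only [yv, Fin.sum_univ_four, mul_sub, sub_mul, mul_add, add_mul, mul_assoc, mul_left_comm _ (4 : ℤ),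
    sum_sub_distrib, sum_add_distrib, ← mul_sum, h1, h2, h2']
  constructor
  · simp only [gram hW hp]
    rcases m.r_cases with e | e <;> simp [e]
  · ring

theorem yv_inner {ν : m.Blk} (hp : m.Prim ν) {e : m.Irr} (he : e ∈ orb m ν) {z : m.Irr → ℤ} (hz : Inv z) {a : ℤ}
    (hzs : ∀ j, ∑ χ ∈ outU m, m.F m.θ₀ j ν χ * z χ = (m.r : ℤ) * a) :
    ∑ χ ∈ outU m, yv m ν χ * z χ = 4 * (m.r : ℤ) * (a - m.F m.θ₀ 1 ν e * z e) := by
  simp only [yv, Fin.sum_univ_four, sub_mul, add_mul, mul_assoc, sum_sub_distrib, sum_add_distrib, ← mul_sum, hzs,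
    ev_inner hW hp he hz]
  ring

/-- The inequality. -/
theorem bessel {ν : m.Blk} (hp : m.Prim ν) {e : m.Irr} (he : e ∈ orb m ν) {z : m.Irr → ℤ} (hz : Inv z) {a : ℤ}
    (hzs : ∀ j, ∑ χ ∈ outU m, m.F m.θ₀ j ν χ * z χ = (m.r : ℤ) * a) :
    (m.r : ℤ) * ((m.F m.θ₀ 1 ν e * z e) ^ 2 + 4 * (a - m.F m.θ₀ 1 ν e * z e) ^ 2) ≤ ∑ χ ∈ outU m, z χ ^ 2 := by
  have hr : (0 : ℤ) < m.r := by rcases m.r_cases with h | h <;> rw [h] <;> norm_num
  obtain ⟨hy, hey⟩ := yv_facts hW hp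
  have h := two_vec (outU m) z (ev m ν) (yv m ν) hr (by linarith) (ev_self hW hp).1 hy hey
    (ev_inner hW hp he hz) (yv_inner hW hp he hz hzs)
  set γ := m.F m.θ₀ 1 ν e * z e
  have h' : 4 * ((m.r : ℤ) * m.r) * ((m.r : ℤ) * (γ ^ 2 + 4 * (a - γ) ^ 2)) ≤
      4 * ((m.r : ℤ) * m.r) * ∑ χ ∈ outU m, z χ ^ 2 := by linarith
  exact le_of_mul_le_mul_left h' (by positivity)

/-- The other classes vanish at the shared characters. -/
theorem other {ν ν' : m.Blk} (hp : m.Prim ν) (hs : ¬ m.Same ν ν') {e : m.Irr} (he : e ∈ orb m ν) (θ : m.Fix)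
    (l : Fin 4) : m.F θ l ν' e = 0 := by
  have h := bessel hW hp he (inv_F θ l ν') (a := 0) fun j => by
    rw [mul_zero, ← U_orth hW hp hs θ m.θ₀ l j]
    exact sum_congr rfl fun χ _ => mul_comm _ _
  have h2 := U_small θ l ν'
  have hc := (orbit hW hp).2.2 e he |>.1
  by_contra hne
  have h1 : 1 ≤ (m.F m.θ₀ 1 ν e * m.F θ l ν' e) ^ 2 := by
    have : (0 : ℤ) < (m.F m.θ₀ 1 ν e * m.F θ l ν' e) ^ 2 := by
      have h0 : m.F m.θ₀ 1 ν e ≠ 0 := left_ne_zero_of_mul_eq_one hc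
      positivity
    omega
  rw [zero_sub, neg_sq] at h
  rcases m.r_cases with e' | e' <;> rw [e'] at h h2 <;> push_cast at h h2 <;> split_ifs at h2 <;>
    first | linarith | omega

/-- The own class has the common value. -/
theorem self {ν : m.Blk} (hp : m.Prim ν) {e : m.Irr} (he : e ∈ orb m ν) (θ : m.Fix) (l : Fin 4) :
    m.F θ l ν e = m.F m.θ₀ 1 ν e := by
  rcases m.F_conj θ with ⟨π, -, hπ⟩ | ⟨hr, hpair, hzero⟩
  · rw [hπ]; exact (mem_filter.1 he).2.2 _
  have hc := (orbit hW hp).2.2 e he |>.1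
  have hin : ∀ i j, ∑ χ ∈ outU m, m.F m.θ₀ j ν χ * m.F θ i ν χ = (m.r : ℤ) * 1 := by
    intro i j
    rw [U_inner hW hp, pp, hr]
    by_cases hi : i = 0 <;> by_cases hj : j = 0 <;> simp only [hi, hj, ↓reduceIte]
    · rw [show ∑ χ, m.F m.θ₀ 0 ν χ * m.F θ 0 ν χ = 6 by rw [← hzero ν]; exact sum_congr rfl fun χ _ => mul_comm _ _]
      norm_num
    · rw [m.F_mixed m.θ₀ θ j ν hj]; norm_num
    · rw [show ∑ χ, m.F m.θ₀ 0 ν χ * m.F θ i ν χ = 0 by
        rw [← m.F_mixed θ m.θ₀ i ν hi]; exact sum_congr rfl fun χ _ => mul_comm _ _]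
      norm_num
    · rw [show ∑ χ, m.F m.θ₀ j ν χ * m.F θ i ν χ = 2 by
        rw [← hpair i j ν hi hj]; exact sum_congr rfl fun χ _ => mul_comm _ _]
      norm_num
  have hval : ∀ i, m.F m.θ₀ 1 ν e * m.F θ i ν e = 1 → m.F θ i ν e = m.F m.θ₀ 1 ν e := fun i h => by
    rw [← one_mul (m.F θ i ν e), ← hc, mul_assoc, h, mul_one]
  have hγ : ∀ i, i ≠ 0 → m.F m.θ₀ 1 ν e * m.F θ i ν e = 1 := fun i hi => by
    have h := bessel hW hp he (inv_F θ i ν) (hin i)
    have h2 := U_small θ i ν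
    rw [if_neg hi] at h2
    rw [hr] at h h2
    push_cast at h h2
    rcases gamma_cases (γ := m.F m.θ₀ 1 ν e * m.F θ i ν e) (by linarith) with e' | e'
    · exact e'
    · rw [e'] at h; linarith
  by_cases hl : l = 0
  swap
  · exact hval l (hγ l hl)
  subst hl
  have h := bessel hW hp he (inv_F θ 0 ν) (hin 0)
  have h2 := U_small θ 0 ν
  rw [if_pos rfl, if_pos hr] at h2
  rw [hr] at h
  push_cast at h
  rcases gamma_cases (γ := m.F m.θ₀ 1 ν e * m.F θ 0 ν e) (by linarith) with e' | e'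
  · exact hval 0 e'
  exfalso
  -- then `F θ 0 ν` is the complement, orthogonal to `F θ 1 ν`
  have hzy := yv_inner hW hp he (inv_F θ 0 ν) (hin 0)
  rw [e', hr] at hzy
  have hy := (yv_facts hW hp).1
  rw [hr] at hy
  push_cast at hzy hy
  have hdiff : ∑ χ ∈ outU m, (m.F θ 0 ν χ - yv m ν χ) ^ 2 ≤ 0 := by
    have : ∀ χ, (m.F θ 0 ν χ - yv m ν χ) ^ 2 =
        m.F θ 0 ν χ ^ 2 - 2 * (yv m ν χ * m.F θ 0 ν χ) + yv m ν χ * yv m ν χ := fun χ => by ring
    simp only [this, sum_add_distrib, sum_sub_distrib, ← mul_sum]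
    linarith
  have heq : ∀ χ ∈ outU m, m.F θ 0 ν χ = yv m ν χ := fun χ hχ => sub_eq_zero.1 (pow_eq_zero_iff two_ne_zero |>.1
    ((sum_eq_zero_iff_of_nonneg fun y _ => sq_nonneg _).1 (le_antisymm hdiff (sum_nonneg fun y _ => sq_nonneg _)) χ hχ))
  have h01 := U_inner hW hp θ θ 0 1
  rw [sum_congr rfl (fun χ hχ => by rw [heq χ hχ]), yv_inner hW hp he (inv_F θ 1 ν) (hin 1), hγ 1 (by decide),
    show ∑ χ, m.F θ 0 ν χ * m.F θ 1 ν χ = 0 by
      rw [← m.F_mixed θ θ 1 ν (by decide)]; exact sum_congr rfl fun χ _ => mul_comm _ _, pp, hr] at h01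
  norm_num at h01

omit hW in
theorem ev_same {ν ν' : m.Blk} (h : m.Same ν ν') : orb m ν = orb m ν' ∧ ev m ν = ev m ν' ∧ yv m ν = yv m ν' := by
  have hF : ∀ l, m.F m.θ₀ l ν = m.F m.θ₀ l ν' := fun l => m.F_same _ l _ _ h
  have ho : orb m ν = orb m ν' := by simp only [orb, hF]
  have he : ev m ν = ev m ν' := funext fun χ => by simp only [ev, ho, hF]
  exact ⟨ho, he, funext fun χ => by simp only [yv, he, hF]⟩

theorem cross {ν ν' : m.Blk} (hp : m.Prim ν) (hp' : m.Prim ν') :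
    (∑ χ ∈ outU m, ev m ν χ * ev m ν' χ = if m.Same ν ν' then (m.r : ℤ) else 0) ∧
    (∑ χ ∈ outU m, yv m ν χ * yv m ν' χ = if m.Same ν ν' then 4 * (m.r : ℤ) else 0) ∧
    ∑ χ ∈ outU m, ev m ν χ * yv m ν' χ = 0 := by
  by_cases hs : m.Same ν ν'
  · obtain ⟨-, e1, e2⟩ := ev_same hs
    rw [← e1, ← e2, if_pos hs, if_pos hs]
    exact ⟨(ev_self hW hp).1, yv_facts hW hp⟩
  rw [if_neg hs, if_neg hs]
  have z1 : ∀ (a b : m.Blk), m.Prim a → ¬ m.Same a b → ∀ χ l, ev m a χ * m.F m.θ₀ l b χ = 0 := fun a b ha hab χ l => by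
    simp only [ev]
    split_ifs with h
    · rw [other hW ha hab h, mul_zero]
    · exact zero_mul _
  have z2 : ∀ χ, ev m ν χ * ev m ν' χ = 0 := fun χ => by
    have := z1 ν ν' hp hs χ 1
    unfold ev at this ⊢
    split_ifs at this ⊢ <;> simp_all
  have hs' : ¬ m.Same ν' ν := fun h => hs (m.same_equiv.symm h)
  have z3 : ∀ χ l, m.F m.θ₀ l ν χ * ev m ν' χ = 0 := fun χ l => by rw [mul_comm]; exact z1 ν' ν hp' hs' χ l
  have hFF : ∀ l j, ∑ χ ∈ outU m, m.F m.θ₀ l ν χ * m.F m.θ₀ j ν' χ = 0 := fun l j => U_orth hW hp' hs' _ _ l j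
  refine ⟨sum_eq_zero fun χ _ => z2 χ, ?_, ?_⟩
  · simp only [yv, Fin.sum_univ_four, mul_sub, sub_mul, mul_add, add_mul, mul_assoc, mul_left_comm _ (4 : ℤ),
      z1 ν ν' hp hs, z2, z3, sum_sub_distrib, sum_add_distrib, hFF, mul_zero, sum_const_zero, add_zero, sub_zero]
  · refine sum_eq_zero fun χ _ => ?_
    simp only [yv, Fin.sum_univ_four, mul_sub, mul_add, mul_left_comm _ (4 : ℤ), z1 ν ν' hp hs, z2, mul_zero,
      add_zero, sub_zero]

/-- The free functions have the common value. -/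
theorem free {ν₀ : m.Blk} (hp₀ : m.Prim ν₀) {e : m.Irr} (he : e ∈ orb m ν₀) (θ : m.Free) (l : Fin 4) :
    m.B θ l e = m.F m.θ₀ 1 ν₀ e := by
  set z := m.B θ l with hz
  set γ := m.F m.θ₀ 1 ν₀ e * z e with hγ
  set Ps := univ.filter fun ν => m.Prim ν with hPs
  have hP : 3 * (Ps.card : ℤ) = 2 * (m.e : ℤ) := by exact_mod_cast m.card_prim
  have hPpos : (0 : ℤ) < Ps.card := by exact_mod_cast card_pos.2 ⟨ν₀, mem_filter.2 ⟨mem_univ _, hp₀⟩⟩
  have hr : (0 : ℤ) < m.r := by rcases m.r_cases with h | h <;> rw [h] <;> norm_num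
  have hs : ∀ ν, m.Prim ν → ∀ j, ∑ χ ∈ outU m, m.F m.θ₀ j ν χ * z χ = (m.r : ℤ) * 1 := by
    intro ν hp j
    have h := m.BF θ m.θ₀ l j ν
    rw [sum_split, members_sum (ν := ν) (a := pp l j) _ (fun x hx => pat_sum hW ((m.same_prim ν x hx).1 hp)
      (fun χ hχ => B_pat hW ((m.same_prim ν x hx).1 hp) hχ) fun χ hχ => F_pat hW hp hx hχ)
      fun x hx => sum_eq_zero fun χ hχ => by rw [supp hW hp hx m.θ₀ j (mem_bk.1 hχ), mul_zero]] at h
    rw [show ∑ χ ∈ outU m, m.F m.θ₀ j ν χ * z χ = ∑ χ ∈ outU m, z χ * m.F m.θ₀ j ν χ from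
      sum_congr rfl fun χ _ => mul_comm _ _]
    unfold pp at h
    split_ifs at h <;> linarith
  have hin : ∀ ν ∈ Ps, ∑ χ ∈ outU m, ev m ν χ * z χ = (m.r : ℤ) * γ ∧
      ∑ χ ∈ outU m, yv m ν χ * z χ = 4 * (m.r : ℤ) * (1 - γ) := by
    intro ν hν
    have hp := (mem_filter.1 hν).2
    obtain ⟨g, rfl⟩ := m.gal_trans ν₀ ν hp₀ hp
    have he' : m.perm g e ∈ orb m (m.bperm g ν₀) := by
      obtain ⟨h1, h2, h3⟩ := mem_filter.1 he
      refine mem_filter.2 ⟨out_perm g h1, ?_, fun j => ?_⟩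
      · rw [m.gal_F]; exact h2
      · rw [m.gal_F, m.gal_F]; exact h3 j
    rw [ev_inner hW hp he' (inv_B θ l), yv_inner hW hp he' (inv_B θ l) (hs _ hp), m.gal_F, m.gal_B]
    exact ⟨rfl, rfl⟩
  have hcls : ∀ ν ∈ Ps, ∀ a : ℤ, (∑ ν' ∈ Ps, if m.Same ν ν' then a else 0) = (m.r : ℤ) * a := fun ν hν a => by
    rw [← cls_sum ν a]
    refine sum_subset (subset_univ _) fun x _ hx => if_neg fun h => hx ?_
    exact mem_filter.2 ⟨mem_univ _, (m.same_prim ν x h).1 (mem_filter.1 hν).2⟩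
  have h := two_vec (outU m) z (fun χ => ∑ ν ∈ Ps, ev m ν χ) (fun χ => ∑ ν ∈ Ps, yv m ν χ)
    (A := Ps.card * (m.r * m.r)) (B := Ps.card * (4 * (m.r * m.r))) (a := Ps.card * (m.r * γ))
    (b := Ps.card * (4 * m.r * (1 - γ))) (by positivity) (by positivity) ?_ ?_ ?_ ?_ ?_
  rotate_left
  · simp only [sum_mul_sum]
    rw [sum_comm, sum_congr rfl (g := fun _ => (m.r : ℤ) * m.r) fun ν hν => ?_, sum_const, nsmul_eq_mul]
    rw [sum_comm, ← hcls ν hν]
    exact sum_congr rfl fun x hx => (cross hW (mem_filter.1 hν).2 (mem_filter.1 hx).2).1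
  · simp only [sum_mul_sum]
    rw [sum_comm, sum_congr rfl (g := fun _ => 4 * ((m.r : ℤ) * m.r)) fun ν hν => ?_, sum_const, nsmul_eq_mul]
    rw [sum_comm, show 4 * ((m.r : ℤ) * m.r) = (m.r : ℤ) * (4 * m.r) by ring, ← hcls ν hν]
    exact sum_congr rfl fun x hx => (cross hW (mem_filter.1 hν).2 (mem_filter.1 hx).2).2.1
  · simp only [sum_mul_sum]
    rw [sum_comm]
    refine sum_eq_zero fun ν hν => ?_
    rw [sum_comm]
    exact sum_eq_zero fun x hx => (cross hW (mem_filter.1 hν).2 (mem_filter.1 hx).2).2.2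
  · simp only [sum_mul]
    rw [sum_comm, sum_congr rfl fun ν hν => (hin ν hν).1, sum_const, nsmul_eq_mul]
  · simp only [sum_mul]
    rw [sum_comm, sum_congr rfl fun ν hν => (hin ν hν).2, sum_const, nsmul_eq_mul]
  have hb : (Ps.card : ℤ) * (γ ^ 2 + 4 * (1 - γ) ^ 2) ≤ ∑ χ ∈ outU m, z χ ^ 2 := by
    refine le_of_mul_le_mul_left (a := (4 : ℤ) * (Ps.card * (m.r * m.r)) * (Ps.card * (m.r * m.r))) ?_ (by positivity)
    linarith
  have hmem : (m.e : ℤ) * (if l = 0 then 5 else 1) ≤ ∑ ν, ∑ χ ∈ bk m ν, z χ ^ 2 := by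
    rw [← m.card_blk, ← card_univ (α := m.Blk), ← nsmul_eq_mul, ← sum_const]
    exact sum_le_sum fun x _ => target_ge x z l (m.B_target θ l x).1 (m.B_target θ l x).2.1 (m.B_target θ l x).2.2
  have htot := sum_split fun χ => z χ ^ 2
  have hbud : ∑ χ ∈ outU m, z χ ^ 2 ≤ (m.e : ℤ) + 3 * (m.s θ : ℤ) := by
    have hs0 : (0 : ℤ) ≤ m.s θ := Int.natCast_nonneg _
    by_cases hl : l = 0
    · subst hl
      have := m.B_norm_le θ
      rw [if_pos rfl] at hmem
      rw [← hz] at this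
      linarith
    · have := m.B_norm θ l hl
      rw [if_neg hl] at hmem
      rw [← hz] at this
      linarith
  have hγ1 : γ = 1 := by
    by_contra hne
    have h4 := mul_le_mul_of_nonneg_left (gamma_ne hne) hPpos.le
    have hox : 3 * (m.s θ : ℤ) ≤ m.e := by
      have h1 := m.s_le θ
      have h2 : m.ox ≤ m.e := by
        rw [m.e_eq]; exact Nat.le_mul_of_pos_left _ (by exact_mod_cast hr)
      exact_mod_cast h1.trans h2
    linarith
  rw [← one_mul (z e), ← ((orbit hW hp₀).2.2 e he).1, mul_assoc, ← hγ, hγ1, mul_one]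

/-- The values on the members of a class. -/
theorem members_val {ν : m.Blk} (hp : m.Prim ν) {w : m.Irr} (hw : w ∈ m.L ν) (hrow : m.row ν w = (0, 1, 1))
    (f : m.Irr → ℚ) (hf : Inv f) :
    ∑ x, ∑ χ ∈ bk m x, (m.F m.θ₀ 1 ν χ : ℚ) * f χ = (m.r : ℚ) * ((m.sg ν w : ℚ) * f w) := by
  have key : ∀ x, m.Same ν x → ∑ χ ∈ bk m x, (m.F m.θ₀ 1 ν χ : ℚ) * f χ = (m.sg ν w : ℚ) * f w := by
    intro x hx
    have hpx := (m.same_prim ν x hx).1 hp
    obtain ⟨w', hw', hrow', hval⟩ : ∃ w' ∈ m.L x, m.row x w' = (0, 1, 1) ∧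
        (m.sg x w' : ℚ) * f w' = (m.sg ν w : ℚ) * f w := by
      rcases m.r_cases with hr | hr
      · have hx' : ν = x := by
          have hc := m.card_same ν
          rw [hr] at hc
          obtain ⟨a, ha⟩ := card_eq_one.1 hc
          have h1 : ν ∈ ({a} : Finset m.Blk) := ha ▸ mem_filter.2 ⟨mem_univ _, m.same_equiv.refl ν⟩
          have h2 : x ∈ ({a} : Finset m.Blk) := ha ▸ mem_filter.2 ⟨mem_univ _, hx⟩
          rw [mem_singleton] at h1 h2
          rw [h1, h2]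
        subst hx'
        exact ⟨w, hw, hrow, rfl⟩
      · obtain ⟨τ, hτs, -, hτ, -, -⟩ := m.cycle hr
        have step : ∀ b v, m.Prim b → v ∈ m.L b → m.row b v = (0, 1, 1) →
            m.perm τ v ∈ m.L (m.bperm τ b) ∧ m.row (m.bperm τ b) (m.perm τ v) = (0, 1, 1) ∧
              (m.sg (m.bperm τ b) (m.perm τ v) : ℚ) * f (m.perm τ v) = (m.sg b v : ℚ) * f v := by
          intro b v _ hv hrv
          obtain ⟨h1, h2⟩ := m.gal_row τ b v hv
          refine ⟨(m.gal_mem τ b v).2 hv, ?_, by rw [h2, hf τ hτs v]⟩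
          rw [h1, hrv]
          cases m.swap τ <;> rfl
        obtain ⟨a1, a2, a3⟩ := step ν w hp hw hrow
        rcases (hτ ν hp).2.2 x hx with rfl | rfl | rfl
        · exact ⟨w, hw, hrow, rfl⟩
        · exact ⟨_, a1, a2, a3⟩
        · obtain ⟨b1, b2, b3⟩ := step _ _ ((m.gal_prim τ ν).2 hp) a1 a2
          exact ⟨_, b1, b2, b3.trans a3⟩
    rw [← hval, sum_eq_single w']
    · rw [F_pat hW hp hx hw', hrow']
      simp [pat]
    · intro χ hχ hne
      rw [F_pat hW hp hx (mem_bk.1 hχ)]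
      have : m.row x χ ≠ (0, 1, 1) := fun h => hne (by
        have hnd : ((m.L x).map (m.row x)).Nodup := by rw [hW.seven x hpx]; decide
        exact List.inj_on_of_nodup_map hnd (mem_bk.1 hχ) hw' (h.trans hrow'.symm))
      simp [pat, this]
    · exact fun h => absurd (mem_bk.2 hw') h
  rw [show (m.r : ℚ) * ((m.sg ν w : ℚ) * f w) = ∑ x, if m.Same ν x then (m.sg ν w : ℚ) * f w else 0 by
    rw [← sum_filter, sum_const, m.card_same, nsmul_eq_mul]]
  refine sum_congr rfl fun x _ => ?_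
  by_cases hx : m.Same ν x
  · rw [if_pos hx, key x hx]
  · rw [if_neg hx]
    exact sum_eq_zero fun χ hχ => by rw [supp hW hp hx m.θ₀ 1 (mem_bk.1 hχ), Int.cast_zero, zero_mul]

end Cfsg.Lib.Ree.Three.StepW

namespace Cfsg.Lib.Ree.Three

open Finset StepW

universe v

attribute [local instance 10] _root_.Classical.propDecidable

/-- The row `(0, 1, 1)` is impossible. -/
theorem sevenWSpec : SevenWSpec.{v} := by
  intro m hW
  obtain ⟨ν, hp⟩ := hW.exists_prim
  obtain ⟨⟨e, he⟩, hcard, ho⟩ := orbit hW hp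
  obtain ⟨hc, hconst⟩ := ho e he
  set c := m.F m.θ₀ 1 ν e with hcdef
  obtain ⟨hu, hd⟩ := m.congr_out e c (fun θ l => free hW hp he θ l) fun θ l => by
    rw [← cls_sum ν c]
    refine sum_congr rfl fun x _ => ?_
    by_cases hx : m.Same ν x
    · rw [if_pos hx, ← m.F_same θ l ν x hx, self hW hp he]
    · rw [if_neg hx, other hW hp hx he]
  obtain ⟨w, hw, hrow⟩ : ∃ w ∈ m.L ν, m.row ν w = (0, 1, 1) :=
    List.mem_map.1 (by rw [hW.seven ν hp]; decide)
  -- the remaining character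
  have hrest : ∑ χ ∈ outU m, (m.F m.θ₀ 1 ν χ - ev m ν χ) ^ 2 = 1 := by
    have hF : ∀ χ, (m.F m.θ₀ 1 ν χ - ev m ν χ) ^ 2 = m.F m.θ₀ 1 ν χ * m.F m.θ₀ 1 ν χ -
        2 * (ev m ν χ * m.F m.θ₀ 1 ν χ) + ev m ν χ * ev m ν χ := fun χ => by ring
    simp only [hF, sum_add_distrib, sum_sub_distrib, ← mul_sum, (ev_self hW hp).1, (ev_self hW hp).2, gram hW hp]
    simp
    ring
  obtain ⟨X, hX, hx2, hXrest⟩ := Star.unit_vec hrest
  set x := m.F m.θ₀ 1 ν X - ev m ν X
  have hsum : ∀ f : m.Irr → ℚ, Inv f → ∑ χ, (m.F m.θ₀ 1 ν χ : ℚ) * f χ =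
      (m.r : ℚ) * ((m.sg ν w : ℚ) * f w) + ((m.r : ℚ) * ((c : ℚ) * f e) + (x : ℚ) * f X) := by
    intro f hf
    rw [sum_split, members_val hW hp hw hrow f hf]
    congr 1
    have hev : ∑ χ ∈ outU m, (ev m ν χ : ℚ) * f χ = (m.r : ℚ) * ((c : ℚ) * f e) := by
      rw [ev_sum ν f, sum_congr rfl (fun χ hχ => by
        rw [hconst _ (inv_F m.θ₀ 1 ν) χ hχ, hconst f hf χ hχ]), sum_const, hcard, nsmul_eq_mul]
    rw [← hev, ← sum_eq_single X (f := fun χ => ((m.F m.θ₀ 1 ν χ - ev m ν χ : ℤ) : ℚ) * f χ)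
      (fun χ hχ hne => by rw [hXrest χ hχ hne, Int.cast_zero, zero_mul]) (fun h => absurd hX h),
      ← sum_add_distrib]
    exact sum_congr rfl fun χ _ => by push_cast; ring
  have e1 := hsum (fun χ => (m.u χ : ℚ)) fun g _ χ => by simp [m.gal_u]
  have e2 := hsum (fun χ => (m.d χ : ℚ)) fun g _ χ => by simp [m.gal_d]
  have e3 := hsum (fun χ => (m.u χ : ℚ) ^ 2 / (m.d χ : ℚ)) fun g _ χ => by simp [m.gal_u, m.gal_d]
  have z1 : ∑ χ, (m.F m.θ₀ 1 ν χ : ℚ) * (m.u χ : ℚ) = 0 := by exact_mod_cast m.F_t m.θ₀ 1 ν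
  have z2 : ∑ χ, (m.F m.θ₀ 1 ν χ : ℚ) * (m.d χ : ℚ) = 0 := by exact_mod_cast m.F_one m.θ₀ 1 ν
  have z3 := m.F_count m.θ₀ 1 ν
  simp only [mul_div_assoc, show (1 : Fin 4) ≠ 0 by decide, ↓reduceIte] at z3
  rw [z1] at e1
  rw [z2] at e2
  rw [z3] at e3
  set s := m.sg ν w
  have hs : (s : ℚ) * s = 1 := by exact_mod_cast m.sg_sq ν w
  have hc' : (c : ℚ) * c = 1 := by exact_mod_cast hc
  have hx' : (x : ℚ) * x = 1 := by
    have : x * x = 1 := by rw [← pow_two]; exact hx2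
    exact_mod_cast this
  have dw : (m.d w : ℚ) ≠ 0 := by exact_mod_cast (m.d_pos w).ne'
  have de : (m.d e : ℚ) ≠ 0 := by exact_mod_cast (m.d_pos e).ne'
  have dX : (m.d X : ℚ) ≠ 0 := by exact_mod_cast (m.d_pos X).ne'
  have hr0 : (m.r : ℚ) ≠ 0 := by rcases m.r_cases with h | h <;> simp [h]
  field_simp at e3
  have key : ((s * m.u w) * (c * m.d e) - (c * m.u e) * (s * m.d w) : ℚ) = 0 := by
    have h : (m.r : ℚ) ^ 2 * (((s : ℚ) * m.u w) * (c * m.d e) - (c * m.u e) * (s * m.d w)) ^ 2 = 0 := by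
      linear_combination (x : ℚ) * s * c * e3
        - ((m.r : ℚ) * (((s : ℚ) * m.u w) ^ 2 * (c * m.d e) + ((c : ℚ) * m.u e) ^ 2 * (s * m.d w))) * e2
        + ((s : ℚ) * m.d w) * (c * m.d e) *
          ((m.r : ℚ) * (s * m.u w + c * m.u e) - (x : ℚ) * m.u X) * e1
    have := (mul_eq_zero.1 h).resolve_left (pow_ne_zero _ hr0)
    exact pow_eq_zero_iff two_ne_zero |>.1 this
  have keyZ : (s * m.u w) * (c * m.d e) = (c * m.u e) * (s * m.d w) := by exact_mod_cast sub_eq_zero.1 key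
  -- the congruence
  have ha : s * m.u w = 2 * midVal m.Q := by
    rw [m.at_t ν w hw, hrow, ← mul_assoc, m.sg_sq, one_mul, rowW]; ring
  have h2m : 2 * midVal m.Q = m.Q + 1 := by
    have := m.base.mod_eight
    unfold midVal; omega
  have hk := m.k_eq
  have hk4 : (m.k : ℤ) ∣ 4 * (m.Q + 1) := by
    obtain ⟨a, ha'⟩ := hu
    obtain ⟨b, hb⟩ := hd
    refine ⟨(m.Q + 1) * (c * b) - c * a * (s * m.d w), ?_⟩
    rw [ha, h2m] at keyZ
    have hcc : c * c = 1 := hc
    linear_combination -keyZ + (m.Q + 1) * c * hb - c * (s * m.d w) * ha' +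
      (-4 * (m.Q + 1)) * hcc
  have hk8 : (m.k : ℤ) ∣ 8 := by
    obtain ⟨a, ha'⟩ := hk4
    exact ⟨a + 16, by linear_combination ha' - 4 * hk⟩
  have := odd_square _ hk8 (by exact_mod_cast m.k_odd) (by have := m.base.big; omega)
  have := m.base.big
  omega

end Cfsg.Lib.Ree.Three
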