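import Cfsg.Agent.Ree.Three.Names
import Cfsg.Agent.Ree.Three.ArithEightB
import Cfsg.Agent.Ree.Three.ArithSevenB
import Cfsg.Agent.Ree.Three.SevenW

/-!
`ModelSpec`: the configurations A and B of a primitive block are impossible, so every primitive block has the
configuration W, which `sevenWSpec` refutes (`notes/ree_three_model_h4.md`).
-/

set_option autoImplicit false
set_option linter.unusedSectionVars false

namespace Cfsg.Lib.Ree.Three

universe v w

attribute [local instance 10] _root_.Classical.propDecidable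

namespace Model

variable {m : Model.{v}} {ν : m.Blk}

/-- The system of a block with eight members. -/
theorem eightData (N : Names ν rows8) :
    EightData m.Q m.h (-N.D 0) (-N.D 1) (N.D 2) (N.D 3) (N.D 4) (N.D 5) (N.D 6) (N.D 7) := by
  have c0 := N.congr_eight 0
  have c1 := N.congr_eight 1
  have c2 := N.congr_eight 2
  have c3 := N.congr_eight 3
  have c4 := N.congr_eight 4
  have c5 := N.congr_eight 5
  have c6 := N.congr_eight 6
  have c7 := N.congr_eight 7
  have d0 := N.dvd_h 0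
  have d1 := N.dvd_h 1
  have d2 := N.dvd_h 2
  have d3 := N.dvd_h 3
  have d4 := N.dvd_h 4
  have d5 := N.dvd_h 5
  have d6 := N.dvd_h 6
  have d7 := N.dvd_h 7
  simp [rows8_val, rowW_x, rowW_al, rowW_be, rowW_all] at c0 c1 c2 c3 c4 c5 c6 c7 d0 d1 d2 d3 d4 d5 d6 d7
  obtain ⟨l1, l2, l3⟩ := m.cols ν
  have s1 := N.col Prod.fst l1
  have s2 := N.col (fun r => r.2.1) l2
  have s3 := N.col (fun r => r.2.2) l3
  simp [Fin.sum_univ_eight, rows8_val] at s1 s2 s3
  obtain ⟨k1, k2, k3⟩ := m.counts ν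
  have e1 := N.count Prod.fst k1
  have e2 := N.count (fun r => r.2.1) k2
  have e3 := N.count (fun r => r.2.2) k3
  simp [Fin.sum_univ_eight, rows8_val, rowW_x, rowW_al, rowW_be, rowW_all] at e1 e2 e3
  have h5 := m.base.mod_eight
  refine { toBase := m.base, ne := ?_, congr := ?_, dvd := ?_, col_x := ?_, col_al := ?_, col_be := ?_,
           eq_x := ?_, eq_al := ?_, eq_be := ?_ }
  · exact ⟨neg_ne_zero.2 (N.D_ne 0), neg_ne_zero.2 (N.D_ne 1), N.D_ne 2, N.D_ne 3, N.D_ne 4, N.D_ne 5, N.D_ne 6,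
      N.D_ne 7⟩
  · exact ⟨by omega, by omega, c2, c3, c4, c5, by omega, by omega⟩
  · exact ⟨by simpa using d0, by simpa using d1, d2, d3, d4, d5, d6, d7⟩
  · linarith
  · linarith
  · linarith
  · push_cast; linear_combination e1
  · push_cast; linear_combination e2
  · push_cast; linear_combination e3

/-- The system of a block with seven members. -/
theorem sevenData (N : Names ν rows7) :
    SevenData m.Q m.h (-N.D 0) (N.D 1) (N.D 2) (N.D 3) (N.D 4) (N.D 5) (N.D 6) := by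
  have c0 := N.congr_eight 0
  have c1 := N.congr_eight 1
  have c2 := N.congr_eight 2
  have c3 := N.congr_eight 3
  have c4 := N.congr_eight 4
  have c5 := N.congr_eight 5
  have c6 := N.congr_eight 6
  have d0 := N.dvd_h 0
  have d1 := N.dvd_h 1
  have d2 := N.dvd_h 2
  have d3 := N.dvd_h 3
  have d4 := N.dvd_h 4
  have d5 := N.dvd_h 5
  have d6 := N.dvd_h 6
  simp [rows7_val, rowW_x, rowW_al, rowW_be, rowW_all, rowW_xbe, rowW_xal, rowW_albe]
    at c0 c1 c2 c3 c4 c5 c6 d0 d1 d2 d3 d4 d5 d6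
  obtain ⟨l1, l2, l3⟩ := m.cols ν
  have s1 := N.col Prod.fst l1
  have s2 := N.col (fun r => r.2.1) l2
  have s3 := N.col (fun r => r.2.2) l3
  simp [Fin.sum_univ_seven, rows7_val] at s1 s2 s3
  obtain ⟨k1, k2, k3⟩ := m.counts ν
  have e1 := N.count Prod.fst k1
  have e2 := N.count (fun r => r.2.1) k2
  have e3 := N.count (fun r => r.2.2) k3
  simp [Fin.sum_univ_seven, rows7_val, rowW_x, rowW_al, rowW_be, rowW_all, rowW_xbe, rowW_xal, rowW_albe] at e1 e2 e3
  have h5 := m.base.mod_eight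
  refine { toBase := m.base, ne := ?_, congr := ?_, dvd := ?_, col_x := ?_, col_al := ?_, col_be := ?_,
           eq_x := ?_, eq_al := ?_, eq_be := ?_ }
  · exact ⟨neg_ne_zero.2 (N.D_ne 0), N.D_ne 1, N.D_ne 2, N.D_ne 3, N.D_ne 4, N.D_ne 5, N.D_ne 6⟩
  · exact ⟨by omega, c1, c2, c3, c4, c5, by omega⟩
  · exact ⟨by simpa using d0, d1, d2, d3, d4, d5, d6⟩
  · linarith
  · linarith
  · linarith
  · push_cast; linear_combination e1
  · push_cast; linear_combination e2
  · push_cast; linear_combination e3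

/-- Configuration A with eight members: the degree of a member is one. -/
theorem eight_A (hν : m.Prim ν) (hk : (m.L ν).map (m.row ν) = eight) (hp : PatA ν (m.F m.θ₀ 1 ν)) : False := by
  obtain ⟨x, hx, z, hz, hrx, hrz, hfx, hfz, h0⟩ := hp
  obtain ⟨N₀⟩ := Names.nonempty_of (hk.trans eight_eq)
  obtain ⟨N₁, h1, -⟩ := N₀.move hx 1 (hrx.trans rfl)
  obtain ⟨N, h6, hkeep⟩ := N₁.move hz 6 (hrz.trans rfl)
  rw [← hkeep 1 (by decide)] at h1
  subst h1 h6
  have hv := N.values_pair (f := m.F m.θ₀ 1 ν) (i := 1) (j := 6) (by decide) (x := -1) (y := 1)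
    (by rw [hfx]; ring) (by rw [hfz]; ring) h0
  have hb := N.eq_one hν hv (by decide)
  have hf := N.eq_zero hν hv (by decide)
  simp [Fin.sum_univ_eight, rows8_val, rowUs, rowW_x, rowW_al, rowW_be, rowW_all] at hb hf
  have X : EightA m.Q m.h (-N.D 0) (-N.D 1) (N.D 2) (N.D 3) (N.D 4) (N.D 5) (N.D 6) (N.D 7) :=
    { toEightData := eightData N
      eq_b := by rw [← hb]; push_cast; ring
      eq_f := by rw [← hf]; push_cast; ring }
  obtain ⟨ha, hZ, hh⟩ := eightASpec _ _ _ _ _ _ _ _ _ _ X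
  have hbound := prims_bound hν (N.mem_c 7)
  rw [N.d_eq_abs 7, sq_abs, hZ] at hbound
  have hP : 3 * (m.prims.card : ℤ) = 2 * (m.e : ℤ) := by exact_mod_cast card_prims
  have he : (0 : ℤ) < m.e := by exact_mod_cast e_pos ν
  have hbig := m.base.big
  set a := -N.D 0 with had
  set q := -m.Q with hq
  have hQ : m.Q = -q := by rw [hq]; ring
  have hX : 0 < a * q ^ 3 := mul_pos ha (pow_pos (by omega) 3)
  have h2 : 2 * (a * q ^ 3) ≤ 3 * ((q ^ 2 - q + 1) * (q ^ 2 - 1)) := by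
    refine Int.le_of_mul_le_mul_right ?_ (mul_pos hX he)
    rw [hh, hQ] at hbound
    linear_combination 3 * hbound + (a * q ^ 3) ^ 2 * hP.ge
  have h3 : 2 * a < 3 * q := by
    refine lt_of_mul_lt_mul_right ?_ (pow_nonneg (show (0 : ℤ) ≤ q by omega) 3)
    nlinarith [pow_pos (show (0 : ℤ) < q by omega) 2]
  have hk1 : (m.Q - 1) / 4 ∣ a - 1 := by
    have := N.congr_k hν hv 0
    simp [rows8_val, rowUs] at this
    rw [show a - 1 = -(N.D 0 + 1) by rw [had]; ring]
    exact this.neg_right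
  have hk8 : (8 : ℤ) ∣ a - 1 := by have := X.congr.1; omega
  have hdvd := m.base.combine hk8 hk1
  have ha1 : a - 1 = 0 := by
    refine Int.eq_zero_of_abs_lt_dvd (neg_dvd.2 hdvd) ?_
    rw [abs_lt]
    constructor <;> omega
  refine m.linear ν hν (N.c 0) (mem_mem.1 (N.mem_c 0)) ?_
  rw [N.d_eq_abs 0, show N.D 0 = -1 by omega]
  norm_num

/-- Configuration B with eight members. -/
theorem eight_B (hν : m.Prim ν) (hk : (m.L ν).map (m.row ν) = eight) (hp : PatB ν (m.F m.θ₀ 1 ν)) : False := by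
  obtain ⟨x, hx, z, hz, hrx, hrz, hfx, hfz, h0⟩ := hp
  obtain ⟨N₀⟩ := Names.nonempty_of (hk.trans eight_eq)
  obtain ⟨N₁, h1, -⟩ := N₀.move hx 2 (hrx.trans rfl)
  obtain ⟨N, h4, hkeep⟩ := N₁.move hz 4 (hrz.trans rfl)
  rw [← hkeep 2 (by decide)] at h1
  subst h1 h4
  have hv := N.values_pair (f := m.F m.θ₀ 1 ν) (i := 2) (j := 4) (by decide) (x := 1) (y := 1)
    (by rw [hfx]; ring) (by rw [hfz]; ring) h0
  have hb := N.eq_one hν hv (by decide)
  have hf := N.eq_zero hν hv (by decide)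
  simp [Fin.sum_univ_eight, rows8_val, rowUs, rowW_x, rowW_al, rowW_be, rowW_all] at hb hf
  have g0 := N.congr_k hν hv 0
  have g1 := N.congr_k hν hv 1
  have g2 := N.congr_k hν hv 2
  have g3 := N.congr_k hν hv 3
  have g6 := N.congr_k hν hv 6
  have g7 := N.congr_k hν hv 7
  simp [rows8_val, rowUs] at g0 g1 g2 g3 g6 g7
  exact eightBSpec _ _ _ _ _ _ _ _ _ _
    { toEightData := eightData N
      congr_k := ⟨by rw [show -N.D 0 - 1 = -(N.D 0 + 1) by ring]; exact g0.neg_right,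
        by rw [show -N.D 1 - 1 = -(N.D 1 + 1) by ring]; exact g1.neg_right,
        by convert g2 using 1; ring, g3, g6, g7⟩
      eq_b := by rw [← hb]; push_cast; ring
      eq_f := by rw [← hf]; push_cast; ring }

/-- Configuration A with seven members. -/
theorem seven_A (hν : m.Prim ν) (hk : (m.L ν).map (m.row ν) = seven) (hp : PatA ν (m.F m.θ₀ 1 ν)) : False := by
  obtain ⟨x, hx, z, hz, hrx, hrz, hfx, hfz, h0⟩ := hp
  obtain ⟨N₀⟩ := Names.nonempty_of (hk.trans seven_eq)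
  obtain ⟨N₁, h1, -⟩ := N₀.move hx 0 (hrx.trans rfl)
  obtain ⟨N, h6, hkeep⟩ := N₁.move hz 6 (hrz.trans rfl)
  rw [← hkeep 0 (by decide)] at h1
  subst h1 h6
  have hv := N.values_pair (f := m.F m.θ₀ 1 ν) (i := 0) (j := 6) (by decide) (x := -1) (y := 1)
    (by rw [hfx]; ring) (by rw [hfz]; ring) h0
  have hb := N.eq_one hν hv (by decide)
  have hf := N.eq_zero hν hv (by decide)
  simp [Fin.sum_univ_seven, rows7_val, rowUs, rowW_x, rowW_al, rowW_be, rowW_all, rowW_xbe, rowW_xal, rowW_albe]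
    at hb hf
  exact sevenASpec _ _ _ _ _ _ _ _ _
    { toSevenData := sevenData N
      eq_b := by rw [← hb]; push_cast; ring
      eq_f := by rw [← hf]; push_cast; ring }

/-- Configuration B with seven members. -/
theorem seven_B (hν : m.Prim ν) (hk : (m.L ν).map (m.row ν) = seven) (hp : PatB ν (m.F m.θ₀ 1 ν)) : False := by
  obtain ⟨x, hx, z, hz, hrx, hrz, hfx, hfz, h0⟩ := hp
  obtain ⟨N₀⟩ := Names.nonempty_of (hk.trans seven_eq)
  obtain ⟨N₁, h2, -⟩ := N₀.move hx 2 (hrx.trans rfl)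
  obtain ⟨N, h1, hkeep⟩ := N₁.move hz 1 (hrz.trans rfl)
  rw [← hkeep 2 (by decide)] at h2
  subst h1 h2
  have hv := N.values_pair (f := m.F m.θ₀ 1 ν) (i := 2) (j := 1) (by decide) (x := 1) (y := 1)
    (by rw [hfx]; ring) (by rw [hfz]; ring) h0
  have hb := N.eq_one hν hv (by decide)
  have hf := N.eq_zero hν hv (by decide)
  simp [Fin.sum_univ_seven, rows7_val, rowUs, rowW_x, rowW_al, rowW_be, rowW_all, rowW_xbe, rowW_xal, rowW_albe]
    at hb hf
  have g0 := N.congr_k hν hv 0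
  have g2 := N.congr_k hν hv 2
  have g6 := N.congr_k hν hv 6
  simp [rows7_val, rowUs] at g0 g2 g6
  exact sevenBSpec _ _ _ _ _ _ _ _ _
    { toSevenData := sevenData N
      congr_k := ⟨by rw [show -N.D 0 - 1 = -(N.D 0 + 1) by ring]; exact g0.neg_right,
        by convert g2 using 1; ring, g6⟩
      eq_b := by rw [← hb]; push_cast; ring
      eq_f := by rw [← hf]; push_cast; ring }

/-- The configuration at `θ₀` and `l = 1`. -/
theorem patW_one (hν : m.Prim ν) :
    PatW ν (m.F m.θ₀ 1 ν) ∧ ∑ χ ∈ m.mem ν, m.F m.θ₀ 1 ν χ ^ 2 = 1 := by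
  have hl : (1 : Fin 4) ≠ 0 := by decide
  rcases classify (F_tgt_one m.θ₀ hl (m.same_equiv.refl ν)) (norm_le_two m.θ₀ hl hν) with
    ⟨h, -⟩ | ⟨h, -⟩ | h
  · rcases m.kind ν with hk | hk
    · exact (eight_A hν hk h).elim
    · exact (seven_A hν hk h).elim
  · rcases m.kind ν with hk | hk
    · exact (eight_B hν hk h).elim
    · exact (seven_B hν hk h).elim
  · exact h

/-- The configuration at `θ₀` and all `l ≠ 0`. -/
theorem patW_all {l : Fin 4} (hl : l ≠ 0) (hν : m.Prim ν) : PatW ν (m.F m.θ₀ l ν) := by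
  by_cases h1 : l = 1
  · rw [h1]; exact (patW_one hν).1
  obtain ⟨hW, hW1⟩ := patW_one hν
  rcases classify (F_tgt_one m.θ₀ hl (m.same_equiv.refl ν)) (norm_le_two m.θ₀ hl hν) with
    ⟨h, h2⟩ | ⟨h, h2⟩ | ⟨h, -⟩
  case inr.inr => exact h
  all_goals
    exfalso
    have hdot : ∑ χ ∈ m.mem ν, m.F m.θ₀ 1 ν χ * m.F m.θ₀ l ν χ = 0 := dot_W hW (by first | exact Or.inl h | exact Or.inr h)
    have hp := m.F_pair 1 l ν (by decide) hl (Ne.symm h1)
    rw [sum_split (m.cls ν), sum_class hν (fun f _ _ => f m.θ₀ 1 ν * f m.θ₀ l ν), hdot, smul_zero, zero_add] at hp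
    have o1 := out_norm m.θ₀ (show (1 : Fin 4) ≠ 0 by decide) hν
    have ol := out_norm m.θ₀ hl hν
    rw [hW1] at o1
    rw [h2] at ol
    have hCS := Finset.sum_mul_sq_le_sq_mul_sq (m.out (m.cls ν)) (m.F m.θ₀ 1 ν) (m.F m.θ₀ l ν)
    rw [hp, o1, ol] at hCS
    rcases m.r_cases with hr | hr <;> simp [hr] at hCS

/-- A vector of configuration W in closed form. -/
theorem patW_eq {f : m.Irr → ℤ} (h : PatW ν f) {χ : m.Irr} (hχ : χ ∈ m.mem ν) :
    f χ = if m.row ν χ = (0, 1, 1) then m.sg ν χ else 0 := by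
  obtain ⟨w, hw, hrw, hfw, h0⟩ := h
  split_ifs with hr
  · rw [row_eq_W hχ hw hr hrw, hfw]
  · exact h0 χ hχ fun e => hr (e ▸ hrw)

/-- Steps 0 to 3. -/
theorem topW (m : Model.{v}) : m.TopW := by
  obtain ⟨θ₁⟩ := m.free_ne
  have hFB : ∀ θ (l : Fin 4) μ χ, l ≠ 0 → m.Prim μ → χ ∈ m.mem μ →
      m.F θ l μ χ = if m.row μ χ = (0, 1, 1) then m.sg μ χ else 0 := fun θ l μ χ hl hμ hχ => by
    rw [← bottom θ₁ θ hl hμ χ hχ, bottom θ₁ m.θ₀ hl hμ χ hχ, patW_eq (patW_all hl hμ) hχ]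
  refine ⟨fun μ hμ => ?_, ?_, fun θ l μ χ hl hμ hχ => hFB θ l μ χ hl hμ (mem_mem.2 hχ),
    fun θ l μ χ hl hμ hχ => ?_, fun θ l μ μ' hs hP χ hχ => off θ l hs hP (mem_mem.2 hχ)⟩
  · obtain ⟨w, hw, hrw, -, -⟩ := (patW_one hμ).1
    rcases m.kind μ with hk | hk
    · have := List.mem_map_of_mem (f := m.row μ) (mem_mem.1 hw)
      rw [hk, hrw] at this
      exact absurd this (by decide)
    · exact hk
  · obtain ⟨μ⟩ : Nonempty m.Blk := by
      rw [← Fintype.card_pos_iff, m.card_blk, m.e_eq]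
      exact Nat.mul_pos r_pos m.ox_pos
    exact exists_prim μ
  · rw [bottom θ m.θ₀ hl hμ χ (mem_mem.2 hχ), hFB m.θ₀ l μ χ hl hμ (mem_mem.2 hχ)]

end Model

/-- The data are contradictory. -/
theorem modelSpec : ModelSpec.{v} := fun m => sevenWSpec m (Model.topW m)

end Cfsg.Lib.Ree.Three
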