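import Cfsg.Agent.Ree.Three.Spec

/-!
The combinatorial content of the index a power of 3: the blocks `ν` (the characters of `Phi`), their members, the
multiplicities `F θ l ν` of the functions of `V × K⟨x⟩` (`θ` fixed by `x`) and `B θ l` of those of `V × K` (`θ` not
fixed by `x`), and the Galois group. `ModelSpec` is the contradiction; `notes/ree_three_h4.md` has the argument.
-/

set_option autoImplicit false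

namespace Cfsg.Lib.Ree.Three

universe v

/-- The weight of a row in the difference of two functions. -/
def rowUs (r : ℤ × ℤ × ℤ) : ℤ := -r.1 + r.2.1 + r.2.2

/-- The common target at `al` and `be`. -/
def tgt (l : Fin 4) : ℤ := if l = 0 then -3 else 1

/-- The exchange of the last two entries. -/
def swapRow (b : Bool) (r : ℤ × ℤ × ℤ) : ℤ × ℤ × ℤ := if b then (r.1, r.2.2, r.2.1) else r

attribute [local instance 10] _root_.Classical.propDecidable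

/-- The data. -/
structure Model where
  Irr : Type v
  [irr_fin : Fintype Irr]
  Blk : Type v
  [blk_fin : Fintype Blk]
  Fix : Type v
  Free : Type v
  Q : ℤ
  h : ℤ
  e : ℕ
  r : ℕ
  ox : ℕ
  k : ℕ
  base : Base Q h
  r_cases : r = 1 ∨ r = 3
  e_eq : e = r * ox
  three_dvd : 3 ∣ ox
  ox_pos : 0 < ox
  k_eq : 4 * (k : ℤ) = 1 - Q
  k_odd : Odd k
  -- degrees and values at the involution
  d : Irr → ℤ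
  u : Irr → ℤ
  d_pos : ∀ χ, 0 < d χ
  order : ∑ χ, d χ ^ 2 = h * (e : ℤ) * (-Q) * (Q ^ 2 - 1)
  -- the blocks
  Prim : Blk → Prop
  Same : Blk → Blk → Prop
  same_equiv : Equivalence Same
  same_prim : ∀ ν ν', Same ν ν' → (Prim ν ↔ Prim ν')
  card_same : ∀ ν, (Finset.univ.filter fun ν' => Same ν ν').card = r
  card_blk : Fintype.card Blk = e
  card_prim : 3 * (Finset.univ.filter fun ν => Prim ν).card = 2 * e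
  L : Blk → List Irr
  row : Blk → Irr → ℤ × ℤ × ℤ
  sg : Blk → Irr → ℤ
  nodup : ∀ ν, (L ν).Nodup
  kind : ∀ ν, (L ν).map (row ν) = eight ∨ (L ν).map (row ν) = seven
  sg_sq : ∀ ν χ, sg ν χ * sg ν χ = 1
  disjoint : ∀ ν ν' χ, χ ∈ L ν → χ ∈ L ν' → ν = ν'
  at_t : ∀ ν, ∀ χ ∈ L ν, u χ = sg ν χ * rowW Q (row ν χ)
  congr : ∀ ν, ∀ χ ∈ L ν, (8 : ℤ) ∣ sg ν χ * d χ - rowW Q (row ν χ)
  dvd : ∀ ν, ∀ χ ∈ L ν, sg ν χ * d χ ∣ h * rowW Q (row ν χ)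
  cols : ∀ ν, ((L ν).map fun χ => (row ν χ).1 * (sg ν χ * d χ)).sum = 0 ∧
    ((L ν).map fun χ => (row ν χ).2.1 * (sg ν χ * d χ)).sum = 0 ∧
    ((L ν).map fun χ => (row ν χ).2.2 * (sg ν χ * d χ)).sum = 0
  counts : ∀ ν,
    (h : ℚ) * ((L ν).map fun χ =>
        ((row ν χ).1 : ℚ) * (rowW Q (row ν χ) : ℚ) ^ 2 / ((sg ν χ * d χ : ℤ) : ℚ)).sum =
      -((Q : ℚ) + 1) * Q * ((Q : ℚ) ^ 2 - 1) ∧
    (h : ℚ) * ((L ν).map fun χ =>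
        ((row ν χ).2.1 : ℚ) * (rowW Q (row ν χ) : ℚ) ^ 2 / ((sg ν χ * d χ : ℤ) : ℚ)).sum =
      (3 * (Q : ℚ) + 1) * Q * ((Q : ℚ) + 1) ∧
    (h : ℚ) * ((L ν).map fun χ =>
        ((row ν χ).2.2 : ℚ) * (rowW Q (row ν χ) : ℚ) ^ 2 / ((sg ν χ * d χ : ℤ) : ℚ)).sum =
      (3 * (Q : ℚ) + 1) * Q * ((Q : ℚ) + 1)
  linear : ∀ ν, Prim ν → ∀ χ ∈ L ν, d χ ≠ 1
  -- the functions
  F : Fix → Fin 4 → Blk → Irr → ℤ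
  B : Free → Fin 4 → Irr → ℤ
  θ₀ : Fix
  free_ne : Nonempty Free
  s : Free → ℕ
  s_le : ∀ θ, 3 * s θ ≤ ox
  F_same : ∀ θ l ν ν', Same ν ν' → F θ l ν = F θ l ν'
  F_orth : ∀ θ θ' l l' ν ν', ¬ Same ν ν' → ∑ χ, F θ l ν χ * F θ' l' ν' χ = 0
  F_norm : ∀ θ (l : Fin 4) ν, l ≠ 0 → ∑ χ, F θ l ν χ ^ 2 = 2 * (r : ℤ) + 1
  F_norm_zero : ∀ ν, ∑ χ, F θ₀ 0 ν χ ^ 2 = if r = 1 then 7 else 21
  F_norm_le : ∀ θ ν, r = 1 → ∑ χ, F θ 0 ν χ ^ 2 ≤ 9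
  F_mixed : ∀ θ θ' (l : Fin 4) ν, l ≠ 0 → ∑ χ, F θ l ν χ * F θ' 0 ν χ = 0
  F_pair : ∀ (l j : Fin 4) ν, l ≠ 0 → j ≠ 0 → l ≠ j →
    ∑ χ, F θ₀ l ν χ * F θ₀ j ν χ = if r = 1 then 2 else 7
  F_conj : ∀ θ, (∃ π : Fin 4 ≃ Fin 4, π 0 = 0 ∧ ∀ l ν, F θ l ν = F θ₀ (π l) ν) ∨
    (r = 1 ∧ (∀ (l j : Fin 4) ν, l ≠ 0 → j ≠ 0 → ∑ χ, F θ l ν χ * F θ₀ j ν χ = 2) ∧
      ∀ ν, ∑ χ, F θ 0 ν χ * F θ₀ 0 ν χ = 6)
  B_norm : ∀ θ (l : Fin 4), l ≠ 0 → ∑ χ, B θ l χ ^ 2 = 2 * (e : ℤ) + s θ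
  B_norm_le : ∀ θ, ∑ χ, B θ 0 χ ^ 2 ≤ 6 * (e : ℤ) + 3 * s θ
  B_mixed : ∀ θ (l : Fin 4), l ≠ 0 → ∑ χ, B θ l χ * B θ 0 χ = 0
  BF : ∀ θ θ' (l l' : Fin 4) ν, ∑ χ, B θ l χ * F θ' l' ν χ =
    if l = 0 then (if l' = 0 then 6 * (r : ℤ) else 0) else if l' = 0 then 0 else 2 * (r : ℤ)
  F_target : ∀ θ l ν ν',
    ((L ν').map fun χ => F θ l ν χ * (sg ν' χ * (row ν' χ).1)).sum = 0 ∧
    ((L ν').map fun χ => F θ l ν χ * (sg ν' χ * (row ν' χ).2.1)).sum = (if Same ν ν' then tgt l else 0) ∧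
    ((L ν').map fun χ => F θ l ν χ * (sg ν' χ * (row ν' χ).2.2)).sum = (if Same ν ν' then tgt l else 0)
  B_target : ∀ θ l ν',
    ((L ν').map fun χ => B θ l χ * (sg ν' χ * (row ν' χ).1)).sum = 0 ∧
    ((L ν').map fun χ => B θ l χ * (sg ν' χ * (row ν' χ).2.1)).sum = tgt l ∧
    ((L ν').map fun χ => B θ l χ * (sg ν' χ * (row ν' χ).2.2)).sum = tgt l
  F_diff : ∀ θ (l : Fin 4) ν ν', l ≠ 0 → ∀ χ ∈ L ν',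
    F θ l ν χ = F θ 0 ν χ + if Same ν ν' then sg ν' χ * rowUs (row ν' χ) else 0
  B_diff : ∀ θ (l : Fin 4) ν', l ≠ 0 → ∀ χ ∈ L ν', B θ l χ = B θ 0 χ + sg ν' χ * rowUs (row ν' χ)
  F_t : ∀ θ l ν, ∑ χ, F θ l ν χ * u χ = 0
  F_one : ∀ θ l ν, ∑ χ, F θ l ν χ * d χ = 0
  B_t : ∀ θ l, ∑ χ, B θ l χ * u χ = 0
  F_count : ∀ θ (l : Fin 4) ν, ∑ χ, (F θ l ν χ : ℚ) * (u χ : ℚ) ^ 2 / (d χ : ℚ) =
    if l = 0 then -(r : ℚ) * ((Q : ℚ) - 1) * Q * ((Q : ℚ) ^ 2 - 1) / (h : ℚ) else 0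
  congr_member : ∀ ν, ∀ χ ∈ L ν, ∀ α : ℤ, (∀ θ, B θ 1 χ = α) → (∀ θ, ∑ ν', F θ 1 ν' χ = (r : ℤ) * α) →
    (k : ℤ) ∣ d χ + 4 * α - sg ν χ * rowUs (row ν χ)
  congr_out : ∀ χ (α : ℤ), (∀ θ l, B θ l χ = α) → (∀ θ l, ∑ ν', F θ l ν' χ = (r : ℤ) * α) →
    (k : ℤ) ∣ u χ ∧ (k : ℤ) ∣ d χ + 4 * α
  -- the Galois group
  Gal : Type v
  perm : Gal → Irr ≃ Irr
  bperm : Gal → Blk ≃ Blk
  swap : Gal → Bool
  gal_d : ∀ g χ, d (perm g χ) = d χ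
  gal_u : ∀ g χ, u (perm g χ) = u χ
  gal_mem : ∀ g ν χ, perm g χ ∈ L (bperm g ν) ↔ χ ∈ L ν
  gal_row : ∀ g ν, ∀ χ ∈ L ν, row (bperm g ν) (perm g χ) = swapRow (swap g) (row ν χ) ∧
    sg (bperm g ν) (perm g χ) = sg ν χ
  gal_prim : ∀ g ν, Prim (bperm g ν) ↔ Prim ν
  gal_same : ∀ g ν ν', Same (bperm g ν) (bperm g ν') ↔ Same ν ν'
  gal_F : ∀ g θ l ν χ, F θ l (bperm g ν) (perm g χ) = F θ l ν χ
  gal_B : ∀ g θ l χ, B θ l (perm g χ) = B θ l χ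
  gal_trans : ∀ ν ν', Prim ν → Prim ν' → ∃ g, bperm g ν = ν'
  cycle : r = 3 → ∃ τ : Gal, (∀ ν, Same ν (bperm τ ν)) ∧ (∀ ν, ¬ Prim ν → bperm τ ν = ν) ∧
    (∀ ν, Prim ν → bperm τ ν ≠ ν ∧ bperm τ (bperm τ ν) ≠ ν ∧
      ∀ ν', Same ν ν' → ν' = ν ∨ ν' = bperm τ ν ∨ ν' = bperm τ (bperm τ ν)) ∧
    (∃ n : ℕ, (perm τ)^[3 ^ n] = id) ∧
    ∀ θ ν χ, Prim ν → perm τ χ = χ → (3 : ℤ) ∣ F θ 0 ν χ

attribute [instance] Model.irr_fin Model.blk_fin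

/-- The data are contradictory. -/
def ModelSpec : Prop :=
  Model.{v} → False

end Cfsg.Lib.Ree.Three
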