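import Cfsg.Agent.Ree.Three.Local
import Cfsg.Agent.Ree.Field.Transfer

/-!
The element `x` of `Phi` whose fixed field has at least 27 elements: the subgroup of `K` centralized by `x`,
moved by the element of order three of the normalizer of the four-group.
-/

set_option autoImplicit false
set_option linter.style.haveILetI false
set_option linter.unusedSectionVars false

namespace Cfsg.Lib.Ree.Three

open Subgroup Cfsg.Lib.TwoTimesPSL Cfsg.Lib.Ree

universe u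

variable {G : Type u} [Group G] [Finite G] {t : G} {E E₀ : Subgroup G} {k : ℕ}

theorem aut_seven : ∀ a c : ZMod 7, a * a * a = 1 → a ≠ 1 → c * c * c = 1 → c ≠ 1 →
    a * c = 1 ∨ a * (a * c) = 1 := by
  decide +kernel

/-- The element `x` and the index `r` of its powers in `Phi`. -/
structure Pivot (Φ : TFrame t E E₀ k) (x : G) (r : ℕ) : Prop where
  mem : x ∈ Φ.Phi
  ne : x ≠ 1
  r_cases : r = 1 ∨ r = 3
  pow : ∃ A, Nat.card Φ.Phi = 3 ^ A
  card_eq : r * orderOf x = Nat.card Φ.Phi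
  three_dvd : 3 ∣ orderOf x
  fix_ne : ∃ y ∈ Φ.K, y ≠ 1 ∧ Commute x y
  faith : ∀ p ∈ Φ.Phi, (∀ y ∈ Φ.K, Commute x y → Commute p y) → p ∈ zpowers x
  faith_K : ∀ p ∈ Φ.Phi, (∀ y ∈ Φ.K, Commute p y) → p = 1
  moved : ∃ y ∈ Φ.K, Commute x y ∧ ¬ Commute Φ.m y
  seven : r = 3 → Nat.card ↥(Φ.K ⊓ centralizer ({x} : Set G)) = 7 ∧
    ∀ p ∈ Φ.Phi, p ∉ zpowers x → ∃ j, (j = 1 ∨ j = 2) ∧ ∀ y ∈ Φ.K, Commute x y → Commute (Φ.m ^ j * p) y

namespace Pivot

variable {Φ : TFrame t E E₀ k} {x : G} {r : ℕ}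

theorem tame (P : Pivot Φ x r) :
    ∀ y ∈ Φ.K, y ≠ 1 → ∀ g : G, Commute g y → ∀ w ∈ Φ.V, g * w * g⁻¹ ∈ Φ.V := by
  refine Φ.tame P.faith_K fun p hp hp3 => ?_
  obtain ⟨y, hy, hxy, hmy⟩ := P.moved
  haveI := Φ.Phi_cyclic
  obtain ⟨d, hd⟩ := P.three_dvd
  set z := x ^ d with hz
  have hzo : orderOf z = 3 := by
    have hd0 : 0 < d := Nat.pos_of_ne_zero fun e => by
      rw [e, mul_zero] at hd; exact (orderOf_pos x).ne' hd
    rw [hz, orderOf_pow' _ hd0.ne', hd, Nat.gcd_eq_right (dvd_mul_left d 3), Nat.mul_div_cancel _ hd0]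
  refine ⟨y, hy, ?_, hmy⟩
  rcases (Nat.dvd_prime Nat.prime_three).1 (orderOf_dvd_of_pow_eq_one hp3) with h | h
  · rw [orderOf_eq_one_iff.1 h]; exact Commute.one_left y
  · obtain ⟨i, hi⟩ := mem_zpowers_of_order (a := (⟨z, pow_mem P.mem d⟩ : Φ.Phi)) (b := ⟨p, hp⟩)
      (by rw [Subgroup.orderOf_mk, Subgroup.orderOf_mk, hzo, h])
    have hi' : z ^ i = p := congrArg Subtype.val hi
    rw [← hi']
    exact (hxy.pow_left d).zpow_left i

end Pivot

section Fixed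

variable {F : Type} [Field F] [Fintype F] (S : Twist.Setting t E E₀ F) {T : Sylow 2 G} {a b n : G}
  (hy : AbCentMax.Sys t E₀ T a b n) (Φ : TFrame t E E₀ k) (hv : Φ.v = a) (hb : Φ.b = b)
  (hPhi : Φ.Phi = S.Phi hy) (h8 : Fintype.card F % 8 = 3)
include S hy hv hb hPhi h8

/-- The centralizer in `K` of an element of `Phi`, by the fixed field. -/
theorem fixed_card {x : G} (hx : x ∈ Φ.Phi) :
    ∃ c, c ^ orderOf x = Fintype.card F ∧ 4 * Nat.card ↥(Φ.K ⊓ centralizer ({x} : Set G)) = c + 1 := by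
  classical
  obtain ⟨L, iL, iLt, hL, ⟨e⟩⟩ := S.fixed hy (hPhi ▸ hx)
  refine ⟨_, hL, ?_⟩
  have hc8 : Fintype.card L % 8 = 3 := by
    rw [Twist.mod_eight_root hL (Φ.Phi_odd x hx) (Or.inl h8), h8]
  have hodd : Odd (Fintype.card L) := Nat.odd_iff.2 (by omega)
  have hxv : Commute Φ.v x := (Φ.pv x hx).symm
  have hxb : Commute Φ.b x := (Φ.pb x hx).symm
  set H := E₀ ⊓ centralizer ({x} : Set G) with hH
  have hvH : Φ.v ∈ H := ⟨Φ.vE, mem_centralizer_singleton_iff.2 hxv.eq⟩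
  have hbH : Φ.b ∈ H := ⟨Φ.bE, mem_centralizer_singleton_iff.2 hxb.eq⟩
  set v' : H := ⟨Φ.v, hvH⟩
  have hcard : Nat.card {h : H // Commute h v'} = Fintype.card L + 1 := by
    have h1 := (PSL.involution_centralizer hodd (a := e v') (by
      rw [MulEquiv.orderOf_eq]; exact (Subgroup.orderOf_mk _ _).trans Φ.v_ord)).2.1
    rw [if_neg (by omega)] at h1
    rw [← h1]
    exact Nat.card_congr (Equiv.subtypeEquiv e.toEquiv fun h => by
      rw [mem_centralizer_singleton_iff]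
      exact ⟨fun hh => (hh.map e.toMonoidHom).eq,
        fun hh => e.injective (by rw [map_mul, map_mul]; exact hh)⟩)
  set K1 := Φ.K ⊓ centralizer ({x} : Set G) with hK1
  have hK1H : ∀ y ∈ K1, y ∈ H := fun y hy' => ⟨Φ.K_E0 hy'.1, hy'.2⟩
  -- the four representatives
  let R : Bool × Bool → G := fun i => (if i.1 then Φ.v else 1) * (if i.2 then Φ.b else 1)
  have hRH : ∀ i, R i ∈ H := fun i => by
    refine mul_mem ?_ ?_ <;> split_ifs <;> first | exact hvH | exact hbH | exact one_mem H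
  have hRv : ∀ i, Commute (R i) Φ.v := fun i => by
    refine Commute.mul_left ?_ ?_ <;> split_ifs <;>
      first | exact Commute.refl _ | exact Φ.vb.symm | exact Commute.one_left _
  have hR2 : ∀ i, R i * R i = 1 := fun i => by
    obtain ⟨i, j⟩ := i
    cases i <;> cases j <;> simp only [R, Bool.false_eq_true, if_false, if_true, one_mul, mul_one]
    · exact Φ.bb
    · exact Φ.vv
    · rw [mul_assoc, ← mul_assoc Φ.b, ← Φ.vb.eq, mul_assoc, Φ.bb, mul_one, Φ.vv]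
  have hRinj : ∀ i j, ∀ y ∈ Φ.K, ∀ y' ∈ Φ.K, R i * y = R j * y' → i = j ∧ y = y' := by
    intro i j y hy' y' hy'' h
    have he : R j * R i = y' * y⁻¹ := by
      rw [eq_mul_inv_iff_mul_eq, mul_assoc, h, ← mul_assoc, hR2, one_mul]
    have hc : Commute (R i) (R j) := by
      have hbv := Φ.vb
      obtain ⟨i₁, i₂⟩ := i
      obtain ⟨j₁, j₂⟩ := j
      have h1 : ∀ c d : Bool, Commute (if c then Φ.v else 1) (if d then Φ.b else 1) := fun c d => by
        cases c <;> cases d <;> simp [hbv]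
      have h2 : ∀ c d : Bool, ∀ w : G, Commute (if c then w else 1) (if d then w else 1) := fun c d w => by
        cases c <;> cases d <;> simp
      exact ((h2 _ _ Φ.v).mul_right (h1 _ _)).mul_left ((h1 _ _).symm.mul_right (h2 _ _ Φ.b))
    have h1 : R j * R i = 1 := eq_one_of_odd_sq (he ▸ Φ.K_odd (mul_mem hy'' (inv_mem hy'))) (by
      rw [hc.mul_mul_mul_comm, hR2, hR2, one_mul])
    have hij : R i = R j := by
      rw [← one_mul (R i), ← hR2 j, mul_assoc, h1, mul_one]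
    have hy1 : y = y' := mul_left_cancel (hij ▸ h)
    refine ⟨?_, hy1⟩
    have hv1 := Φ.v_ne_one
    have hb1 : Φ.b ≠ 1 := fun e => Φ.b_not (Or.inl e)
    have hbv1 : Φ.b ≠ Φ.v := fun e => Φ.b_not (Or.inr (Or.inr (Or.inl e)))
    obtain ⟨i₁, i₂⟩ := i
    obtain ⟨j₁, j₂⟩ := j
    cases i₁ <;> cases i₂ <;> cases j₁ <;> cases j₂ <;>
      simp only [R, Bool.false_eq_true, if_false, if_true, one_mul, mul_one] at hij <;>
      first
        | rfl
        | exact absurd hij.symm hv1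
        | exact absurd hij hv1
        | exact absurd hij.symm hb1
        | exact absurd hij hb1
        | exact absurd hij.symm hbv1
        | exact absurd hij hbv1
        | exact absurd (mul_eq_left.1 hij) hb1
        | exact absurd (mul_eq_left.1 hij.symm) hb1
        | exact absurd (mul_eq_right.1 hij) hv1
        | exact absurd (mul_eq_right.1 hij.symm) hv1
        | exact absurd (eq_inv_of_mul_eq_one_right hij) (by rw [inv_eq_of_mul_eq_one_right Φ.vv]; exact hbv1)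
        | exact absurd (eq_inv_of_mul_eq_one_right hij.symm) (by rw [inv_eq_of_mul_eq_one_right Φ.vv]; exact hbv1)
  rw [← hcard, show 4 * Nat.card K1 = Nat.card ((Bool × Bool) × K1) by
    rw [Nat.card_prod, Nat.card_prod, Nat.card_eq_fintype_card (α := Bool), Fintype.card_bool]]
  refine Nat.card_congr (Equiv.ofBijective (fun z : (Bool × Bool) × K1 =>
    (⟨⟨R z.1 * z.2, mul_mem (hRH z.1) (hK1H _ z.2.2)⟩, Subtype.ext ((hRv z.1).mul_left (Φ.K_v z.2.2.1)).eq⟩ :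
      {h : H // Commute h v'})) ⟨?_, ?_⟩)
  · rintro ⟨i, y, hy'⟩ ⟨j, y', hy''⟩ h
    obtain ⟨rfl, h2⟩ := hRinj i j y hy'.1 y' hy''.1 (congrArg (fun z : {h : H // Commute h v'} => ((z : H) : G)) h)
    exact Prod.ext rfl (Subtype.ext h2)
  · rintro ⟨⟨h, hh⟩, hhv⟩
    obtain ⟨y, hy', r⟩ := Φ.cen₀ h hh.1 (congrArg Subtype.val hhv)
    obtain ⟨i, hi⟩ : ∃ i, h = R i * y := by
      rcases r with r | r | r | r
      · exact ⟨(false, false), by simpa [R] using r⟩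
      · exact ⟨(true, false), by simpa [R] using r⟩
      · exact ⟨(false, true), by simpa [R] using r⟩
      · exact ⟨(true, true), by simpa [R] using r⟩
    have hy1 : y ∈ centralizer ({x} : Set G) := by
      rw [show y = (R i)⁻¹ * h by rw [hi, inv_mul_cancel_left]]
      exact mul_mem (inv_mem (hRH i).2) hh.2
    exact ⟨⟨i, y, hy', hy1⟩, Subtype.ext (Subtype.ext hi.symm)⟩

/-- An element of `Phi` centralizing `C_K(x)` is a power of `x`. -/
theorem faithful {x p : G} (hx : x ∈ Φ.Phi) (hp : p ∈ Φ.Phi) (h : ∀ y ∈ Φ.K, Commute x y → Commute p y) :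
    p ∈ zpowers x := by
  haveI := Φ.Phi_cyclic
  set M := zpowers x ⊔ zpowers p with hM
  have hMP : M ≤ Φ.Phi := sup_le (zpowers_le.2 hx) (zpowers_le.2 hp)
  haveI : IsCyclic M := isCyclic_of_injective (Subgroup.inclusion hMP) (Subgroup.inclusion_injective hMP)
  obtain ⟨⟨w, hw⟩, hgen⟩ := IsCyclic.exists_generator (α := M)
  have hxw : x ∈ zpowers w := by
    obtain ⟨i, hi⟩ := hgen ⟨x, mem_sup_left (mem_zpowers x)⟩
    exact ⟨i, congrArg Subtype.val hi⟩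
  have heq : Φ.K ⊓ centralizer ({w} : Set G) = Φ.K ⊓ centralizer ({x} : Set G) := by
    apply le_antisymm
    · intro y hy'
      obtain ⟨i, rfl⟩ := hxw
      exact ⟨hy'.1, mem_centralizer_singleton_iff.2
        ((show Commute y w from mem_centralizer_singleton_iff.1 hy'.2).zpow_right i).eq⟩
    · intro y hy'
      have hyx : Commute y x := mem_centralizer_singleton_iff.1 hy'.2
      have hle : M ≤ centralizer ({y} : Set G) := sup_le
        (zpowers_le.2 (mem_centralizer_singleton_iff.2 hyx.symm.eq))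
        (zpowers_le.2 (mem_centralizer_singleton_iff.2 (h y hy'.1 hyx.symm).eq))
      exact ⟨hy'.1, mem_centralizer_singleton_iff.2 (mem_centralizer_singleton_iff.1 (hle hw)).symm⟩
  obtain ⟨c, hc, hc4⟩ := fixed_card S hy Φ hv hb hPhi h8 (hMP hw)
  obtain ⟨c', hc', hc4'⟩ := fixed_card S hy Φ hv hb hPhi h8 hx
  rw [heq] at hc4
  rw [show c' = c by omega, ← hc] at hc'
  have hc2 : 2 ≤ c := by
    by_contra hh
    have := Nat.pow_le_pow_left (show c ≤ 1 by omega) (orderOf w)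
    rw [hc, one_pow] at this
    have := Fintype.one_lt_card (α := F)
    omega
  have hz : zpowers x = zpowers w := Subgroup.eq_of_le_of_card_ge (zpowers_le.2 hxw)
    (by rw [Nat.card_zpowers, Nat.card_zpowers, Nat.pow_right_injective hc2 hc'])
  rw [hz]
  obtain ⟨i, hi⟩ := hgen ⟨p, mem_sup_right (mem_zpowers p)⟩
  exact ⟨i, congrArg Subtype.val hi⟩

/-- The element of order three does not centralize `C_K(x)`. -/
theorem moved {g : G} (hg : g ∈ normalizer ((T : Subgroup G) : Set G))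
    (hm : Φ.m = g * n * g⁻¹ ∨ Φ.m = (g * n * g⁻¹)⁻¹) {x : G} (hx : x ∈ Φ.Phi) {F₁ : Type} [Field F₁] [Fintype F₁]
    (D : Field.LocalData t E E₀ F 3 x F₁) (h27 : 27 ≤ Fintype.card F₁) :
    ∃ y ∈ Φ.K, Commute x y ∧ ¬ Commute Φ.m y := by
  classical
  by_contra hcon
  push Not at hcon
  have hxS : x ∈ S.Phi hy := hPhi ▸ hx
  rcases D.cases with h3 | h5 | ⟨-, -, N, K', iK, iKf, π, tK, EK, hxN, hNC, hNn, -, hker, ⟨htN, hπt⟩, hEK, RS⟩
  · omega
  · omega
  set H := E₀ ⊓ centralizer ({x} : Set G) with hH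
  -- `H` lies in `N` and is mapped isomorphically
  have hHN : H ≤ N := by
    obtain ⟨e₁⟩ := RS.hyp.iso
    obtain ⟨e₂⟩ := D.fixed
    have h1 : Nat.card EK ≤ Nat.card ↥(H.subgroupOf N) := by
      rw [hEK]
      exact Nat.card_le_card_of_surjective _ (π.subgroupMap_surjective (H.subgroupOf N))
    have h2 : Nat.card ↥(H.subgroupOf N) = Nat.card ↥(H ⊓ N : Subgroup G) := by
      rw [← Nat.card_congr (subgroupOfEquivOfLe (inf_le_right : H ⊓ N ≤ N)).toEquiv, inf_subgroupOf_right]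
    rw [Nat.card_congr e₁.toEquiv, ← Nat.card_congr e₂.toEquiv, h2] at h1
    have := Subgroup.eq_of_le_of_card_ge (inf_le_left : H ⊓ N ≤ H) h1
    exact this.symm.le.trans inf_le_right
  have hinj : ∀ (z : G) (hz : z ∈ N), z ∈ E₀ → π ⟨z, hz⟩ = 1 → z = 1 := fun z hz hz0 h => by
    have : (⟨z, hz⟩ : N) ∈ π.ker := h
    rw [hker, mem_subgroupOf] at this
    exact S.Phi_inter hy (zpowers_le.2 hxS this) hz0
  have hxv : Commute Φ.v x := (Φ.pv x hx).symm
  have hvH : Φ.v ∈ H := ⟨Φ.vE, mem_centralizer_singleton_iff.2 hxv.eq⟩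
  have hnN : n ∈ N := hHN ⟨hy.nE, mem_centralizer_singleton_iff.2 (S.n_comm hy hxS).eq⟩
  have hgC : g ∈ centralizer ({x} : Set G) :=
    mem_centralizer_singleton_iff.2 (S.normalizer_comm hy hg hxS).eq
  have hmN : Φ.m ∈ N := by
    have h1 : g * n * g⁻¹ ∈ N := (mem_normalizer_iff.1 (hNn hgC) n).1 hnN
    rcases hm with e | e <;> rw [e]
    exacts [h1, inv_mem h1]
  set vN : N := ⟨Φ.v, hHN hvH⟩ with hvN
  set tN : N := ⟨t, htN⟩ with htN'
  set mN : N := ⟨Φ.m, hmN⟩ with hmN'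
  have hvEK : π vN ∈ EK := hEK ▸ mem_map_of_mem π (mem_subgroupOf.2 hvH)
  have hvo : orderOf (π vN) = 2 := orderOf_eq_prime
    (by rw [← map_pow, show vN ^ 2 = 1 from Subtype.ext (by push_cast; rw [pow_two]; exact Φ.vv), map_one])
    fun h => Φ.v_ne_one (hinj _ _ Φ.vE h)
  obtain ⟨Ψ, hΨ⟩ := RS.exists_frame hvEK hvo
  -- the torus of the quotient is the image of `C_K(x)`
  have hpre : ∀ u ∈ Ψ.K, ∃ (y : G) (hy' : y ∈ N), y ∈ Φ.K ∧ Commute x y ∧ π ⟨y, hy'⟩ = u := by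
    intro u hu
    have huE : u ∈ EK := RS.hyp.odd_mem_E (Ψ.K_odd hu) (Ψ.K_t hu)
    rw [hEK] at huE
    obtain ⟨z, hz, rfl⟩ := huE
    have hzH : (z : G) ∈ H := hz
    have hzv : Commute (z : G) Φ.v := by
      have h1 : π (z * vN * z⁻¹ * vN⁻¹) = 1 := by
        have := Ψ.K_v hu
        rw [hΨ] at this
        simp only [map_mul, map_inv]
        rw [this.eq, mul_inv_cancel_right, mul_inv_cancel]
      have h2 := hinj _ (z * vN * z⁻¹ * vN⁻¹).2
        (by push_cast; exact mul_mem (mul_mem (mul_mem hzH.1 Φ.vE) (inv_mem hzH.1)) (inv_mem Φ.vE)) h1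
      push_cast at h2
      rw [mul_inv_eq_one, mul_inv_eq_iff_eq_mul] at h2
      exact h2
    have hzo : orderOf (z : G) = orderOf (π z) := by
      rw [Subgroup.orderOf_coe]
      refine Nat.dvd_antisymm (orderOf_dvd_of_pow_eq_one (Subtype.ext ?_)) (orderOf_map_dvd π z)
      push_cast
      exact hinj _ (z ^ orderOf (π z)).2 (by push_cast; exact pow_mem hzH.1 _)
        (by show π (z ^ orderOf (π z)) = 1; rw [map_pow, pow_orderOf_eq_one])
    exact ⟨z, z.2, (Φ.mem_K _).2 ⟨hzH.1, hzo ▸ Ψ.K_odd hu, hzv⟩,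
      (show Commute (z : G) x from mem_centralizer_singleton_iff.1 hzH.2).symm, rfl⟩
  have hk : Fintype.card F₁ = 4 * Nat.card Ψ.K + 1 ∨ Fintype.card F₁ + 1 = 4 * Nat.card Ψ.K := by
    refine Or.inr ?_
    obtain ⟨c, hc, hc4⟩ := fixed_card S hy Φ hv hb hPhi h8 hx
    have hcc : c = Fintype.card F₁ := Nat.pow_left_injective (orderOf_pos x).ne' (hc.trans D.card)
    rw [← hcc, ← hc4]
    refine congrArg (4 * ·) (Nat.card_congr (Equiv.ofBijective
      (fun y : ↥(Φ.K ⊓ centralizer ({x} : Set G)) =>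
        (⟨π ⟨y, hHN ⟨Φ.K_E0 y.2.1, y.2.2⟩⟩, (Ψ.mem_K _).2 ⟨?_, ?_, ?_⟩⟩ : Ψ.K)) ⟨?_, ?_⟩))
    · exact (Φ.K_odd y.2.1).of_dvd_nat (by rw [← Subgroup.orderOf_mk (y : G) (hHN ⟨Φ.K_E0 y.2.1, y.2.2⟩)]; exact orderOf_map_dvd π _)
    · rw [← hπt]
      exact (show Commute (⟨y, hHN ⟨Φ.K_E0 y.2.1, y.2.2⟩⟩ : N) tN from Subtype.ext (Φ.K_t y.2.1).eq).map π
    · rw [hΨ]
      exact (show Commute (⟨y, hHN ⟨Φ.K_E0 y.2.1, y.2.2⟩⟩ : N) vN from Subtype.ext (Φ.K_v y.2.1).eq).map π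
    · intro y y' h
      have h' : π ⟨y, hHN ⟨Φ.K_E0 y.2.1, y.2.2⟩⟩ = π ⟨y', hHN ⟨Φ.K_E0 y'.2.1, y'.2.2⟩⟩ := congrArg Subtype.val h
      have h1 := hinj ((y : G) * (y' : G)⁻¹) (mul_mem (hHN ⟨Φ.K_E0 y.2.1, y.2.2⟩) (inv_mem (hHN ⟨Φ.K_E0 y'.2.1, y'.2.2⟩)))
        (mul_mem (Φ.K_E0 y.2.1) (inv_mem (Φ.K_E0 y'.2.1))) (by
          rw [show (⟨(y : G) * (y' : G)⁻¹, _⟩ : N) = ⟨y, hHN ⟨Φ.K_E0 y.2.1, y.2.2⟩⟩ * ⟨y', hHN ⟨Φ.K_E0 y'.2.1, y'.2.2⟩⟩⁻¹
            from rfl, map_mul, map_inv, h', mul_inv_cancel])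
      exact Subtype.ext (mul_inv_eq_one.1 h1)
    · rintro ⟨u, hu⟩
      obtain ⟨y, hyN, hyK, hxy, rfl⟩ := hpre u hu
      exact ⟨⟨y, hyK, mem_centralizer_singleton_iff.2 hxy.symm.eq⟩, rfl⟩
  obtain ⟨u, hu, hnc⟩ := Ψ.not_central RS (hΨ.symm ▸ hvEK) hk
  apply hnc
  -- `π m` is `Ψ.m` times an element centralizing the four-group
  have hmt : π mN * tK * (π mN)⁻¹ = π vN := by
    rw [← hπt, ← map_inv, ← map_mul, ← map_mul]
    exact congrArg π (Subtype.ext Φ.m_t)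
  have hmv : π mN * π vN * (π mN)⁻¹ = tK * π vN := by
    rw [← hπt, ← map_inv, ← map_mul, ← map_mul, ← map_mul]
    exact congrArg π (Subtype.ext Φ.m_v)
  set x' := Ψ.m⁻¹ * π mN with hx'
  have hmt' : Ψ.m * tK * Ψ.m⁻¹ = π vN := by rw [Ψ.m_t, hΨ]
  have hmv' : Ψ.m * π vN * Ψ.m⁻¹ = tK * π vN := by rw [← hΨ]; exact Ψ.m_v
  have c1 : Commute x' tK := mul_inv_eq_iff_eq_mul.1 (by
    rw [hx', show Ψ.m⁻¹ * π mN * tK * (Ψ.m⁻¹ * π mN)⁻¹ = Ψ.m⁻¹ * (π mN * tK * (π mN)⁻¹) * Ψ.m by group, hmt, ← hmt']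
    group)
  have c2 : Commute x' Ψ.v := by
    rw [hΨ]
    refine mul_inv_eq_iff_eq_mul.1 ?_
    rw [hx', show Ψ.m⁻¹ * π mN * π vN * (Ψ.m⁻¹ * π mN)⁻¹ = Ψ.m⁻¹ * (π mN * π vN * (π mN)⁻¹) * Ψ.m by group, hmv,
      ← hmv']
    group
  have hfix : ∀ w ∈ Ψ.K, π mN * w * (π mN)⁻¹ = w := by
    intro w hw
    obtain ⟨y, hyN, hyK, hxy, rfl⟩ := hpre w hw
    rw [← map_inv, ← map_mul, ← map_mul]
    refine congrArg π (Subtype.ext ?_)
    push_cast
    rw [(hcon y hyK hxy).eq, mul_inv_cancel_right]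
  rcases Ψ.cenV c1 c2 with h | h
  · have h1 := hfix u hu
    rw [show π mN = Ψ.m * x' by rw [hx', mul_inv_cancel_left],
      show Ψ.m * x' * u * (Ψ.m * x')⁻¹ = Ψ.m * (x' * u * x'⁻¹) * Ψ.m⁻¹ by group,
      (Ψ.T0_comm h (Ψ.K_le_T0 hu)).eq, mul_inv_cancel_right] at h1
    exact mul_inv_eq_iff_eq_mul.1 h1
  · have hinv : ∀ w ∈ Ψ.K, x' * w * x'⁻¹ = w⁻¹ := fun w hw => by
      have hzi := Ψ.inv w⁻¹ (inv_mem hw)
      rw [inv_inv] at hzi
      have h2 := (Ψ.T0_comm h (Ψ.K_le_T0 (inv_mem hw))).eq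
      calc x' * w * x'⁻¹ = x' * (Ψ.z * w⁻¹ * Ψ.z⁻¹) * x'⁻¹ := by rw [hzi]
        _ = x' * Ψ.z * w⁻¹ * (x' * Ψ.z)⁻¹ := by group
        _ = w⁻¹ := by rw [h2, mul_inv_cancel_right]
    have hm1 : ∀ w ∈ Ψ.K, Ψ.m * w * Ψ.m⁻¹ = w⁻¹ := fun w hw => by
      have h1 := hfix w hw
      rw [show π mN = Ψ.m * x' by rw [hx', mul_inv_cancel_left],
        show Ψ.m * x' * w * (Ψ.m * x')⁻¹ = Ψ.m * (x' * w * x'⁻¹) * Ψ.m⁻¹ by group, hinv w hw, ← conj_inv] at h1
      exact inv_eq_iff_eq_inv.1 h1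
    have e : u = u⁻¹ := by
      calc u = (Ψ.m * Ψ.m * Ψ.m) * u * (Ψ.m * Ψ.m * Ψ.m)⁻¹ := by rw [Ψ.m3]; group
        _ = Ψ.m * (Ψ.m * (Ψ.m * u * Ψ.m⁻¹) * Ψ.m⁻¹) * Ψ.m⁻¹ := by group
        _ = u⁻¹ := by rw [hm1 u hu, hm1 _ (inv_mem hu), inv_inv, hm1 u hu]
    rw [eq_one_of_odd_sq (Ψ.K_odd hu) (eq_inv_iff_mul_eq_one.1 e)]
    exact Commute.one_right _

end Fixed

/-- The frame and the pivot. -/
theorem exists_pivot {F : Type} [Field F] [Fintype F] (J : Field.JRSetting t E E₀ F)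
    (hind : Field.NoFieldBelow.{u} (Nat.card G)) (hne : E ≠ E₀)
    (h3 : ∀ r : ℕ, r.Prime → r ∣ E₀.relIndex E → r = 3) (h27 : Fintype.card F ≠ 27) :
    Fintype.card F % 8 = 3 ∧ (∃ n, Fintype.card F = 3 ^ n) ∧ 19683 ≤ Fintype.card F ∧
      ∃ (Φ : TFrame t E E₀ ((Fintype.card F + 1) / 4)) (x : G) (r : ℕ),
        Nat.card Φ.Phi = E₀.relIndex E ∧ Pivot Φ x r := by
  classical
  have S := Twist.of_jr J
  obtain ⟨T, a, b, n, hy⟩ := AbCentMax.exists_sys S.hyp S.ab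
  set e := E₀.relIndex E with he
  have he0 : e ≠ 0 := Nat.card_pos.ne'
  have he1 : e ≠ 1 := fun h => hne (le_antisymm (relIndex_eq_one.1 h) S.hyp.le)
  obtain ⟨A, hA⟩ : ∃ A, e = 3 ^ A :=
    ⟨_, Nat.eq_prime_pow_of_unique_prime_dvd he0 (fun {r} hr hd => h3 r hr hd)⟩
  have hA0 : A ≠ 0 := fun h => he1 (by rw [hA, h, pow_zero])
  have h3e : 3 ∣ e := hA ▸ dvd_pow_self 3 hA0
  obtain ⟨x₀, hx₀, X⟩ := S.exists_fieldElem hy Nat.prime_three h3e
  -- `x₀` generates `Phi`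
  have hgen : ∀ p ∈ S.Phi hy, p ∈ zpowers x₀ := by
    have h1 : (zpowers x₀ ⊔ E₀).relIndex E = 1 := by
      have hd : (zpowers x₀ ⊔ E₀).relIndex E ∣ e := ⟨E₀.relIndex (zpowers x₀ ⊔ E₀), by
        rw [mul_comm, he, relIndex_mul_relIndex E₀ _ E le_sup_right (sup_le (zpowers_le.2 X.mem) S.hyp.le)]⟩
      by_contra hh
      obtain ⟨r, hr, hrd⟩ := Nat.exists_prime_and_dvd hh
      exact X.gen (h3 r hr (hrd.trans hd) ▸ hrd)
    intro p hp
    have hpM : p ∈ zpowers x₀ ⊔ E₀ := relIndex_eq_one.1 h1 (S.Phi_le hy hp)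
    have hn : zpowers x₀ ≤ normalizer (E₀ : Set G) := fun z hz =>
      Cfsg.Lib.ZStarApps.mem_normalizer_of_maps fun w hw => S.hyp.norm z ((zpowers_le.2 X.mem) hz) w hw
    rw [← SetLike.mem_coe, coe_mul_of_left_le_normalizer_right _ _ hn] at hpM
    obtain ⟨z, hz, w, hw, rfl⟩ := hpM
    have hzP : z ∈ S.Phi hy := zpowers_le.2 hx₀ hz
    have hw1 : w = 1 := S.Phi_inter hy (by simpa using mul_mem (inv_mem hzP) hp) hw
    show z * w ∈ zpowers x₀
    rw [hw1, mul_one]; exact hz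
  have hx₀o : orderOf x₀ = e := by
    refine Nat.dvd_antisymm (by rw [he, ← S.card_Phi hy]; exact Subgroup.orderOf_dvd_natCard _ hx₀) ?_
    rw [he, ← S.card_Phi hy, ← Nat.card_zpowers]
    exact Subgroup.card_dvd_of_le fun p hp => hgen p hp
  obtain ⟨F₁, iF, iFt, D₀⟩ := S.localData hy hind (r := 3) hx₀ X.ne
  have hc5 : Fintype.card F₁ ≠ 5 := by
    intro h5
    have hd := Field.invCount_dvd J X D₀
    set N := (zpowers x₀).subgroupOf (centralizer ({x₀} : Set G)) with hN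
    haveI : N.Normal := ⟨fun z hz g => by
      obtain ⟨j, hj⟩ := mem_subgroupOf.1 hz
      refine mem_subgroupOf.2 ⟨j, ?_⟩
      show x₀ ^ j = (g : G) * z * (g : G)⁻¹
      rw [← hj, ((show Commute (g : G) x₀ from mem_centralizer_singleton_iff.1 g.2).zpow_right j).eq,
        mul_inv_cancel_right]⟩
    let P : Twist.Proj x₀ (↥(centralizer ({x₀} : Set G)) ⧸ N) :=
      ⟨QuotientGroup.mk' N, QuotientGroup.mk'_surjective N, QuotientGroup.ker_mk' N⟩
    obtain ⟨e'⟩ := D₀.fixed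
    rcases S.shape P hy hx₀ hind X.ne D₀.card.symm e' with ⟨h, -⟩ | ⟨-, M, D'⟩
    · omega
    · rcases D'.count S hy (by omega) (by omega) with ⟨-, -, h⟩ | ⟨-, m, -, hF, -⟩
      · rw [S.count_quot P hy hx₀, h] at hd
        norm_num at hd
      · have : 3 ∣ Fintype.card F₁ := hF ▸ dvd_pow_self 3 (by omega)
        rw [h5] at this
        norm_num at this
  obtain ⟨m₁, hm₁⟩ : ∃ m, Fintype.card F₁ = 3 ^ m := by
    rcases D₀.cases with h | h | ⟨-, h, -⟩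
    exacts [⟨1, h⟩, absurd h hc5, h]
  have hmodF : Fintype.card F₁ % 8 = Fintype.card F % 8 :=
    Twist.mod_eight_root D₀.card.symm (S.x_odd hy hx₀) S.mod
  have hF₁8 : Fintype.card F₁ % 8 = 3 := by
    have hcases : 3 ^ m₁ % 8 = 1 ∨ 3 ^ m₁ % 8 = 3 := by
      rw [← Nat.mod_add_div m₁ 2, pow_add, pow_mul, Nat.mul_mod, Nat.pow_mod (3 ^ 2),
        show (3 : ℕ) ^ 2 % 8 = 1 by norm_num, one_pow]
      rcases Nat.mod_two_eq_zero_or_one m₁ with h | h <;> rw [h] <;> norm_num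
    rw [hm₁] at hmodF ⊢
    rcases hcases with h | h
    · rw [h] at hmodF; have := S.mod; omega
    · exact h
  have h8 : Fintype.card F % 8 = 3 := hmodF ▸ hF₁8
  have hq : Fintype.card F = 3 ^ (m₁ * e) := by rw [D₀.card, hx₀o, hm₁, pow_mul]
  have hbig : 19683 ≤ Fintype.card F := by
    rw [D₀.card, hx₀o]
    have he3 : 3 ≤ e := Nat.le_of_dvd (Nat.pos_of_ne_zero he0) h3e
    rcases D₀.cases with h | h | ⟨h, -⟩
    · rw [h]
      have h9 : 9 ≤ e := by
        rcases Nat.lt_or_ge A 2 with hA2 | hA2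
        · exfalso
          apply h27
          rw [D₀.card, hx₀o, h, hA, show A = 1 by omega]; norm_num
        · calc 9 = 3 ^ 2 := by norm_num
            _ ≤ 3 ^ A := Nat.pow_le_pow_right (by norm_num) hA2
            _ = e := hA.symm
      calc 19683 = 3 ^ 9 := by norm_num
        _ ≤ 3 ^ e := Nat.pow_le_pow_right (by norm_num) h9
    · exact absurd h hc5
    · calc 19683 = 27 ^ 3 := by norm_num
        _ ≤ Fintype.card F₁ ^ 3 := Nat.pow_le_pow_left h 3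
        _ ≤ Fintype.card F₁ ^ e := Nat.pow_le_pow_right (by omega) he3
  have hcop : ((Fintype.card F + 1) / 4).Coprime e := by
    rw [hA]
    refine Nat.Coprime.pow_right A (Nat.Coprime.symm ((Nat.prime_three.coprime_iff_not_dvd).2 fun hd => ?_))
    have h4 : (Fintype.card F + 1) / 4 ∣ Fintype.card F + 1 := Nat.div_dvd_of_dvd (by omega)
    have h1 := hd.trans h4
    have h2 : 3 ∣ Fintype.card F := hq ▸ dvd_pow_self 3 (by
      intro h; rw [h, pow_zero] at hq; omega)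
    omega
  refine ⟨h8, ⟨_, hq⟩, hbig, ?_⟩
  obtain ⟨Φ, hΦv, hΦb, hΦP, g, hg, hΦm⟩ := exists_frame S hy h8 (by omega) hcop
  have hPcard : Nat.card Φ.Phi = e := by rw [hΦP, S.card_Phi hy]
  have faith := fun {x p : G} => faithful S hy Φ hΦv hΦb hΦP h8 (x := x) (p := p)
  have hfix : ∀ {x : G}, x ∈ Φ.Phi → ∀ {F₂ : Type} [Field F₂] [Fintype F₂],
      Fintype.card F = Fintype.card F₂ ^ orderOf x →
      4 * Nat.card ↥(Φ.K ⊓ centralizer ({x} : Set G)) = Fintype.card F₂ + 1 := by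
    intro x hx F₂ _ _ hc2
    obtain ⟨c, hc, hc4⟩ := fixed_card S hy Φ hΦv hΦb hΦP h8 hx
    rwa [Nat.pow_left_injective (orderOf_pos x).ne' (hc.trans hc2)] at hc4
  have hex : ∀ {x : G}, x ∈ Φ.Phi → 7 ≤ Nat.card ↥(Φ.K ⊓ centralizer ({x} : Set G)) →
      ∃ y ∈ Φ.K, y ≠ 1 ∧ Commute x y := by
    intro x _ h7
    haveI : Nontrivial ↥(Φ.K ⊓ centralizer ({x} : Set G)) := Finite.one_lt_card_iff_nontrivial.1 (by omega)
    obtain ⟨⟨y, hyK, hyC⟩, hy1⟩ := exists_ne (1 : ↥(Φ.K ⊓ centralizer ({x} : Set G)))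
    exact ⟨y, hyK, fun h => hy1 (Subtype.ext h),
      (show Commute y x from mem_centralizer_singleton_iff.1 hyC).symm⟩
  have hfaithK : ∀ p ∈ Φ.Phi, (∀ y ∈ Φ.K, Commute p y) → p = 1 := fun p hp h => by
    simpa using faith (x := 1) (one_mem _) hp fun y hy' _ => h y hy'
  rcases D₀.cases with hF₁ | hF₁ | ⟨hF₁, -⟩
  · -- the fixed field of `x₀` has three elements
    have hA2 : 2 ≤ A := by
      by_contra hh
      apply h27
      rw [D₀.card, hx₀o, hF₁, hA, show A = 1 by omega]; norm_num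
    set x := x₀ ^ 3 with hx
    have hxP : x ∈ Φ.Phi := pow_mem (hΦP ▸ hx₀) 3
    have hxo : orderOf x = 3 ^ (A - 1) := by
      rw [hx, orderOf_pow' _ (by norm_num), hx₀o, hA, Nat.gcd_eq_right (dvd_pow_self 3 hA0)]
      exact Nat.pow_div (show 1 ≤ A by omega) (by norm_num) |>.trans rfl
    have hx1 : x ≠ 1 := fun h => by
      rw [h, orderOf_one] at hxo
      exact (Nat.one_lt_pow (by omega) (by norm_num)).ne hxo
    obtain ⟨F₂, iF₂, iF₂t, D⟩ := S.localData hy hind (r := 3) (hΦP ▸ hxP) hx1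
    have hF₂ : Fintype.card F₂ = 27 := by
      refine Nat.pow_left_injective (orderOf_pos x).ne' ?_
      show Fintype.card F₂ ^ orderOf x = 27 ^ orderOf x
      rw [← D.card, D₀.card, hF₁, hxo, hx₀o, hA, show (27 : ℕ) = 3 ^ 3 by norm_num, ← pow_mul, ← pow_succ',
        Nat.sub_add_cancel (by omega)]
    have h7 : Nat.card ↥(Φ.K ⊓ centralizer ({x} : Set G)) = 7 := by
      have := hfix hxP D.card
      rw [hF₂] at this; omega
    have hmoved := moved S hy Φ hΦv hΦb hΦP h8 hg hΦm hxP D (by omega)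
    refine ⟨Φ, x, 3, hPcard, hxP, hx1, Or.inr rfl, ⟨A, hPcard.trans hA⟩, ?_, ?_, hex hxP h7.ge,
      fun p hp h => faith hxP hp h, hfaithK, hmoved, fun _ => ⟨h7, fun p hp hpx => ?_⟩⟩
    · rw [hPcard, hA, hxo, ← pow_succ', Nat.sub_add_cancel (by omega)]
    · exact hxo ▸ dvd_pow_self 3 (by omega)
    -- the action on `C_K(x)`
    set K1 := Φ.K ⊓ centralizer ({x} : Set G) with hK1
    haveI : Fact (Nat.Prime 7) := ⟨by norm_num⟩
    haveI := isCyclic_of_prime_card h7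
    obtain ⟨y, hgenK⟩ := IsCyclic.exists_generator (α := K1)
    have hyo : orderOf (y : G) = 7 := by
      rw [Subgroup.orderOf_coe, orderOf_eq_card_of_forall_mem_zpowers hgenK, h7]
    have hall : ∀ u : G, u ∈ Φ.K → Commute x u → ∃ i : ℕ, u = (y : G) ^ i := fun u hu hxu => by
      obtain ⟨i, hi⟩ := mem_powers_iff_mem_zpowers.2 (hgenK ⟨u, hu, mem_centralizer_singleton_iff.2 hxu.symm.eq⟩)
      exact ⟨i, (congrArg Subtype.val hi).symm⟩
    have hexp : ∀ g : G, Commute g x → g * y * g⁻¹ ∈ Φ.K → ∃ c : ℕ, g * y * g⁻¹ = (y : G) ^ c := fun g hgx hgy => by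
      refine hall _ hgy ?_
      exact (hgx.symm.mul_right (show Commute (y : G) x from mem_centralizer_singleton_iff.1 y.2.2).symm).mul_right
        hgx.symm.inv_right
    have hpx' : Commute p x := Φ.Phi_comm hp hxP
    obtain ⟨a', ha'⟩ := hexp Φ.m (Φ.pm x hxP).symm (Φ.conj_K y.2.1)
    obtain ⟨c', hc'⟩ := hexp p hpx' (Φ.conj_K_Phi y.2.1 hp)
    have hiter : ∀ (g : G) (c : ℕ), g * y * g⁻¹ = (y : G) ^ c →
        g * g * g * y * (g * g * g)⁻¹ = (y : G) ^ (c * c * c) := fun g c hgc => by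
      rw [show g * g * g * (y : G) * (g * g * g)⁻¹ = g * (g * (g * y * g⁻¹) * g⁻¹) * g⁻¹ by group, hgc, ← conj_pow,
        hgc, ← pow_mul, ← conj_pow, hgc, ← pow_mul]
      ring_nf
    have hz : ∀ i j : ℕ, (y : G) ^ i = (y : G) ^ j ↔ (i : ZMod 7) = j := fun i j => by
      rw [pow_eq_pow_iff_modEq, hyo, ZMod.natCast_eq_natCast_iff]
    have hcube : ∀ (g : G) (c : ℕ), g * y * g⁻¹ = (y : G) ^ c → Commute (g * g * g) y →
        (c : ZMod 7) * c * c = 1 := fun g c hgc hgy => by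
      have h := hiter g c hgc
      rw [hgy.eq, mul_inv_cancel_right] at h
      have := (hz 1 (c * c * c)).1 (by rwa [pow_one])
      push_cast at this
      exact this.symm
    have hne1 : ∀ (g : G) (c : ℕ), g * y * g⁻¹ = (y : G) ^ c →
        (∃ u ∈ Φ.K, Commute x u ∧ ¬ Commute g u) → (c : ZMod 7) ≠ 1 := by
      rintro g c hgc ⟨u, hu, hxu, hgu⟩ h1
      apply hgu
      obtain ⟨i, rfl⟩ := hall u hu hxu
      refine (Commute.pow_right ?_ i)
      refine mul_inv_eq_iff_eq_mul.1 ?_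
      rw [hgc, (hz c 1).2 (by simpa using h1), pow_one]
    have hp3 : Commute (p * p * p) y := by
      obtain ⟨i, hi⟩ := mem_powers_iff_mem_zpowers.2 (hgen p (hΦP ▸ hp))
      have hi' : x₀ ^ i = p := hi
      have e3 : p * p * p = x ^ i := by
        rw [← hi', hx, ← pow_mul, ← pow_add, ← pow_add]; congr 1; ring
      rw [e3]
      exact ((show Commute (y : G) x from mem_centralizer_singleton_iff.1 y.2.2).symm).pow_left i
    have hm3 : Commute (Φ.m * Φ.m * Φ.m) y := by rw [Φ.m3]; exact Commute.one_left _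
    have key := aut_seven _ _ (hcube _ _ ha' hm3) (hne1 _ _ ha' hmoved) (hcube _ _ hc' hp3)
      (hne1 _ _ hc' (by
        by_contra hcon
        push Not at hcon
        exact hpx (faith hxP hp hcon)))
    have hdone : ∀ g : G, g * y * g⁻¹ = y → ∀ u ∈ Φ.K, Commute x u → Commute g u := fun g hgy u hu hxu => by
      obtain ⟨i, rfl⟩ := hall u hu hxu
      exact Commute.pow_right (mul_inv_eq_iff_eq_mul.1 hgy : Commute g (y : G)) i
    rcases key with key | key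
    · refine ⟨1, Or.inl rfl, hdone _ ?_⟩
      rw [pow_one, show Φ.m * p * (y : G) * (Φ.m * p)⁻¹ = Φ.m * (p * y * p⁻¹) * Φ.m⁻¹ by group, hc', ← conj_pow, ha',
        ← pow_mul, (hz _ 1).2 (by push_cast; exact key), pow_one]
    · refine ⟨2, Or.inr rfl, hdone _ ?_⟩
      rw [pow_two, show Φ.m * Φ.m * p * (y : G) * (Φ.m * Φ.m * p)⁻¹ = Φ.m * (Φ.m * (p * y * p⁻¹) * Φ.m⁻¹) * Φ.m⁻¹ by
        group, hc', ← conj_pow, ha', ← pow_mul, ← conj_pow, ha', ← pow_mul,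
        (hz _ 1).2 (by push_cast; exact key), pow_one]
  · exact absurd hF₁ hc5
  · -- the fixed field of `x₀` has at least 27 elements
    have hxP : x₀ ∈ Φ.Phi := hΦP ▸ hx₀
    have h7 : 7 ≤ Nat.card ↥(Φ.K ⊓ centralizer ({x₀} : Set G)) := by
      have := hfix hxP D₀.card
      omega
    refine ⟨Φ, x₀, 1, hPcard, hxP, X.ne, Or.inl rfl, ⟨A, hPcard.trans hA⟩, by rw [one_mul, hx₀o, hPcard],
      hx₀o ▸ h3e, hex hxP h7, fun p hp h => faith hxP hp h, hfaithK,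
      moved S hy Φ hΦv hΦb hΦP h8 hg hΦm hxP D₀ hF₁, fun h => absurd h (by norm_num)⟩

end Cfsg.Lib.Ree.Three
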