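import Cfsg.Agent.Ree.Three.FuncE
import Cfsg.Agent.Ree.Three.Moved
import Cfsg.Agent.Ree.Three.Model

/-!
The scalar products of the functions of `V × K⟨x⟩` and of `V × K`: the norm fields of `Model`
(`notes/ree_three_h4.md`).
-/

set_option autoImplicit false
set_option linter.style.haveILetI false
set_option linter.unusedSectionVars false

namespace Cfsg.Lib.Ree.Three

open Subgroup Cfsg Cfsg.Lib.Chars Cfsg.Lib.Ree
open scoped ComplexConjugate

universe u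

attribute [local instance 10] _root_.Classical.propDecidable

theorem table_rotL : ∀ (l l' : Fin 4) (a : Fin 3), table l l' a = if rotL a l = l' then 4 else 0 := by
  decide +kernel

theorem rotL_ne : ∀ (a : Fin 3) (l : Fin 4), l ≠ 0 → rotL a l ≠ 0 := by decide

theorem rotL_zero_fin : ∀ (a : Fin 3), rotL a 0 = 0 := by decide

theorem rotL_self : ∀ (a : Fin 3) (l : Fin 4), l ≠ 0 → (rotL a l = l ↔ a = 0) := by decide

theorem rotL_surj : ∀ (l j : Fin 4), l ≠ 0 → j ≠ 0 → ∃ a : Fin 3, rotL a l = j := by decide +kernel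

theorem rotL_inj : ∀ (a b : Fin 3) (l : Fin 4), l ≠ 0 → rotL a l = rotL b l → a = b := by decide +kernel

theorem rotL_unique (l j : Fin 4) (hl : l ≠ 0) (hj : j ≠ 0) : ∃! a : Fin 3, rotL a l = j := by
  obtain ⟨a, ha⟩ := rotL_surj l j hl hj
  exact ⟨a, ha, fun b hb => rotL_inj b a l hl (hb.trans ha.symm)⟩

theorem filter_rot {l j : Fin 4} {a : Fin 3} (hl : l ≠ 0) (hj : j ≠ 0) (ha : rotL a l = j) :
    (Finset.univ.filter fun b : Fin 3 => rotL b l = j) = {a} := by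
  refine Finset.ext fun b => ?_
  rw [Finset.mem_filter, Finset.mem_singleton]
  exact ⟨fun h => (rotL_unique l j hl hj).unique h.2 ha, fun h => ⟨Finset.mem_univ _, h.symm ▸ ha⟩⟩

theorem filter_rot_mixed {l : Fin 4} (hl : l ≠ 0) :
    (Finset.univ.filter fun b : Fin 3 => rotL b l = 0) = ∅ :=
  Finset.filter_eq_empty_iff.2 fun b _ => rotL_ne b l hl

theorem filter_rot_zero : (Finset.univ.filter fun b : Fin 3 => rotL b 0 = 0) = Finset.univ :=
  Finset.filter_true_of_mem fun b _ => rotL_zero_fin b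

variable {G : Type u} [Group G] [Fintype G] {t : G} {E E₀ : Subgroup G} {k : ℕ}

namespace TFrame

variable (Φ : TFrame t E E₀ k)

/-- The nontrivial characters of `K` fixed by `x`. -/
abbrev Fix (x : G) : Type u := {θ : Φ.K →* ℂˣ // θ ≠ 1 ∧ Φ.Fixed x θ}

/-- The characters of `K` moved by `x`. -/
abbrev Free (x : G) : Type u := {θ : Φ.K →* ℂˣ // θ ≠ 1 ∧ ¬ Φ.Fixed x θ}

/-! ### The fibres of the stabilizers -/

/-- The elements with the rotation `a` taking `θ'` to `θ`. -/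
noncomputable def fib (θ θ' : Φ.K →* ℂˣ) (a : Fin 3) : Finset (Bool × Φ.Phi) :=
  Finset.univ.filter fun c => θ'.comp (Φ.act (a, c)) = θ

theorem act_zero (ε : Bool) (p : Φ.Phi) (y : Φ.K) :
    (Φ.act (0, ε, p) y : G) =
      if ε then ((p : G) * y * (p : G)⁻¹)⁻¹ else (p : G) * y * (p : G)⁻¹ := by
  rw [act_coe]
  cases ε
  · simp [rep]
  · simp only [rep, Fin.val_zero, pow_zero, one_mul, if_true]
    rw [show Φ.b * (p : G) * y * (Φ.b * (p : G))⁻¹ = Φ.b * ((p : G) * y * (p : G)⁻¹) * Φ.b⁻¹ by group,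
      Φ.inv _ (Φ.conj_K_Phi y.2 p.2)]

theorem act_split (a : Fin 3) (c : Bool × Φ.Phi) (y : Φ.K) :
    Φ.act (a, c) y = Φ.act (a, false, 1) (Φ.act (0, c) y) := by
  refine Subtype.ext ?_
  simp only [act_coe, rep, Fin.val_zero, pow_zero, one_mul, Bool.false_eq_true, if_false, OneMemClass.coe_one,
    mul_one]
  group

theorem act_zero_mul (c d : Bool × Φ.Phi) (y : Φ.K) :
    Φ.act (0, c) (Φ.act (0, d) y) = Φ.act (0, xor c.1 d.1, c.2 * d.2) y := by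
  obtain ⟨ε, p⟩ := c
  obtain ⟨δ, q⟩ := d
  refine Subtype.ext ?_
  rw [act_zero, act_zero, act_zero]
  cases ε <;> cases δ <;> simp [mul_assoc]

theorem act_zero_one (y : Φ.K) : Φ.act (0, false, 1) y = y := by
  refine Subtype.ext ?_
  rw [act_zero]
  simp

/-- A nonempty fibre is a translate of the stabilizer. -/
theorem card_fib_le (θ θ' : Φ.K →* ℂˣ) (a : Fin 3) : (Φ.fib θ θ' a).card ≤ (Φ.fib θ θ 0).card := by
  rcases (Φ.fib θ θ' a).eq_empty_or_nonempty with h | ⟨c₀, hc₀⟩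
  · rw [h, Finset.card_empty]; exact Nat.zero_le _
  refine Finset.card_le_card_of_injOn (fun c => (xor c.1 c₀.1, c.2⁻¹ * c₀.2)) (fun c hc => ?_) fun c _ d _ e => ?_
  · simp only [fib, Finset.mem_coe, Finset.mem_filter, Finset.mem_univ, true_and] at hc hc₀ ⊢
    refine MonoidHom.ext fun y => ?_
    have h1 := DFunLike.congr_fun hc (Φ.act (0, xor c.1 c₀.1, c.2⁻¹ * c₀.2) y)
    have h2 := DFunLike.congr_fun hc₀ y
    simp only [MonoidHom.comp_apply] at h1 h2 ⊢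
    rw [← h1, ← h2, Φ.act_split a c, Φ.act_zero_mul, Φ.act_split a c₀]
    congr 3
    refine congrArg (fun d : Bool × Φ.Phi => Φ.act ((0 : Fin 3), d)) (Prod.ext ?_ ?_)
    · cases c.1 <;> cases c₀.1 <;> rfl
    · simp
  · obtain ⟨e1, e2⟩ := Prod.ext_iff.1 e
    refine Prod.ext ?_ (inv_injective (mul_right_cancel e2))
    simp only at e1
    revert e1
    cases c.1 <;> cases d.1 <;> cases c₀.1 <;> simp

theorem card_fib_eq {θ θ' : Φ.K →* ℂˣ} {a : Fin 3} (h : (Φ.fib θ θ' a).Nonempty) :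
    (Φ.fib θ θ' a).card = (Φ.fib θ θ 0).card := by
  refine le_antisymm (Φ.card_fib_le θ θ' a) ?_
  obtain ⟨c₀, hc₀⟩ := h
  refine Finset.card_le_card_of_injOn (fun c => (xor c₀.1 c.1, c₀.2 * c.2)) (fun c hc => ?_) fun c _ d _ e => ?_
  · simp only [fib, Finset.mem_coe, Finset.mem_filter, Finset.mem_univ, true_and] at hc hc₀ ⊢
    refine MonoidHom.ext fun y => ?_
    have h1 := DFunLike.congr_fun hc₀ (Φ.act (0, c) y)
    have h2 := DFunLike.congr_fun hc y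
    simp only [MonoidHom.comp_apply] at h1 h2 ⊢
    rw [← h2, ← h1, Φ.act_split a, Φ.act_split a c₀, Φ.act_zero_mul]
  · obtain ⟨e1, e2⟩ := Prod.ext_iff.1 e
    refine Prod.ext ?_ (mul_left_cancel e2)
    simp only at e1
    revert e1
    cases c.1 <;> cases d.1 <;> cases c₀.1 <;> simp

/-- The stabilizer in `Phi`. -/
def stab (θ : Φ.K →* ℂˣ) : Subgroup Φ.Phi where
  carrier := {p | ∀ y, θ (Φ.act (0, false, p) y) = θ y}
  one_mem' := fun y => by rw [Φ.act_zero_one]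
  mul_mem' {p q} hp hq y := by
    rw [show Φ.act (0, false, p * q) y = Φ.act (0, false, p) (Φ.act (0, false, q) y) from
      (Φ.act_zero_mul (false, p) (false, q) y).symm, hp, hq]
  inv_mem' {p} hp y := by
    have h := hp (Φ.act (0, false, p⁻¹) y)
    rw [show Φ.act (0, false, p) (Φ.act (0, false, p⁻¹) y) = Φ.act (0, false, 1) y by
      rw [Φ.act_zero_mul]; simp, Φ.act_zero_one] at h
    exact h.symm

theorem mem_stab {θ : Φ.K →* ℂˣ} {p : Φ.Phi} : p ∈ Φ.stab θ ↔ (false, p) ∈ Φ.fib θ θ 0 := by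
  simp only [fib, Finset.mem_filter, Finset.mem_univ, true_and, MonoidHom.ext_iff, MonoidHom.comp_apply]
  rfl

theorem card_fib_self {θ : Φ.K →* ℂˣ} (hθ : θ ≠ 1) : (Φ.fib θ θ 0).card = Nat.card (Φ.stab θ) := by
  have hflip : ∀ p, (true, p) ∉ Φ.fib θ θ 0 := by
    intro p hp
    simp only [fib, Finset.mem_filter, Finset.mem_univ, true_and, MonoidHom.ext_iff, MonoidHom.comp_apply] at hp
    have h2 : p * p ∈ Φ.stab θ := fun y => by
      rw [show Φ.act (0, false, p * p) y = Φ.act (0, true, p) (Φ.act (0, true, p) y) from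
        (Φ.act_zero_mul (true, p) (true, p) y).symm, hp, hp]
    have hpS : p ∈ Φ.stab θ := by
      obtain ⟨j, hj⟩ := Φ.Phi_odd (p : G) p.2
      have h1 : (p * p) ^ (j + 1) = p := by
        rw [← pow_two, ← pow_mul, show 2 * (j + 1) = (2 * j + 1) + 1 by ring, pow_succ, ← hj, Subgroup.orderOf_coe,
          pow_orderOf_eq_one, one_mul]
      exact h1 ▸ pow_mem h2 _
    refine hθ (MonoidHom.ext fun y => ?_)
    obtain ⟨y', rfl⟩ := (Φ.act_bijective (0, false, p)).2 y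
    have e1 := hpS y'
    have e2 := hp y'
    rw [show Φ.act (0, true, p) y' = (Φ.act (0, false, p) y')⁻¹ from Subtype.ext (by
      rw [Subgroup.coe_inv, act_zero, act_zero]; simp), map_inv, e1] at e2
    rw [e1]
    obtain ⟨j, hj⟩ : Odd (orderOf y') := Φ.K_odd y'.2 |> fun h => by rwa [Subgroup.orderOf_coe] at h
    have hsq : θ y' * θ y' = 1 := by
      nth_rw 1 [← e2]
      exact inv_mul_cancel _
    have h3 : θ y' ^ (2 * j + 1) = 1 := by rw [← hj, ← map_pow, pow_orderOf_eq_one, map_one]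
    rw [pow_succ, pow_mul, pow_two, hsq, one_pow, one_mul] at h3
    simpa using h3
  rw [Nat.card_eq_fintype_card, ← Finset.card_univ]
  refine Finset.card_bij' (fun c hc => ⟨c.2, ?_⟩) (fun p _ => (false, (p : Φ.Phi))) (fun _ _ => Finset.mem_univ _)
    (fun p _ => Φ.mem_stab.1 p.2) (fun c hc => ?_) fun p _ => rfl
  · obtain ⟨ε, p⟩ := c
    cases ε
    · exact Φ.mem_stab.2 hc
    · exact absurd hc (hflip p)
  · obtain ⟨ε, p⟩ := c
    cases ε
    · rfl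
    · exact absurd hc (hflip p)

/-- The scalar products, as integers. -/
theorem inner_mlt (htame : ∀ y ∈ Φ.K, y ≠ 1 → ∀ g : G, Commute g y → ∀ w ∈ Φ.V, g * w * g⁻¹ ∈ Φ.V)
    {z z' : G} (hz : z ∈ Φ.Phi) (hz' : z' ∈ Φ.Phi) (hle : z' ∈ zpowers z) {θ θ' : Φ.K →* ℂˣ}
    (hθ : Φ.Fixed z θ) (hθ' : Φ.Fixed z' θ') (hθ1 : θ ≠ 1) (hθ'1 : θ' ≠ 1) (l l' : Fin 4)
    (ν ν' : Φ.Phi →* ℂˣ) :
    (orderOf z : ℤ) * ∑ χ : IrrCharacter G, Φ.mlt z l θ (Φ.res hz ν) χ * Φ.mlt z' l' θ' (Φ.res hz' ν') χ =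
      if Φ.res hz' ν' = Φ.res hz' ν then
        ∑ a ∈ Finset.univ.filter (fun a : Fin 3 => rotL a l = l'),
          (2 * (Nat.card Φ.Phi : ℤ) + ((Φ.fib θ θ' a).card : ℤ))
      else 0 := by
  apply Int.cast_injective (α := ℂ)
  have h := Φ.inner_mC htame hz hz' hle hθ hθ' hθ1 hθ'1 l l' ν ν'
  simp only [← Φ.mlt_spec hz _ hθ, ← Φ.mlt_spec hz' _ hθ', map_intCast] at h
  push_cast
  rw [h]
  have hsum : ∑ c : Fin 3 × Bool × Φ.Phi, (table l l' c.1 : ℂ) * ((if θ'.comp (Φ.act c) = θ then 1 else 0) + 1) =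
      4 * ∑ a ∈ Finset.univ.filter (fun a : Fin 3 => rotL a l = l'),
          (2 * (Nat.card Φ.Phi : ℂ) + ((Φ.fib θ θ' a).card : ℂ)) := by
    rw [Fintype.sum_prod_type, Finset.sum_filter, Finset.mul_sum]
    refine Finset.sum_congr rfl fun a _ => ?_
    show ∑ y, ((table l l' a : ℤ) : ℂ) * _ = _
    rw [← Finset.mul_sum, Finset.sum_add_distrib, Finset.sum_boole, Finset.sum_const, Finset.card_univ,
      nsmul_eq_mul, mul_one, Fintype.card_prod, Fintype.card_bool, ← Nat.card_eq_fintype_card, table_rotL]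
    show _ * (((Φ.fib θ θ' a).card : ℂ) + _) = _
    split_ifs <;> push_cast <;> ring
  have := Φ.o_ne z
  rw [hsum]
  split_ifs <;> push_cast <;> field_simp <;> ring

theorem fixed_comp {x : G} (hx : x ∈ Φ.Phi) {θ : Φ.K →* ℂˣ} (c : Fin 3 × Bool × Φ.Phi) :
    Φ.Fixed x (θ.comp (Φ.act c)) ↔ Φ.Fixed x θ := by
  have key : ∀ y y' : Φ.K, x * (y : G) * x⁻¹ = y' ↔ x * (Φ.act c y : G) * x⁻¹ = Φ.act c y' := fun y y' => by
    rw [act_coe, act_coe, show x * (Φ.rep c * y * (Φ.rep c)⁻¹) * x⁻¹ = x * Φ.rep c * y * (x * Φ.rep c)⁻¹ by group,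
      ← (Φ.rep_comm hx).eq, show Φ.rep c * x * y * (Φ.rep c * x)⁻¹ = Φ.rep c * (x * y * x⁻¹) * (Φ.rep c)⁻¹ by group]
    exact ⟨fun h => by rw [h], fun h => mul_left_cancel (mul_right_cancel h)⟩
  constructor
  · intro h y y' e
    obtain ⟨z, rfl⟩ := (Φ.act_bijective c).2 y
    obtain ⟨z', rfl⟩ := (Φ.act_bijective c).2 y'
    exact h z z' ((key z z').2 e)
  · exact fun h y y' e => h _ _ ((key y y').1 e)

/-- The twisted norm of `y`. -/
noncomputable def nm (x : G) (hx : x ∈ Φ.Phi) (y : Φ.K) : Φ.K :=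
  haveI := Φ.cyclic_K
  letI : CommGroup Φ.K := IsCyclic.commGroup
  ∏ i ∈ Finset.range (orderOf x), (⟨x ^ i * y * (x ^ i)⁻¹, Φ.conj_K_Phi y.2 (pow_mem hx i)⟩ : Φ.K)

theorem map_nm {A : Type*} [CommGroup A] {x : G} (hx : x ∈ Φ.Phi) (y : Φ.K) (f : Φ.K →* A) :
    f (Φ.nm x hx y) = ∏ i ∈ Finset.range (orderOf x),
      f ⟨x ^ i * y * (x ^ i)⁻¹, Φ.conj_K_Phi y.2 (pow_mem hx i)⟩ := by
  haveI := Φ.cyclic_K
  letI : CommGroup Φ.K := IsCyclic.commGroup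
  exact map_prod f _ _

theorem prod_shift {A : Type*} [CommGroup A] {x : G} (g : G → A) :
    ∏ i ∈ Finset.range (orderOf x), g (x ^ (i + 1)) = ∏ i ∈ Finset.range (orderOf x), g (x ^ i) := by
  obtain ⟨n, hn⟩ : ∃ n, orderOf x = n + 1 := ⟨orderOf x - 1, by have := orderOf_pos x; omega⟩
  rw [hn, Finset.prod_range_succ, Finset.prod_range_succ' (fun i => g (x ^ i)), ← hn, pow_orderOf_eq_one, pow_zero]

theorem nm_comm {x : G} (hx : x ∈ Φ.Phi) (y : Φ.K) : Commute x (Φ.nm x hx y : G) := by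
  haveI := Φ.cyclic_K
  letI : CommGroup Φ.K := IsCyclic.commGroup
  let σ : Φ.K →* Φ.K := Φ.act (0, false, ⟨x, hx⟩)
  have hσ : σ (Φ.nm x hx y) = Φ.nm x hx y := by
    rw [Φ.map_nm hx y σ]
    let g : G → Φ.K := fun w => if hw : w ∈ Φ.Phi then ⟨w * y * w⁻¹, Φ.conj_K_Phi y.2 hw⟩ else 1
    have hg : ∀ i : ℕ, g (x ^ i) = ⟨x ^ i * y * (x ^ i)⁻¹, Φ.conj_K_Phi y.2 (pow_mem hx i)⟩ := fun i =>
      dif_pos (pow_mem hx i)
    refine Eq.trans (Finset.prod_congr rfl fun i _ => ?_) ((prod_shift g).trans (Finset.prod_congr rfl fun i _ => hg i))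
    rw [hg (i + 1)]
    refine Subtype.ext ?_
    show (Φ.act (0, false, ⟨x, hx⟩) _ : G) = _
    rw [act_zero, if_neg (by simp)]
    show x * (x ^ i * (y : G) * (x ^ i)⁻¹) * x⁻¹ = x ^ (i + 1) * y * (x ^ (i + 1))⁻¹
    rw [pow_succ']
    group
  have h := congrArg Subtype.val hσ
  rw [show (σ (Φ.nm x hx y) : G) = x * (Φ.nm x hx y : G) * x⁻¹ by rw [act_zero]; rfl] at h
  exact mul_inv_eq_iff_eq_mul.1 h

theorem nm_fixed {x : G} (hx : x ∈ Φ.Phi) {θ : Φ.K →* ℂˣ} (hθ : Φ.Fixed x θ) (y : Φ.K) :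
    θ (Φ.nm x hx y) = θ y ^ orderOf x := by
  rw [Φ.map_nm hx y θ, Finset.prod_congr rfl (g := fun _ => θ y) fun i _ => ?_, Finset.prod_const, Finset.card_range]
  exact Φ.fixed_pow hθ hx (q := x ^ i) ⟨(i : ℤ), zpow_natCast x i⟩ y _ rfl

theorem eq_one_of_pow {x : G} (hx : x ∈ Φ.Phi) {u : ℂˣ} (hu : u ^ orderOf x = 1) (hk : u ^ k = 1) : u = 1 :=
  orderOf_eq_one_iff.1 (Nat.eq_one_of_dvd_coprimes (Φ.k_cop.coprime_dvd_right (Subgroup.orderOf_dvd_natCard _ hx))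
    (orderOf_dvd_of_pow_eq_one hk) (orderOf_dvd_of_pow_eq_one hu))

theorem theta_pow (θ : Φ.K →* ℂˣ) (y : Φ.K) : θ y ^ k = 1 := by
  have h : y ^ Nat.card Φ.K = 1 := pow_card_eq_one'
  have hk : ∀ n, Nat.card Φ.K = n → θ y ^ n = 1 := fun n hn => by rw [← map_pow, ← hn, h, map_one]
  exact hk k Φ.card_K

/-- A fixed character is determined on `C_K(x)`. -/
theorem fixed_ext {x : G} (hx : x ∈ Φ.Phi) {θ θ' : Φ.K →* ℂˣ} (hθ : Φ.Fixed x θ) (hθ' : Φ.Fixed x θ')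
    (h : ∀ y : Φ.K, Commute x (y : G) → θ y = θ' y) : θ = θ' := by
  refine MonoidHom.ext fun y => div_eq_one.1 (Φ.eq_one_of_pow hx ?_ ?_)
  · rw [div_pow, ← Φ.nm_fixed hx hθ, ← Φ.nm_fixed hx hθ', h _ (Φ.nm_comm hx y), div_self']
  · rw [div_pow, theta_pow, theta_pow, div_one]

theorem exists_injective : ∃ f : Φ.K →* ℂˣ, Function.Injective f := by
  haveI := Φ.cyclic_K
  have hk : k ≠ 0 := by have := Φ.k_three; omega
  haveI : NeZero k := ⟨hk⟩
  obtain ⟨g, hg⟩ := IsCyclic.exists_generator (α := Φ.K)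
  have hgo : orderOf g = k := by rw [orderOf_eq_card_of_forall_mem_zpowers hg, Φ.card_K]
  obtain ⟨ζ, hζ⟩ : ∃ ζ : ℂˣ, orderOf ζ = k := by
    have h := Complex.isPrimitiveRoot_exp k hk
    exact ⟨(h.isUnit hk).unit, by rw [← orderOf_units, IsUnit.unit_spec]; exact h.eq_orderOf.symm⟩
  refine ⟨monoidHomOfForallMemZpowers hg (g' := ζ) (by rw [hζ, hgo]), ?_⟩
  rw [injective_iff_map_eq_one]
  intro w hw
  obtain ⟨i, rfl⟩ := hg w
  rw [map_zpow, monoidHomOfForallMemZpowers_apply_gen, ← orderOf_dvd_iff_zpow_eq_one, hζ] at hw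
  rw [← orderOf_dvd_iff_zpow_eq_one, hgo]
  exact hw

/-- A fixed character which is injective on `C_K(x)`. -/
theorem exists_fixed {x : G} (hx : x ∈ Φ.Phi) : ∃ θ : Φ.K →* ℂˣ, Φ.Fixed x θ ∧
    ∀ y : Φ.K, Commute x (y : G) → θ y = 1 → y = 1 := by
  obtain ⟨f, hf⟩ := Φ.exists_injective
  let fy : G → Φ.K → ℂˣ := fun w y => if hw : w ∈ Φ.Phi then f ⟨w * y * w⁻¹, Φ.conj_K_Phi y.2 hw⟩ else 1
  let θ : Φ.K →* ℂˣ := ∏ i ∈ Finset.range (orderOf x), f.comp (Φ.act (0, false, ⟨x ^ i, pow_mem hx i⟩))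
  have hθ : ∀ y, θ y = ∏ i ∈ Finset.range (orderOf x), fy (x ^ i) y := fun y => by
    rw [MonoidHom.finsetProd_apply]
    refine Finset.prod_congr rfl fun i _ => ?_
    simp only [fy, dif_pos (pow_mem hx i), MonoidHom.comp_apply]
    refine congrArg f (Subtype.ext ?_)
    rw [act_zero, if_neg (by simp)]
  refine ⟨θ, fun y y' h => ?_, fun y hy h1 => ?_⟩
  · rw [hθ, hθ, ← prod_shift (fun w => fy w y)]
    refine Finset.prod_congr rfl fun i _ => ?_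
    simp only [fy, dif_pos (pow_mem hx i), dif_pos (pow_mem hx (i + 1))]
    refine congrArg f (Subtype.ext ?_)
    show x ^ i * (y' : G) * (x ^ i)⁻¹ = x ^ (i + 1) * y * (x ^ (i + 1))⁻¹
    rw [← h, pow_succ]
    group
  · have hpow : θ y = f y ^ orderOf x := by
      rw [hθ, Finset.prod_congr rfl (g := fun _ => f y) fun i _ => ?_, Finset.prod_const, Finset.card_range]
      simp only [fy, dif_pos (pow_mem hx i)]
      refine congrArg f (Subtype.ext ?_)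
      show x ^ i * (y : G) * (x ^ i)⁻¹ = y
      rw [(hy.pow_left i).eq, mul_inv_cancel_right]
    exact hf ((Φ.eq_one_of_pow hx (hpow ▸ h1) (Φ.theta_pow f y)).trans (map_one f).symm)

end TFrame

namespace Pivot

variable {Φ : TFrame t E E₀ k} {x : G} {r : ℕ} (P : Pivot Φ x r)
include P

/-- The multiplicities of a fixed character. -/
noncomputable def F (θ : Φ.Fix x) (l : Fin 4) (ν : Φ.Phi →* ℂˣ) (χ : IrrCharacter G) : ℤ :=
  Φ.mlt x l θ.1 (Φ.res P.mem ν) χ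

/-- The multiplicities of a moved character. -/
noncomputable def B (_P : Pivot Φ x r) (θ : Φ.Free x) (l : Fin 4) (χ : IrrCharacter G) : ℤ :=
  Φ.mlt 1 l θ.1 (Φ.res (one_mem _) 1) χ

/-- The same restriction to `⟨x⟩`. -/
def Same (ν ν' : Φ.Phi →* ℂˣ) : Prop := Φ.res P.mem ν = Φ.res P.mem ν'

/-- The stabilizer of a moved character. -/
noncomputable def s (_P : Pivot Φ x r) (θ : Φ.Free x) : ℕ := (Φ.fib θ.1 θ.1 0).card

theorem F_same (θ : Φ.Fix x) (l : Fin 4) (ν ν' : Φ.Phi →* ℂˣ) (h : P.Same ν ν') : P.F θ l ν = P.F θ l ν' := by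
  funext χ
  rw [F, F, h]

theorem o_pos : (0 : ℤ) < orderOf x := by exact_mod_cast orderOf_pos x

theorem card_Phi : (Nat.card Φ.Phi : ℤ) = r * orderOf x := by exact_mod_cast P.card_eq.symm

theorem sum_FF (θ θ' : Φ.Fix x) (l l' : Fin 4) (ν ν' : Φ.Phi →* ℂˣ) :
    (orderOf x : ℤ) * ∑ χ : IrrCharacter G, P.F θ l ν χ * P.F θ' l' ν' χ =
      if Φ.res P.mem ν' = Φ.res P.mem ν then
        ∑ a ∈ Finset.univ.filter (fun a : Fin 3 => rotL a l = l'),
          (2 * (Nat.card Φ.Phi : ℤ) + ((Φ.fib θ.1 θ'.1 a).card : ℤ))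
      else 0 :=
  Φ.inner_mlt P.tame P.mem P.mem (mem_zpowers x) θ.2.2 θ'.2.2 θ.2.1 θ'.2.1 l l' ν ν'

theorem F_orth (θ θ' : Φ.Fix x) (l l' : Fin 4) (ν ν' : Φ.Phi →* ℂˣ) (h : ¬ P.Same ν ν') :
    ∑ χ, P.F θ l ν χ * P.F θ' l' ν' χ = 0 := by
  have hs := P.sum_FF θ θ' l l' ν ν'
  rw [if_neg fun e => h e.symm] at hs
  exact (mul_eq_zero.1 hs).resolve_left P.o_pos.ne'

theorem F_mixed (θ θ' : Φ.Fix x) (l : Fin 4) (ν : Φ.Phi →* ℂˣ) (hl : l ≠ 0) :
    ∑ χ, P.F θ l ν χ * P.F θ' 0 ν χ = 0 := by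
  have hs := P.sum_FF θ θ' l 0 ν ν
  rw [if_pos rfl, filter_rot_mixed hl, Finset.sum_empty] at hs
  exact (mul_eq_zero.1 hs).resolve_left P.o_pos.ne'

theorem sum_FF_same (θ θ' : Φ.Fix x) {l j : Fin 4} (hl : l ≠ 0) (hj : j ≠ 0) (ν : Φ.Phi →* ℂˣ) {a : Fin 3}
    (ha : rotL a l = j) {m : ℕ} (hm : (Φ.fib θ.1 θ'.1 a).card = m * orderOf x) :
    ∑ χ, P.F θ l ν χ * P.F θ' j ν χ = 2 * (r : ℤ) + m := by
  have hs := P.sum_FF θ θ' l j ν ν
  rw [if_pos rfl, filter_rot hl hj ha, Finset.sum_singleton, P.card_Phi, hm] at hs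
  push_cast at hs
  exact mul_left_cancel₀ P.o_pos.ne' (hs.trans (by ring))

theorem sum_FF_zero (θ θ' : Φ.Fix x) (ν : Φ.Phi →* ℂˣ) :
    (orderOf x : ℤ) * ∑ χ, P.F θ 0 ν χ * P.F θ' 0 ν χ =
      6 * (r : ℤ) * orderOf x + ∑ a : Fin 3, ((Φ.fib θ.1 θ'.1 a).card : ℤ) := by
  have hs := P.sum_FF θ θ' 0 0 ν ν
  rw [if_pos rfl, filter_rot_zero, Finset.sum_add_distrib, Finset.sum_const, P.card_Phi] at hs
  rw [hs]
  simp
  ring

theorem zpowers_le_stab (θ : Φ.Fix x) : zpowers (⟨x, P.mem⟩ : Φ.Phi) ≤ Φ.stab θ.1 := by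
  rw [zpowers_le]
  intro y
  refine θ.2.2 y _ ?_
  rw [TFrame.act_zero, if_neg (by simp)]

/-- A fixed character conjugate to `θ₀`. -/
theorem F_of_conj (θ θ₀ : Φ.Fix x) (c : Fin 3 × Bool × Φ.Phi) (h : θ.1 = θ₀.1.comp (Φ.act c)) (l : Fin 4)
    (ν : Φ.Phi →* ℂˣ) : P.F θ l ν = P.F θ₀ (rotL c.1 l) ν := by
  funext χ
  have e := Φ.mC_conj P.mem c l θ₀.1 (Φ.res P.mem ν) χ
  rw [← h, ← Φ.mlt_spec P.mem _ θ.2.2, ← Φ.mlt_spec P.mem _ θ₀.2.2] at e
  exact Int.cast_injective e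

omit P in
/-- The elements of `C_K(x)`. -/
def K1 (_P : Pivot Φ x r) : Set G := {y | y ∈ Φ.K ∧ Commute x y}

theorem conj_pow_m {y : G} (hy : y ∈ P.K1) (i : ℕ) : Φ.m ^ i * y * (Φ.m ^ i)⁻¹ ∈ P.K1 :=
  ⟨Φ.conjPow_K hy.1 i, ((Φ.pm x P.mem).pow_right i).mul_right hy.2 |>.mul_right ((Φ.pm x P.mem).pow_right i).inv_right⟩

/-- No power of `m` inverts `C_K(x)`. -/
theorem not_invert (i : ℕ) : ¬ ∀ y ∈ P.K1, Φ.m ^ i * y * (Φ.m ^ i)⁻¹ = y⁻¹ := by
  intro h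
  obtain ⟨y, hy, hy1, hxy⟩ := P.fix_ne
  have h3 : Φ.m ^ (3 * i) = 1 := by rw [pow_mul, show Φ.m ^ 3 = Φ.m * Φ.m * Φ.m by rw [pow_succ, pow_two], Φ.m3, one_pow]
  have hi : ∀ z ∈ P.K1, z⁻¹ ∈ P.K1 := fun z hz => ⟨inv_mem hz.1, hz.2.inv_right⟩
  have e1 := h y ⟨hy, hxy⟩
  have e2 := h _ (hi y ⟨hy, hxy⟩)
  have e : Φ.m ^ (3 * i) * y * (Φ.m ^ (3 * i))⁻¹ = y⁻¹ := by
    rw [show 3 * i = i + i + i by ring, pow_add, pow_add,
      show Φ.m ^ i * Φ.m ^ i * Φ.m ^ i * y * (Φ.m ^ i * Φ.m ^ i * Φ.m ^ i)⁻¹ =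
        Φ.m ^ i * (Φ.m ^ i * (Φ.m ^ i * y * (Φ.m ^ i)⁻¹) * (Φ.m ^ i)⁻¹) * (Φ.m ^ i)⁻¹ by group, e1, e2, inv_inv, e1]
  rw [h3, one_mul, inv_one, mul_one] at e
  exact hy1 (eq_one_of_odd_sq (Φ.K_odd hy) (by nth_rw 2 [e]; exact mul_inv_cancel y))

theorem fix_pow_m {i : ℕ} (h : ∀ y ∈ P.K1, Φ.m ^ i * y * (Φ.m ^ i)⁻¹ = y) : i % 3 = 0 := by
  by_contra hne
  obtain ⟨y, hy, hxy, hmy⟩ := P.moved
  refine hmy ?_
  have hc : Commute (Φ.m ^ i) y := mul_inv_eq_iff_eq_mul.1 (h y ⟨hy, hxy⟩)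
  rw [Φ.m_pow_mod] at hc
  have h3 := Nat.mod_lt i (show 3 > 0 by norm_num)
  interval_cases hh : i % 3
  · exact absurd rfl hne
  · rwa [pow_one] at hc
  · have h2 := hc.pow_left 2
    rwa [← pow_mul, Φ.m_pow_mod, show 2 * 2 % 3 = 1 by norm_num, pow_one] at h2

theorem Phi_fix {p : Φ.Phi} (hp : (p : G) ∈ zpowers x) {y : G} (hy : y ∈ P.K1) :
    (p : G) * y * (p : G)⁻¹ = y := by
  obtain ⟨i, hi⟩ := hp
  rw [← hi, (hy.2.zpow_left i).eq, mul_inv_cancel_right]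

theorem rep_form (a : Fin 3) (ε : Bool) (p : Φ.Phi) {y : G} (hy : y ∈ Φ.K) {z : G}
    (hz : (p : G) * y * (p : G)⁻¹ = z) :
    Φ.rep (a, ε, p) * y * (Φ.rep (a, ε, p))⁻¹ =
      Φ.m ^ (a : ℕ) * (if ε then z⁻¹ else z) * (Φ.m ^ (a : ℕ))⁻¹ := by
  have hzK : z ∈ Φ.K := hz ▸ Φ.conj_K_Phi hy p.2
  cases ε
  · simp only [TFrame.rep, Bool.false_eq_true, if_false, one_mul]
    rw [← hz]; group
  · simp only [TFrame.rep, if_true]
    rw [← Φ.inv z hzK, ← hz]; group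

/-- The elements acting trivially on `C_K(x)`. -/
theorem triv_cases {a : Fin 3} {ε : Bool} {p : Φ.Phi}
    (h : ∀ y ∈ P.K1, Φ.rep (a, ε, p) * y * (Φ.rep (a, ε, p))⁻¹ = y) :
    ε = false ∧ (r = 1 → a = 0) ∧ (a = 0 → (p : G) ∈ zpowers x) ∧ ((p : G) ∈ zpowers x → a = 0) := by
  obtain ⟨i, hi, hp⟩ : ∃ i : ℕ, ((p : G) ∈ zpowers x → i = (a : ℕ)) ∧
      ∀ y ∈ P.K1, Φ.rep (a, ε, p) * y * (Φ.rep (a, ε, p))⁻¹ =
        Φ.m ^ i * (if ε then y⁻¹ else y) * (Φ.m ^ i)⁻¹ := by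
    by_cases hpx : (p : G) ∈ zpowers x
    · exact ⟨a, fun _ => rfl, fun y hy => P.rep_form a ε p hy.1 (P.Phi_fix hpx hy)⟩
    · rcases P.r_cases with h1 | h3
      · refine absurd ?_ hpx
        have heq : zpowers x = Φ.Phi := Subgroup.eq_of_le_of_card_ge (zpowers_le.2 P.mem)
          (by rw [Nat.card_zpowers, ← P.card_eq, h1, one_mul])
        exact heq.symm ▸ p.2
      · obtain ⟨j, hj, hjp⟩ := (P.seven h3).2 p p.2 hpx
        refine ⟨(a : ℕ) + (3 - j), fun h => absurd h hpx, fun y hy => ?_⟩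
        have e : (p : G) * y * (p : G)⁻¹ = Φ.m ^ (3 - j) * y * (Φ.m ^ (3 - j))⁻¹ := by
          have h1 := (hjp y hy.1 hy.2).eq
          have h2 : (Φ.m ^ j)⁻¹ = Φ.m ^ (3 - j) := Φ.m_pow_inv (by omega)
          rw [← h2, inv_inv]
          calc (p : G) * y * (p : G)⁻¹ = (Φ.m ^ j)⁻¹ * (Φ.m ^ j * p * y) * (p : G)⁻¹ := by group
            _ = (Φ.m ^ j)⁻¹ * y * Φ.m ^ j := by rw [h1]; group
        rw [P.rep_form a ε p hy.1 e, pow_add]
        cases ε <;> simp <;> group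
  have hε : ε = false := by
    cases ε
    · rfl
    · refine absurd (fun y hy => ?_) (P.not_invert i)
      have hy' : y⁻¹ ∈ P.K1 := ⟨inv_mem hy.1, hy.2.inv_right⟩
      have e := (hp _ hy').symm.trans (h _ hy')
      simpa using e
  subst hε
  have hi3 : i % 3 = 0 := P.fix_pow_m fun y hy => by
    simpa using (hp y hy).symm.trans (h y hy)
  have hzp : (p : G) ∈ zpowers x → a = 0 := fun hm => Fin.ext (by
    have := hi hm
    have := a.2
    simp only [Fin.val_zero]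
    omega)
  refine ⟨rfl, fun h1 => hzp ?_, fun ha => P.faith p p.2 fun y hy hxy => ?_, hzp⟩
  · have heq : zpowers x = Φ.Phi := Subgroup.eq_of_le_of_card_ge (zpowers_le.2 P.mem)
      (by rw [Nat.card_zpowers, ← P.card_eq, h1, one_mul])
    exact heq.symm ▸ p.2
  · subst ha
    have e := h y ⟨hy, hxy⟩
    simp only [TFrame.rep, Fin.val_zero, pow_zero, one_mul, Bool.false_eq_true, if_false] at e
    exact mul_inv_eq_iff_eq_mul.1 e

theorem exists_theta : ∃ θ₀ : Φ.Fix x, ∀ y : Φ.K, Commute x (y : G) → θ₀.1 y = 1 → y = 1 := by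
  obtain ⟨θ, hfix, hinj⟩ := Φ.exists_fixed P.mem
  refine ⟨⟨θ, fun e => ?_, hfix⟩, hinj⟩
  obtain ⟨y, hy, hy1, hxy⟩ := P.fix_ne
  exact hy1 (congrArg Subtype.val (hinj ⟨y, hy⟩ hxy (by rw [e]; rfl)))

/-- The fixed character. -/
noncomputable def theta : Φ.Fix x := P.exists_theta.choose

theorem theta_inj {y : Φ.K} (hy : Commute x (y : G)) (h : P.theta.1 y = 1) : y = 1 :=
  P.exists_theta.choose_spec y hy h

theorem mem_fib_theta {a : Fin 3} {c : Bool × Φ.Phi} :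
    c ∈ Φ.fib P.theta.1 P.theta.1 a ↔ ∀ y ∈ P.K1, Φ.rep (a, c) * y * (Φ.rep (a, c))⁻¹ = y := by
  simp only [TFrame.fib, Finset.mem_filter, Finset.mem_univ, true_and]
  constructor
  · intro h y hy
    have e := DFunLike.congr_fun h ⟨y, hy.1⟩
    simp only [MonoidHom.comp_apply] at e
    have hcomm : Commute x ((Φ.act (a, c) ⟨y, hy.1⟩ * (⟨y, hy.1⟩ : Φ.K)⁻¹ : Φ.K) : G) := by
      have hr : Commute x (Φ.rep (a, c)) := (Φ.rep_comm P.mem).symm
      simp only [Subgroup.coe_mul, Subgroup.coe_inv, TFrame.act_coe]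
      exact (((hr.mul_right hy.2).mul_right hr.inv_right)).mul_right hy.2.inv_right
    have h1 := P.theta_inj hcomm (by rw [map_mul, map_inv, e, mul_inv_cancel])
    exact congrArg Subtype.val (mul_inv_eq_one.1 h1)
  · intro h
    refine Φ.fixed_ext P.mem ((Φ.fixed_comp P.mem _).2 P.theta.2.2) P.theta.2.2 fun y hy => ?_
    show P.theta.1 (Φ.act (a, c) y) = _
    exact congrArg _ (Subtype.ext (h y ⟨y.2, hy⟩))

theorem card_zpowers_x : Nat.card (zpowers (⟨x, P.mem⟩ : Φ.Phi)) = orderOf x := by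
  rw [Nat.card_zpowers, Subgroup.orderOf_mk]

theorem fib_theta_zero : (Φ.fib P.theta.1 P.theta.1 0).card = orderOf x := by
  rw [Φ.card_fib_self P.theta.2.1, ← P.card_zpowers_x]
  refine congrArg (fun H : Subgroup Φ.Phi => Nat.card H) (le_antisymm (fun p hp => ?_) (P.zpowers_le_stab P.theta))
  obtain ⟨i, hi⟩ := (P.triv_cases (P.mem_fib_theta.1 (Φ.mem_stab.1 hp))).2.2.1 rfl
  exact ⟨i, Subtype.ext (by simpa using hi)⟩

theorem fib_theta {a : Fin 3} (ha : a ≠ 0) :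
    (Φ.fib P.theta.1 P.theta.1 a).card = if r = 1 then 0 else orderOf x := by
  split_ifs with h1
  · exact Finset.card_eq_zero.2 (Finset.eq_empty_of_forall_notMem fun c hc =>
      ha ((P.triv_cases (P.mem_fib_theta.1 hc)).2.1 h1))
  · have h3 : r = 3 := P.r_cases.resolve_left h1
    rw [Φ.card_fib_eq ?_, P.fib_theta_zero]
    obtain ⟨p, hp, hpx⟩ : ∃ p ∈ Φ.Phi, p ∉ zpowers x := by
      by_contra hc
      push Not at hc
      have hle : Nat.card Φ.Phi ≤ orderOf x := by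
        rw [← Nat.card_zpowers]; exact Subgroup.card_le_of_le hc
      have := P.card_eq
      have := orderOf_pos x
      rw [h3] at *
      omega
    obtain ⟨j, hj, hjp⟩ := (P.seven h3).2 p hp hpx
    have hmem : ∀ n : ℕ, ((a : ℕ) = j * n % 3) → (false, (⟨p, hp⟩ : Φ.Phi) ^ n) ∈ Φ.fib P.theta.1 P.theta.1 a :=
      fun n hn => by
        refine P.mem_fib_theta.2 fun y hy => ?_
        have hrep : Φ.rep (a, false, (⟨p, hp⟩ : Φ.Phi) ^ n) = (Φ.m ^ j * p) ^ n := by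
          rw [((Φ.pm p hp).symm.pow_left j).mul_pow, ← pow_mul, Φ.m_pow_mod (j * n), ← hn]
          simp [TFrame.rep]
        rw [hrep, ((hjp y hy.1 hy.2).pow_left n).eq, mul_inv_cancel_right]
    have h12 : (a : ℕ) = j * 1 % 3 ∨ (a : ℕ) = j * 2 % 3 := by
      have := a.2
      have : (a : ℕ) ≠ 0 := fun e => ha (Fin.ext e)
      rcases hj with rfl | rfl <;> omega
    rcases h12 with h | h <;> exact ⟨_, hmem _ h⟩

theorem fib_self_zero (hr : r = 1) (θ : Φ.Fix x) : (Φ.fib θ.1 θ.1 0).card = orderOf x := by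
  rw [Φ.card_fib_self θ.2.1]
  refine le_antisymm ?_ ?_
  · refine (Subgroup.card_le_card_group _).trans ?_
    rw [← P.card_eq, hr, one_mul]
  · rw [← P.card_zpowers_x]
    exact Subgroup.card_le_of_le (P.zpowers_le_stab θ)

/-- For `r = 3` every fixed character is conjugate to `theta`. -/
theorem exists_conj (h3 : r = 3) (θ : Φ.Fix x) : ∃ c, θ.1 = P.theta.1.comp (Φ.act c) := by
  obtain ⟨h7, -⟩ := P.seven h3
  set H := Φ.K ⊓ centralizer ({x} : Set G) with hH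
  haveI : Fact (Nat.Prime 7) := ⟨by norm_num⟩
  obtain ⟨g, hg, hg1, hxg⟩ := P.fix_ne
  have hgH : g ∈ H := ⟨hg, mem_centralizer_singleton_iff.2 hxg.symm.eq⟩
  set gH : H := ⟨g, hgH⟩
  have hgen : ∀ y : H, y ∈ zpowers gH := fun y =>
    mem_zpowers_of_prime_card h7 (fun e => hg1 (congrArg Subtype.val e))
  let h : Fin 3 × Bool → H := fun c => ⟨Φ.rep (c.1, c.2, 1) * g * (Φ.rep (c.1, c.2, 1))⁻¹,
    Φ.norm_K (Φ.rep_NV _) hg, mem_centralizer_singleton_iff.2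
      ((((Φ.rep_comm P.mem).symm.mul_right hxg).mul_right (Φ.rep_comm P.mem).symm.inv_right)).symm.eq⟩
  have hval : ∀ c : Fin 3 × Bool, ((h c : H) : G) =
      Φ.m ^ (c.1 : ℕ) * (if c.2 then g⁻¹ else g) * (Φ.m ^ (c.1 : ℕ))⁻¹ := fun c =>
    P.rep_form c.1 c.2 1 hg (by simp)
  have hinj : Function.Injective h := by
    rintro ⟨a, ε⟩ ⟨a', ε'⟩ e
    have e' := congrArg Subtype.val e
    rw [hval, hval] at e'
    have hall : ∀ (i : ℕ) (u : ℤ), Φ.m ^ i * g * (Φ.m ^ i)⁻¹ = g ^ u →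
        ∀ y ∈ P.K1, Φ.m ^ i * y * (Φ.m ^ i)⁻¹ = y ^ u := fun i u hu y hy => by
      obtain ⟨n, hn⟩ := hgen ⟨y, hy.1, mem_centralizer_singleton_iff.2 hy.2.symm.eq⟩
      have hn' : g ^ n = y := congrArg Subtype.val hn
      rw [← hn', ← conj_zpow, hu, ← zpow_mul, ← zpow_mul, mul_comm]
    set i := (a : ℕ) + (3 - (a' : ℕ)) with hi
    have hm : Φ.m ^ i * (if ε then g⁻¹ else g) * (Φ.m ^ i)⁻¹ = if ε' then g⁻¹ else g := by
      have hmi : Φ.m ^ i = (Φ.m ^ (a' : ℕ))⁻¹ * Φ.m ^ (a : ℕ) := by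
        rw [Φ.m_pow_inv a'.2, ← pow_add, hi, add_comm]
      rw [hmi]
      calc (Φ.m ^ (a' : ℕ))⁻¹ * Φ.m ^ (a : ℕ) * (if ε then g⁻¹ else g) * ((Φ.m ^ (a' : ℕ))⁻¹ * Φ.m ^ (a : ℕ))⁻¹
          = (Φ.m ^ (a' : ℕ))⁻¹ * (Φ.m ^ (a : ℕ) * (if ε then g⁻¹ else g) * (Φ.m ^ (a : ℕ))⁻¹) * Φ.m ^ (a' : ℕ) := by
            group
        _ = _ := by rw [e']; group
    have hinv : ∀ u : G, Φ.m ^ i * u * (Φ.m ^ i)⁻¹ = (Φ.m ^ i * u⁻¹ * (Φ.m ^ i)⁻¹)⁻¹ := fun u => by group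
    by_cases hε : ε = ε'
    · subst hε
      have h1 : Φ.m ^ i * g * (Φ.m ^ i)⁻¹ = g := by
        cases ε
        · simpa using hm
        · rw [hinv g]; simp only [if_true] at hm; rw [hm, inv_inv]
      have := P.fix_pow_m fun y hy => by simpa using hall i 1 (by rw [zpow_one]; exact h1) y hy
      refine Prod.ext (Fin.ext ?_) rfl
      show (a : ℕ) = a'
      have := a.2
      have := a'.2
      omega
    · exfalso
      have hg' : Φ.m ^ i * g * (Φ.m ^ i)⁻¹ = g ^ (-1 : ℤ) := by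
        rw [zpow_neg_one]
        cases ε <;> cases ε'
        · exact absurd rfl hε
        · simpa using hm
        · simp only [if_true, Bool.false_eq_true, if_false] at hm
          rw [hinv g, hm]
        · exact absurd rfl hε
      exact P.not_invert i fun y hy => (hall i (-1) hg' y hy).trans (zpow_neg_one y)
  have hne : ∀ c, h c ≠ 1 := fun c e => hg1 (conj_eq_one_iff.1 (congrArg Subtype.val e))
  have himg : Finset.univ.image h = Finset.univ.erase (1 : H) := by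
    refine Finset.eq_of_subset_of_card_le (fun y hy => ?_) ?_
    · obtain ⟨c, -, rfl⟩ := Finset.mem_image.1 hy
      exact Finset.mem_erase.2 ⟨hne c, Finset.mem_univ _⟩
    · rw [Finset.card_erase_of_mem (Finset.mem_univ _), Finset.card_univ, ← Nat.card_eq_fintype_card, h7,
        Finset.card_image_of_injective _ hinj, Finset.card_univ, Fintype.card_prod, Fintype.card_bool, Fintype.card_fin]
  -- the value of `θ` at `g`
  set gK : Φ.K := ⟨g, hg⟩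
  have hg7 : gK ^ 7 = 1 := Subtype.ext (by
    have := congrArg Subtype.val (show gH ^ 7 = 1 by rw [← h7]; exact pow_card_eq_one')
    simpa using this)
  have ho0 : orderOf (P.theta.1 gK) = 7 := orderOf_eq_prime (by rw [← map_pow, hg7, map_one])
    fun e => hg1 (congrArg Subtype.val (P.theta_inj hxg e))
  obtain ⟨n, hn⟩ : θ.1 gK ∈ zpowers (P.theta.1 gK) := by
    haveI : NeZero (7 : ℕ) := ⟨by norm_num⟩
    rw [(IsPrimitiveRoot.iff_orderOf.2 ho0).zpowers_eq, mem_rootsOfUnity, ← map_pow, hg7, map_one]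
  have hgn : gH ^ n ≠ 1 := fun e => θ.2.1 (Φ.fixed_ext P.mem θ.2.2 (Φ.fixed_triv x) fun y hy => by
    obtain ⟨m, hm⟩ := hgen ⟨(y : G), y.2, mem_centralizer_singleton_iff.2 hy.symm.eq⟩
    rw [show y = gK ^ m from Subtype.ext (by simpa using (congrArg Subtype.val hm).symm), map_zpow, MonoidHom.one_apply, ← hn]
    have h1 : (gK : Φ.K) ^ n = 1 := Subtype.ext (by simpa using congrArg Subtype.val e)
    show (P.theta.1 gK ^ n) ^ m = 1
    rw [← map_zpow, h1, map_one, one_zpow])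
  obtain ⟨c, -, hc⟩ := Finset.mem_image.1 (himg ▸ Finset.mem_erase.2 ⟨hgn, Finset.mem_univ _⟩)
  refine ⟨(c.1, c.2, 1), Φ.fixed_ext P.mem θ.2.2 ((Φ.fixed_comp P.mem _).2 P.theta.2.2) fun y hy => ?_⟩
  obtain ⟨m, hm⟩ := hgen ⟨(y : G), y.2, mem_centralizer_singleton_iff.2 hy.symm.eq⟩
  rw [show y = gK ^ m from Subtype.ext (by simpa using (congrArg Subtype.val hm).symm), map_zpow, map_zpow,
    MonoidHom.comp_apply, show Φ.act (c.1, c.2, 1) gK = gK ^ n from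
      Subtype.ext (by
        rw [TFrame.act_coe, SubgroupClass.coe_zpow]
        exact (congrArg Subtype.val hc).trans (SubgroupClass.coe_zpow gH n)), map_zpow, ← hn]

/-! ### The fields -/

theorem F_norm (θ : Φ.Fix x) (l : Fin 4) (ν : Φ.Phi →* ℂˣ) (hl : l ≠ 0) :
    ∑ χ, P.F θ l ν χ ^ 2 = 2 * (r : ℤ) + 1 := by
  rcases P.r_cases with h1 | h3
  · simp only [pow_two]
    rw [P.sum_FF_same θ θ hl hl ν ((rotL_self 0 l hl).2 rfl) (m := 1) (by rw [P.fib_self_zero h1 θ, one_mul])]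
    norm_num
  · obtain ⟨c, hc⟩ := P.exists_conj h3 θ
    rw [P.F_of_conj θ P.theta c hc]
    simp only [pow_two]
    have hl' := rotL_ne c.1 l hl
    rw [P.sum_FF_same P.theta P.theta hl' hl' ν ((rotL_self 0 _ hl').2 rfl) (m := 1)
      (by rw [P.fib_theta_zero, one_mul])]
    norm_num

theorem F_norm_zero (ν : Φ.Phi →* ℂˣ) :
    ∑ χ, P.F P.theta 0 ν χ ^ 2 = if r = 1 then 7 else 21 := by
  simp only [pow_two]
  have hs := P.sum_FF_zero P.theta P.theta ν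
  rw [Fin.sum_univ_three, P.fib_theta_zero, P.fib_theta (a := 1) (by decide), P.fib_theta (a := 2) (by decide)] at hs
  refine mul_left_cancel₀ P.o_pos.ne' (hs.trans ?_)
  rcases P.r_cases with rfl | rfl <;> simp <;> ring

theorem F_norm_le (θ : Φ.Fix x) (ν : Φ.Phi →* ℂˣ) (hr : r = 1) : ∑ χ, P.F θ 0 ν χ ^ 2 ≤ 9 := by
  simp only [pow_two]
  have hs := P.sum_FF_zero θ θ ν
  have h0 := P.fib_self_zero hr θ
  have hb : ∀ a, ((Φ.fib θ.1 θ.1 a).card : ℤ) ≤ orderOf x := fun a => by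
    exact_mod_cast h0 ▸ Φ.card_fib_le θ.1 θ.1 a
  have hr' : (r : ℤ) = 1 := by exact_mod_cast hr
  rw [Fin.sum_univ_three, hr'] at hs
  refine le_of_mul_le_mul_left ?_ P.o_pos
  linarith [hb 0, hb 1, hb 2]

theorem F_pair (l j : Fin 4) (ν : Φ.Phi →* ℂˣ) (hl : l ≠ 0) (hj : j ≠ 0) (hlj : l ≠ j) :
    ∑ χ, P.F P.theta l ν χ * P.F P.theta j ν χ = if r = 1 then 2 else 7 := by
  obtain ⟨a, ha, -⟩ := rotL_unique l j hl hj
  have ha0 : a ≠ 0 := fun e => hlj (((rotL_self a l hl).2 e).symm.trans ha)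
  rw [P.sum_FF_same P.theta P.theta hl hj ν ha (m := if r = 1 then 0 else 1)
    (by rw [P.fib_theta ha0]; split_ifs <;> simp)]
  rcases P.r_cases with rfl | rfl <;> simp

theorem F_conj (θ : Φ.Fix x) :
    (∃ π : Fin 4 ≃ Fin 4, π 0 = 0 ∧ ∀ l ν, P.F θ l ν = P.F P.theta (π l) ν) ∨
      (r = 1 ∧ (∀ (l j : Fin 4) ν, l ≠ 0 → j ≠ 0 → ∑ χ, P.F θ l ν χ * P.F P.theta j ν χ = 2) ∧
        ∀ ν, ∑ χ, P.F θ 0 ν χ * P.F P.theta 0 ν χ = 6) := by
  by_cases h : ∃ c, θ.1 = P.theta.1.comp (Φ.act c)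
  · obtain ⟨c, hc⟩ := h
    exact Or.inl ⟨Equiv.ofBijective _ (rotL_bijective c.1), rotL_zero_fin c.1, fun l ν => P.F_of_conj θ P.theta c hc l ν⟩
  · have h1 : r = 1 := P.r_cases.resolve_right fun h3 => h (P.exists_conj h3 θ)
    have he : ∀ a, (Φ.fib θ.1 P.theta.1 a).card = 0 := fun a =>
      Finset.card_eq_zero.2 (Finset.eq_empty_of_forall_notMem fun c hc =>
        h ⟨(a, c), ((Finset.mem_filter.1 hc).2).symm⟩)
    refine Or.inr ⟨h1, fun l j ν hl hj => ?_, fun ν => ?_⟩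
    · obtain ⟨a, ha, -⟩ := rotL_unique l j hl hj
      rw [P.sum_FF_same θ P.theta hl hj ν ha (m := 0) (by rw [he, zero_mul]), h1]
      norm_num
    · have hs := P.sum_FF_zero θ P.theta ν
      have h1' : (r : ℤ) = 1 := by exact_mod_cast h1
      rw [Fin.sum_univ_three, he, he, he, h1'] at hs
      refine mul_left_cancel₀ P.o_pos.ne' (hs.trans ?_)
      push_cast
      ring

/-! ### The moved characters -/

theorem free_ne : Nonempty (Φ.Free x) := by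
  obtain ⟨f, hf⟩ := Φ.exists_injective
  obtain ⟨y₀, hy₀, hy₀1, -⟩ := P.fix_ne
  refine ⟨⟨f, fun e => hy₀1 (congrArg Subtype.val (@hf ⟨y₀, hy₀⟩ 1 (by rw [e]; rfl))), fun hfix => P.ne ?_⟩⟩
  refine P.faith_K x P.mem fun y hy => ?_
  have e := congrArg Subtype.val (hf (hfix ⟨y, hy⟩ ⟨_, Φ.conj_K_Phi hy P.mem⟩ rfl))
  exact mul_inv_eq_iff_eq_mul.1 e

theorem s_le (θ : Φ.Free x) : 3 * P.s θ ≤ orderOf x := by
  haveI := Φ.Phi_cyclic
  rw [s, Φ.card_fib_self θ.2.1]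
  set H := Φ.stab θ.1
  have hxH : (⟨x, P.mem⟩ : Φ.Phi) ∉ H := fun hm => θ.2.2 fun y y' e => by
    rw [← hm y]
    refine congrArg θ.1 (Subtype.ext ?_)
    rw [TFrame.act_zero, if_neg (by simp)]
    exact e.symm
  obtain ⟨A, hA⟩ := P.pow
  obtain ⟨i, -, hi⟩ := (Nat.dvd_prime_pow Nat.prime_three).1 (hA ▸ Subgroup.card_subgroup_dvd_card H)
  obtain ⟨j, -, hj⟩ := (Nat.dvd_prime_pow Nat.prime_three).1 (hA ▸ Subgroup.orderOf_dvd_natCard _ P.mem)
  have hlt : i < j := by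
    by_contra hle
    refine hxH ?_
    letI : CommGroup Φ.Phi := IsCyclic.commGroup
    have hker : H = (powMonoidHom (Nat.card H) : Φ.Phi →* Φ.Phi).ker := Subgroup.eq_of_le_of_card_ge
      (fun p hp => congrArg Subtype.val (pow_card_eq_one' (x := (⟨p, hp⟩ : H))))
      (by rw [IsCyclic.card_powMonoidHom_ker]
          exact Nat.le_of_dvd Nat.card_pos (Nat.gcd_dvd_right _ _))
    rw [hker, MonoidHom.mem_ker]
    refine Subtype.ext ?_
    show x ^ Nat.card H = 1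
    rw [← orderOf_dvd_iff_pow_eq_one, hi, hj]
    exact pow_dvd_pow 3 (by omega)
  rw [hi, hj, ← pow_succ']
  exact Nat.pow_le_pow_right (by norm_num) hlt

theorem res_one (ν ν' : Φ.Phi →* ℂˣ) : Φ.res (one_mem Φ.Phi) ν = Φ.res (one_mem Φ.Phi) ν' := by
  refine MonoidHom.ext fun q => ?_
  obtain ⟨i, hi⟩ := q.2
  rw [show q = 1 from Subtype.ext (by rw [← hi]; exact one_zpow i), map_one, map_one]

theorem sum_BB (θ : Φ.Free x) (l l' : Fin 4) :
    ∑ χ : IrrCharacter G, P.B θ l χ * P.B θ l' χ =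
      ∑ a ∈ Finset.univ.filter (fun a : Fin 3 => rotL a l = l'),
        (2 * (Nat.card Φ.Phi : ℤ) + ((Φ.fib θ.1 θ.1 a).card : ℤ)) := by
  have h := Φ.inner_mlt P.tame (one_mem _) (one_mem _) (mem_zpowers 1) (Φ.fixed_one θ.1) (Φ.fixed_one θ.1)
    θ.2.1 θ.2.1 l l' 1 1
  rw [if_pos rfl, orderOf_one, Nat.cast_one, one_mul] at h
  exact h

theorem B_norm (θ : Φ.Free x) (l : Fin 4) (hl : l ≠ 0) :
    ∑ χ, P.B θ l χ ^ 2 = 2 * (Nat.card Φ.Phi : ℤ) + P.s θ := by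
  simp only [pow_two]
  rw [P.sum_BB, filter_rot hl hl ((rotL_self 0 l hl).2 rfl), Finset.sum_singleton]
  rfl

theorem B_norm_le (θ : Φ.Free x) : ∑ χ, P.B θ 0 χ ^ 2 ≤ 6 * (Nat.card Φ.Phi : ℤ) + 3 * P.s θ := by
  simp only [pow_two]
  rw [P.sum_BB, filter_rot_zero, Fin.sum_univ_three]
  have hb : ∀ a, ((Φ.fib θ.1 θ.1 a).card : ℤ) ≤ (P.s θ : ℤ) := fun a => by
    exact_mod_cast Φ.card_fib_le θ.1 θ.1 a
  linarith [hb 0, hb 1, hb 2]

theorem B_mixed (θ : Φ.Free x) (l : Fin 4) (hl : l ≠ 0) : ∑ χ, P.B θ l χ * P.B θ 0 χ = 0 := by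
  rw [P.sum_BB, filter_rot_mixed hl, Finset.sum_empty]

theorem BF (θ : Φ.Free x) (θ' : Φ.Fix x) (l l' : Fin 4) (ν : Φ.Phi →* ℂˣ) :
    ∑ χ, P.B θ l χ * P.F θ' l' ν χ =
      if l = 0 then (if l' = 0 then 6 * (r : ℤ) else 0) else if l' = 0 then 0 else 2 * (r : ℤ) := by
  have h := Φ.inner_mlt P.tame P.mem (one_mem _) (one_mem _) θ'.2.2 (Φ.fixed_one θ.1) θ'.2.1 θ.2.1 l' l ν 1
  rw [if_pos (P.res_one _ _)] at h
  have he : ∀ a, (Φ.fib θ'.1 θ.1 a).card = 0 := fun a =>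
    Finset.card_eq_zero.2 (Finset.eq_empty_of_forall_notMem fun c hc =>
      θ.2.2 ((Φ.fixed_comp P.mem (a, c)).1 (by rw [(Finset.mem_filter.1 hc).2]; exact θ'.2.2)))
  simp only [he, Nat.cast_zero, add_zero, Finset.sum_const, nsmul_eq_mul, P.card_Phi] at h
  rw [Finset.sum_congr rfl fun χ _ => mul_comm (P.B θ l χ) (P.F θ' l' ν χ)]
  refine mul_left_cancel₀ P.o_pos.ne' (h.trans ?_)
  by_cases hl : l = 0 <;> by_cases hl' : l' = 0
  · subst hl hl'; rw [filter_rot_zero]; simp; ring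
  · subst hl; rw [filter_rot_mixed hl', if_pos rfl, if_neg hl']; simp
  · subst hl'
    rw [show (Finset.univ.filter fun a : Fin 3 => rotL a 0 = l) = ∅ from
      Finset.filter_eq_empty_iff.2 fun a _ e => hl (e.symm.trans (rotL_zero_fin a)), if_neg hl, if_pos rfl]
    simp
  · obtain ⟨a, ha, -⟩ := rotL_unique l' l hl' hl
    rw [filter_rot hl' hl ha, if_neg hl, if_neg hl', Finset.card_singleton]
    push_cast
    ring

end Pivot

end Cfsg.Lib.Ree.Three
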