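import Cfsg.Agent.Ree.Three.Coords
import Cfsg.Agent.Ree.Three.Norms
import Cfsg.Agent.Ree.Three.FuncCongr
import Cfsg.Agent.Ree.Three.Cycle
import Cfsg.Agent.Ree.Three.Main
import Cfsg.Agent.Ree.Transfer.LocalSpecProof
import Cfsg.Agent.Ree.Twist.Main
import Cfsg.Agent.Blocks.BrauerTuan.CentralSum

/-!
The index of `E₀` in `E` is not a power of 3 other than 1 unless `q = 27`: the groups give a `Model`, and there is
none.
-/

set_option autoImplicit false
set_option linter.style.haveILetI false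
set_option linter.unusedSectionVars false

namespace Cfsg.Lib.Ree.Three

open Subgroup Cfsg Cfsg.Lib.Chars Cfsg.Lib.Ree
open scoped ComplexConjugate

universe u

attribute [local instance 10] _root_.Classical.propDecidable

theorem list_sum_eq {ι : Type u} [Fintype ι] {L : List ι} (hnd : L.Nodup) (g : ι → ℤ) :
    (L.map g).sum = ∑ χ, if χ ∈ L then g χ else 0 := by
  rw [← List.sum_toFinset g hnd, ← Finset.sum_filter]
  congr 1
  ext a
  simp

variable {G : Type u} [Group G] [Fintype G] {t : G} {E E₀ : Subgroup G} [Fintype E] {k : ℕ}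

namespace Pivot

variable {Φ : TFrame t E E₀ k} {x : G} {r : ℕ} (P : Pivot Φ x r)
include P

theorem three_dvd_e : 3 ∣ Nat.card Φ.Phi := P.card_eq ▸ P.three_dvd.mul_left r

theorem exists_z0 : ∃ z₀ : Φ.Phi, orderOf z₀ = 3 ∧ (z₀ : G) ∈ zpowers x := by
  obtain ⟨d, hd⟩ := P.three_dvd
  have hd0 : d ≠ 0 := fun e => (orderOf_pos x).ne' (by rw [hd, e, mul_zero])
  refine ⟨⟨x ^ d, pow_mem P.mem d⟩, ?_, ⟨(d : ℤ), zpow_natCast x d⟩⟩
  rw [Subgroup.orderOf_mk, orderOf_pow' _ hd0, hd, Nat.gcd_eq_right (dvd_mul_left d 3),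
    Nat.mul_div_cancel _ (Nat.pos_of_ne_zero hd0)]

theorem mem_z0 {z₀ : Φ.Phi} (h0 : orderOf z₀ = 3) {q : Φ.Phi} (hq : q ^ 3 = 1) : q ∈ zpowers z₀ := by
  haveI := Φ.Phi_cyclic
  rcases (Nat.dvd_prime Nat.prime_three).1 (orderOf_dvd_of_pow_eq_one hq) with h | h
  · rw [orderOf_eq_one_iff.1 h]; exact one_mem _
  · exact mem_zpowers_of_order (h.trans h0.symm)

/-- A block is primitive if it is not trivial on the elements of order 3. -/
theorem prim_iff {z₀ : Φ.Phi} (h0 : orderOf z₀ = 3) (ν : Φ.Phi →* ℂˣ) : Function.Injective ν ↔ ν z₀ ≠ 1 := by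
  haveI := Φ.Phi_cyclic
  refine ⟨fun h e => ?_, fun h => (injective_iff_map_eq_one ν).2 fun q hq => ?_⟩
  · have := h (e.trans (map_one ν).symm)
    rw [this, orderOf_one] at h0
    omega
  · by_contra hne
    obtain ⟨A, hA⟩ := P.pow
    obtain ⟨i, -, hi⟩ := (Nat.dvd_prime_pow Nat.prime_three).1 (hA ▸ orderOf_dvd_natCard q)
    have hi0 : i ≠ 0 := fun e => hne (orderOf_eq_one_iff.1 (by rw [hi, e, pow_zero]))
    have h3 : (q ^ 3 ^ (i - 1)) ^ 3 = 1 := by
      rw [← pow_mul, ← pow_succ, Nat.sub_add_cancel (by omega), ← hi, pow_orderOf_eq_one]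
    have ho : orderOf (q ^ 3 ^ (i - 1)) = 3 := by
      refine orderOf_eq_prime (hp := ⟨Nat.prime_three⟩) h3 fun e => ?_
      have := orderOf_dvd_of_pow_eq_one e
      rw [hi, Nat.pow_dvd_pow_iff_le_right (by norm_num)] at this
      omega
    obtain ⟨l, hl⟩ := mem_zpowers_of_order (h0.trans ho.symm)
    refine h ?_
    rw [← hl, map_zpow, map_pow, hq, one_pow, one_zpow]

theorem same_apply {ν ν' : Φ.Phi →* ℂˣ} (h : P.Same ν ν') {q : Φ.Phi} (hq : (q : G) ∈ zpowers x) : ν q = ν' q :=
  DFunLike.congr_fun h ⟨(q : G), hq⟩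

theorem card_prim [Fintype (Φ.Phi →* ℂˣ)] :
    3 * (Finset.univ.filter fun ν : Φ.Phi →* ℂˣ => Function.Injective ν).card = 2 * Nat.card Φ.Phi := by
  obtain ⟨z₀, h0, -⟩ := P.exists_z0
  have h := Φ.fibre_card z₀.2 1
  rw [Subgroup.orderOf_coe, h0] at h
  have hfil : (Finset.univ.filter fun ν : Φ.Phi →* ℂˣ => ¬ Function.Injective ν).card =
      (Finset.univ.filter fun ν : Φ.Phi →* ℂˣ => Φ.res z₀.2 ν = Φ.res z₀.2 1).card := by
    refine congrArg Finset.card (Finset.filter_congr fun ν _ => ?_)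
    rw [P.prim_iff h0, not_ne_iff]
    refine ⟨fun e => MonoidHom.ext fun q => ?_, fun e => ?_⟩
    · obtain ⟨l, hl⟩ := q.2
      rw [TFrame.res_apply, TFrame.res_apply, show (⟨(q : G), zpowers_le.2 z₀.2 q.2⟩ : Φ.Phi) = z₀ ^ l from
        Subtype.ext (by rw [Subgroup.coe_zpow]; exact hl.symm), map_zpow, map_zpow, e, MonoidHom.one_apply]
    · exact DFunLike.congr_fun e ⟨(z₀ : G), mem_zpowers _⟩
  have htot := Finset.card_filter_add_card_filter_not (s := (Finset.univ : Finset (Φ.Phi →* ℂˣ)))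
    (fun ν : Φ.Phi →* ℂˣ => Function.Injective ν)
  haveI := Φ.Phi_cyclic
  letI : CommGroup Φ.Phi := IsCyclic.commGroup
  rw [Finset.card_univ, ← Nat.card_eq_fintype_card, CommGroup.card_monoidHom_of_hasEnoughRootsOfUnity] at htot
  rw [hfil] at htot
  have h' : 3 * (Finset.univ.filter fun ν : Φ.Phi →* ℂˣ => Φ.res z₀.2 ν = Φ.res z₀.2 1).card = Nat.card Φ.Phi := by
    convert h using 3
    ext ν
    simp
  omega

end Pivot

theorem card_dual (Φ : TFrame t E E₀ k) [Fintype (Φ.Phi →* ℂˣ)] :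
    Fintype.card (Φ.Phi →* ℂˣ) = Nat.card Φ.Phi := by
  haveI := Φ.Phi_cyclic
  letI : CommGroup Φ.Phi := IsCyclic.commGroup
  rw [← Nat.card_eq_fintype_card, CommGroup.card_monoidHom_of_hasEnoughRootsOfUnity]

theorem powPerm_iterate {j : ℕ} (hj : j.Coprime (Nat.card G)) (χ : IrrCharacter G) (n : ℕ) (g : G) :
    (((powPerm hj)^[n] χ : IrrCharacter G) : G → ℂ) g = (χ : G → ℂ) (g ^ j ^ n) := by
  induction n generalizing g with
  | zero => simp
  | succ n ih => rw [Function.iterate_succ_apply', powPerm_apply, ih, ← pow_mul, pow_succ']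

section Build

variable {F : Type} [Field F] [Fintype F] (Φ : TFrame t E E₀ k)

/-- **There is no such group.** -/
theorem model_false (S : Twist.Setting t E E₀ F) (h8 : Fintype.card F % 8 = 3)
    (hq : ∃ n, Fintype.card F = 3 ^ n) (hbig : 19683 ≤ Fintype.card F) (hk : 4 * k = Fintype.card F + 1)
    (hcard : Nat.card Φ.Phi = E₀.relIndex E) {x : G} {r : ℕ} (P : Pivot Φ x r) {M : Ideal AlgInt}
    (hM : IsPModular 2 M) {T : Twist.KTable E M} (TF : Field.TwistFacts t E E₀ F T) : False := by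
  haveI := Φ.dual_finite
  letI : Fintype (Φ.Phi →* ℂˣ) := Fintype.ofFinite _
  obtain ⟨C⟩ := exists_coords Φ S h8 (by omega) TF
  choose u hu using fun χ : IrrCharacter G =>
    Cfsg.Lib.Blocks.BrauerTuan.exists_int_apply_sq_one (isCharacter_of_irr χ.2) S.tt
  obtain ⟨z₀, hz₀, hz₀x⟩ := P.exists_z0
  have htame := P.tame
  have he3 := P.three_dvd_e
  have hk3 : ¬ 3 ∣ k := fun h => by
    have := Nat.dvd_gcd h he3
    rw [Φ.k_cop] at this
    omega
  have hkG : k ∣ Nat.card G :=
    Φ.card_K.subst (motive := fun n => n ∣ Nat.card G) (Subgroup.card_subgroup_dvd_card _)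
  have hQ : signedCard F = -(Fintype.card F : ℤ) := by rw [signedCard, if_neg (by omega)]
  set h : ℤ := ((Subgroup.centralizer ({t} : Set G)).index : ℤ) with hh
  have hox := orderOf_pos x
  -- the coordinates
  have hF : ∀ (θ : Φ.Fix x) l ν χ, (P.F θ l ν χ : ℂ) = Φ.mC x l θ.1 (Φ.res P.mem ν) χ :=
    fun θ l ν χ => Φ.mlt_spec P.mem _ θ.2.2 χ
  have hB : ∀ (θ : Φ.Free x) l χ, (P.B θ l χ : ℂ) = Φ.mC 1 l θ.1 (Φ.res (one_mem _) 1) χ :=
    fun θ l χ => Φ.mlt_spec (one_mem _) _ (Φ.fixed_one θ.1) χ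
  have hrow : ∀ ν, ∀ χ ∈ (C.rows ν).L, (((C.rows ν).sg χ * rowUs ((C.rows ν).row χ) : ℤ) : ℂ) =
      -coord t E χ (Twist.twist (Φ.mu ν) T.x) + coord t E χ (Twist.twist (Φ.mu ν) T.al) +
        coord t E χ (Twist.twist (Φ.mu ν) T.be) := fun ν χ hχ => by
    obtain ⟨e1, e2, e3⟩ := (C.rows ν).coords χ hχ
    rw [e1, e2, e3, rowUs]
    push_cast
    ring
  have hlist : ∀ (ν' : Φ.Phi →* ℂˣ) (f : IrrCharacter G → ℤ),
      (((C.rows ν').L.map fun χ => f χ * ((C.rows ν').sg χ * ((C.rows ν').row χ).1)).sum : ℂ) =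
          ∑ χ, (f χ : ℂ) * coord t E χ (Twist.twist (Φ.mu ν') T.x) ∧
      (((C.rows ν').L.map fun χ => f χ * ((C.rows ν').sg χ * ((C.rows ν').row χ).2.1)).sum : ℂ) =
          ∑ χ, (f χ : ℂ) * coord t E χ (Twist.twist (Φ.mu ν') T.al) ∧
      (((C.rows ν').L.map fun χ => f χ * ((C.rows ν').sg χ * ((C.rows ν').row χ).2.2)).sum : ℂ) =
          ∑ χ, (f χ : ℂ) * coord t E χ (Twist.twist (Φ.mu ν') T.be) := by
    intro ν' f
    refine ⟨?_, ?_, ?_⟩ <;>
    · rw [list_sum_eq (C.rows ν').nodup, Int.cast_sum]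
      refine Finset.sum_congr rfl fun χ _ => ?_
      obtain ⟨e1, e2, e3⟩ := C.coord_eq ν' χ
      simp only [e1, e2, e3, Coords.crd]
      split_ifs <;> push_cast <;> ring
  have hBone : ∀ ν ν' : Φ.Phi →* ℂˣ, Φ.res (one_mem Φ.Phi) ν = Φ.res (one_mem Φ.Phi) ν' := P.res_one
  -- the multiplicities of all the functions at `1`
  have hall : ∀ (χ : IrrCharacter G) (l : Fin 4) (α : ℤ), (∀ θ, P.B θ l χ = α) →
      (∀ θ, ∑ ν', P.F θ l ν' χ = (r : ℤ) * α) →
      ∀ θ : Φ.K →* ℂˣ, θ ≠ 1 → Φ.mC 1 l θ (Φ.res (one_mem _) 1) χ = α := by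
    intro χ l α h1 h2 θ hθ
    by_cases hfix : Φ.Fixed x θ
    · have hs := Φ.sum_mC_blk P.mem (θ := θ) l χ
      have h3 : ∑ ν, Φ.mC x l θ (Φ.res P.mem ν) χ = (r : ℂ) * α := by
        rw [Finset.sum_congr rfl fun ν _ => (hF ⟨θ, hθ, hfix⟩ l ν χ).symm, ← Int.cast_sum, h2]
        push_cast; rfl
      rw [h3, show (Nat.card Φ.Phi : ℂ) = (r : ℂ) * (orderOf x : ℂ) by exact_mod_cast P.card_eq.symm] at hs
      have hr0 : (r : ℂ) ≠ 0 := by rcases P.r_cases with e | e <;> simp [e]
      refine mul_left_cancel₀ (mul_ne_zero hr0 (Φ.o_ne x)) ?_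
      linear_combination -hs
    · rw [← hB ⟨θ, hθ, hfix⟩, h1]
  -- the Galois group
  let Gal : Type u := ULift.{u} {j : ℕ // j.Coprime (Nat.card G) ∧ Odd j ∧ j ≡ 1 [MOD k]}
  have hθj : ∀ g : Gal, ∀ (θ : Φ.K →* ℂˣ) (y : Φ.K), θ y ^ g.down.1 = θ y := fun g θ y => by
    conv_rhs => rw [← pow_one (θ y)]
    exact pow_eq_pow_of_modEq g.down.2.2.2 (Φ.theta_pow θ y)
  choose sw hsw using fun g : Gal => exists_gal_swap Φ g.down.2.1 g.down.2.2.1 hM S hq TF
  obtain ⟨γ, hγ⟩ := (inferInstance : Nonempty {c : ℂ // c = (Nat.card Φ.Phi : ℂ) *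
    (-(signedCard F : ℂ)) * ((signedCard F : ℂ) ^ 2 - 1) / (h : ℂ)})
  have hh0 : (h : ℂ) ≠ 0 := by
    rw [hh, Int.cast_natCast]; exact_mod_cast Subgroup.index_ne_zero_of_finite
  have hcountγ : (Nat.card (Subgroup.centralizer ({t} : Set G)) : ℂ) ^ 2 / (Nat.card G : ℂ) = γ := by
    have hC : (h : ℂ) * (Nat.card (Subgroup.centralizer ({t} : Set G)) : ℂ) = (Nat.card G : ℂ) := by
      rw [hh, Int.cast_natCast]; exact_mod_cast Subgroup.index_mul_card _
    have ho := order_eq Φ S h8 hcard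
    have hG : (Nat.card G : ℂ) = (h : ℂ) * (Nat.card Φ.Phi : ℂ) * (-(signedCard F : ℂ)) *
        ((signedCard F : ℂ) ^ 2 - 1) := by
      have e : ((Nat.card G : ℕ) : ℤ) = h * (Nat.card Φ.Phi : ℤ) * (-signedCard F) * (signedCard F ^ 2 - 1) := by
        rw [← ho, ← sum_deg_sq_nat]
        push_cast
        rfl
      have e' := congrArg (fun z : ℤ => (z : ℂ)) e
      push_cast at e'
      exact e'
    have hG0 : (Nat.card G : ℂ) ≠ 0 := by exact_mod_cast Nat.card_pos.ne'
    rw [hγ, div_eq_div_iff hG0 hh0]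
    linear_combination (Nat.card (Subgroup.centralizer ({t} : Set G)) : ℂ) * hC +
      (Nat.card (Subgroup.centralizer ({t} : Set G)) : ℂ) * hG +
      ((Nat.card Φ.Phi : ℂ) * (-(signedCard F : ℂ)) * ((signedCard F : ℂ) ^ 2 - 1)) * hC
  exact modelSpec.{u}
    { Irr := IrrCharacter G
      Blk := Φ.Phi →* ℂˣ
      Fix := Φ.Fix x
      Free := Φ.Free x
      Q := signedCard F
      h := h
      e := Nat.card Φ.Phi
      r := r
      ox := orderOf x
      k := k
      base := base_three S h8 hq (by omega)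
      r_cases := P.r_cases
      e_eq := P.card_eq.symm
      three_dvd := P.three_dvd
      ox_pos := hox
      k_eq := by rw [hQ]; omega
      k_odd := Φ.k_odd
      d := fun χ => (deg (χ : G → ℂ) : ℤ)
      u := u
      d_pos := fun χ => by exact_mod_cast deg_irr_pos χ
      order := order_eq Φ S h8 hcard
      Prim := fun ν => Function.Injective ν
      Same := P.Same
      same_equiv := ⟨fun _ => rfl, Eq.symm, Eq.trans⟩
      same_prim := fun ν ν' hs => by rw [P.prim_iff hz₀, P.prim_iff hz₀, P.same_apply hs hz₀x]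
      card_same := fun ν => by
        have h1 := Φ.fibre_card P.mem ν
        have h2 : (Finset.univ.filter fun ν' => P.Same ν ν') =
            Finset.univ.filter fun ρ => Φ.res P.mem ρ = Φ.res P.mem ν :=
          Finset.filter_congr fun ρ _ => ⟨Eq.symm, Eq.symm⟩
        rw [← P.card_eq, mul_comm r] at h1
        convert Nat.eq_of_mul_eq_mul_left hox h1 using 2
        convert h2
      card_blk := card_dual Φ
      card_prim := by convert P.card_prim
      L := fun ν => (C.rows ν).L
      row := fun ν => (C.rows ν).row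
      sg := fun ν => (C.rows ν).sg
      nodup := fun ν => (C.rows ν).nodup
      kind := fun ν => (C.rows ν).kind
      sg_sq := fun ν => (C.rows ν).sg_sq
      disjoint := C.disjoint TF
      at_t := fun ν χ hχ => Int.cast_injective (α := ℂ) ((hu χ).symm.trans ((C.rows ν).at_t χ hχ))
      congr := fun ν => (C.rows ν).congr
      dvd := fun ν => (C.rows ν).dvd
      cols := fun ν => (C.rows ν).cols
      counts := fun ν => (C.rows ν).counts
      linear := fun ν hν χ hχ hd => C.linear TF S (fun e => (P.prim_iff hz₀ ν).1 hν (by rw [e]; rfl)) hχ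
        (by exact_mod_cast hd)
      F := P.F
      B := P.B
      θ₀ := P.theta
      free_ne := P.free_ne
      s := P.s
      s_le := P.s_le
      F_same := fun θ l ν ν' hs => P.F_same θ l ν ν' hs
      F_orth := P.F_orth
      F_norm := P.F_norm
      F_norm_zero := P.F_norm_zero
      F_norm_le := P.F_norm_le
      F_mixed := P.F_mixed
      F_pair := P.F_pair
      F_conj := P.F_conj
      B_norm := P.B_norm
      B_norm_le := P.B_norm_le
      B_mixed := P.B_mixed
      BF := P.BF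
      F_target := fun θ l ν ν' => by
        obtain ⟨a, b, c⟩ := Φ.sum_mC_coord P.mem S hq h8 hk htame TF θ.2.2 θ.2.1 l ν ν'
        obtain ⟨ea, eb, ec⟩ := hlist ν' fun χ => P.F θ l ν χ
        simp only [← hF] at a b c
        refine ⟨Int.cast_injective (α := ℂ) ?_, Int.cast_injective (α := ℂ) ?_, Int.cast_injective (α := ℂ) ?_⟩
        · rw [ea, a, Int.cast_zero]
        · rw [eb, b]
          by_cases hs : P.Same ν ν'
          · rw [if_pos hs, if_pos (Eq.symm hs)]
          · rw [if_neg hs, if_neg (fun e => hs (Eq.symm e)), Int.cast_zero]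
        · rw [ec, c]
          by_cases hs : P.Same ν ν'
          · rw [if_pos hs, if_pos (Eq.symm hs)]
          · rw [if_neg hs, if_neg (fun e => hs (Eq.symm e)), Int.cast_zero]
      B_target := fun θ l ν' => by
        obtain ⟨a, b, c⟩ := Φ.sum_mC_coord (one_mem _) S hq h8 hk htame TF (Φ.fixed_one θ.1) θ.2.1 l 1 ν'
        obtain ⟨ea, eb, ec⟩ := hlist ν' fun χ => P.B θ l χ
        simp only [← hB, if_pos (hBone ν' 1)] at a b c
        exact ⟨Int.cast_injective (α := ℂ) (by rw [ea, a, Int.cast_zero]),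
          Int.cast_injective (α := ℂ) (by rw [eb, b]), Int.cast_injective (α := ℂ) (by rw [ec, c])⟩
      F_diff := fun θ l ν ν' hl χ hχ => by
        apply Int.cast_injective (α := ℂ)
        rw [hF, Φ.mC_diff P.mem S hq h8 hk htame TF θ.2.2 θ.2.1 hl ν ν' χ (C.crd_coord_ne hχ), ← hrow ν' χ hχ,
          Int.cast_add, hF]
        congr 1
        by_cases hs : P.Same ν ν'
        · rw [if_pos hs, if_pos (Eq.symm hs)]
        · rw [if_neg hs, if_neg (fun e => hs (Eq.symm e)), Int.cast_zero]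
      B_diff := fun θ l ν' hl χ hχ => by
        apply Int.cast_injective (α := ℂ)
        rw [hB, Φ.mC_diff (one_mem _) S hq h8 hk htame TF (Φ.fixed_one θ.1) θ.2.1 hl 1 ν' χ (C.crd_coord_ne hχ),
          if_pos (hBone ν' 1), ← hrow ν' χ hχ, Int.cast_add, hB]
      F_t := fun θ l ν => by
        apply Int.cast_injective (α := ℂ)
        push_cast
        simp only [hF, ← hu]
        exact Φ.sum_mC_invol P.mem θ.2.2 l _ S.tt
      F_one := fun θ l ν => by
        apply Int.cast_injective (α := ℂ)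
        push_cast
        simp only [hF, ← irr_apply_one_eq_deg]
        exact Φ.sum_mC_invol P.mem θ.2.2 l _ (one_mul 1)
      B_t := fun θ l => by
        apply Int.cast_injective (α := ℂ)
        push_cast
        simp only [hB, ← hu]
        exact Φ.sum_mC_invol (one_mem _) (Φ.fixed_one θ.1) l _ S.tt
      F_count := fun θ l ν => by
        apply Rat.cast_injective (α := ℂ)
        have h1 := Φ.sum_mC_count P.mem S htame θ.2.2 θ.2.1 l ν
        rw [hcountγ, hγ] at h1
        push_cast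
        rw [Finset.sum_congr rfl fun χ _ => show (P.F θ l ν χ : ℂ) * (u χ : ℂ) ^ 2 / (deg (χ : G → ℂ) : ℂ) =
          (χ : G → ℂ) t ^ 2 * Φ.mC x l θ.1 (Φ.res P.mem ν) χ / (χ : G → ℂ) 1 by
            rw [hF, hu, irr_apply_one_eq_deg, mul_comm], h1,
          show (Nat.card Φ.Phi : ℂ) = (r : ℂ) * (orderOf x : ℂ) by exact_mod_cast P.card_eq.symm]
        have hk' : 4 * (k : ℂ) = 1 - (signedCard F : ℂ) := by
          rw [hQ]; push_cast; rw [sub_neg_eq_add, add_comm]; exact_mod_cast hk
        have := Φ.o_ne x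
        split_ifs with hl
        · push_cast
          field_simp
          linear_combination ((signedCard F : ℂ) * ((signedCard F : ℂ) ^ 2 - 1) * (r : ℂ)) * hk'
        · simp
      congr_member := fun ν χ hχ α h1 h2 =>
        Φ.congr_member S hq h8 hk htame TF ν χ (C.crd_coord_ne hχ) _ α (hrow ν χ hχ) (hall χ 1 α h1 h2)
      congr_out := fun χ α h1 h2 => Φ.congr_out htame χ (u χ) α (hu χ)
        fun θ hθ l => hall χ l α (fun θ => h1 θ l) (fun θ => h2 θ l) θ hθ
      Gal := Gal
      perm := fun g => powPerm g.down.2.1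
      bperm := fun g => bpow Φ g.down.2.1
      swap := sw
      gal_d := fun g χ => by
        apply Int.cast_injective (α := ℂ)
        push_cast
        rw [← irr_apply_one_eq_deg, ← irr_apply_one_eq_deg, powPerm_one]
      gal_u := fun g χ => by
        apply Int.cast_injective (α := ℂ)
        rw [← hu, ← hu, powPerm_sq _ g.down.2.2.1 _ S.tt]
      gal_mem := fun g ν χ => (hsw g C ν χ).1
      gal_row := fun g ν χ hχ => (hsw g C ν χ).2 hχ
      gal_prim := fun g ν => bpow_injective_iff Φ g.down.2.1 ν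
      gal_same := fun g ν ν' => by
        have hco : (Nat.card (zpowers x)).Coprime g.down.1 :=
          (coprime_E (zpowers x) g.down.2.1).symm
        show Φ.res P.mem _ = Φ.res P.mem _ ↔ Φ.res P.mem ν = Φ.res P.mem ν'
        constructor <;> intro e <;> refine MonoidHom.ext fun q => ?_
        · obtain ⟨q', rfl⟩ := (powCoprime hco).surjective q
          have := DFunLike.congr_fun e q'
          simp only [TFrame.res_apply, bpow_apply] at this
          show Φ.res P.mem ν (q' ^ g.down.1) = Φ.res P.mem ν' (q' ^ g.down.1)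
          rw [map_pow, map_pow]
          exact this
        · have := DFunLike.congr_fun e q
          simp only [TFrame.res_apply, bpow_apply] at this ⊢
          rw [this]
      gal_F := fun g θ l ν χ => by
        apply Int.cast_injective (α := ℂ)
        rw [hF, hF]
        refine Φ.mC_pow (Φ.ext_Phi P.mem) _ _ (fun w w' e => ?_) θ.2.2 g.down.2.1 g.down.2.2.1 (hθj g θ.1)
          (fun q => rfl) χ
        rw [← (Φ.V_comm_Phi (Φ.vel_mem w) P.mem).eq, mul_inv_cancel_right] at e
        rw [Φ.vel_injective e]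
      gal_B := fun g θ l χ => by
        apply Int.cast_injective (α := ℂ)
        rw [hB, hB]
        refine Φ.mC_pow (Φ.ext_Phi (one_mem _)) _ _ (fun w w' e => ?_) (Φ.fixed_one θ.1) g.down.2.1 g.down.2.2.1
          (hθj g θ.1) (fun q => by simp [TFrame.res_apply]) χ
        rw [one_mul, inv_one, mul_one] at e
        rw [Φ.vel_injective e]
      gal_trans := fun ν ν' hν hν' => by
        haveI := Φ.Phi_cyclic
        obtain ⟨p, hp⟩ := IsCyclic.exists_generator (α := Φ.Phi)
        have hpe : orderOf p = Nat.card Φ.Phi := orderOf_eq_card_of_forall_mem_zpowers hp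
        have hprim : IsPrimitiveRoot (ν p : ℂ) (Nat.card Φ.Phi) := by
          rw [IsPrimitiveRoot.iff_orderOf, orderOf_units, orderOf_injective ν hν, hpe]
        haveI : NeZero (Nat.card Φ.Phi) := ⟨Nat.card_pos.ne'⟩
        obtain ⟨c, -, hc⟩ := hprim.eq_pow_of_pow_eq_one (ξ := (ν' p : ℂ)) (by
          rw [← Units.val_pow_eq_pow_val, ← map_pow, ← hpe, pow_orderOf_eq_one, map_one, Units.val_one])
        have hc' : ν' p = ν p ^ c := Units.ext (by rw [Units.val_pow_eq_pow_val]; exact hc.symm)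
        have hpow : ∀ q, ν' q = ν q ^ c := fun q => by
          obtain ⟨l, rfl⟩ := hp q
          rw [map_zpow, map_zpow, hc', ← zpow_natCast, ← zpow_natCast, zpow_comm]
        have hc3 : ¬ 3 ∣ c := fun ⟨d, hd⟩ => (P.prim_iff hz₀ ν').1 hν' (by
          rw [hpow, hd, ← map_pow, pow_mul, show z₀ ^ 3 = 1 from hz₀ ▸ pow_orderOf_eq_one z₀, one_pow, map_one])
        obtain ⟨A, hA⟩ := P.pow
        obtain ⟨j, hj, hodd, hjc, hj1, -⟩ := exists_exp (n := Nat.card G) (A := A) Nat.card_pos.ne' c hc3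
          (hA ▸ Subgroup.card_subgroup_dvd_card Φ.Phi) (Φ.t_ord ▸ orderOf_dvd_natCard t)
        refine ⟨⟨⟨j, hj, hodd, hj1 k hkG hk3⟩⟩, MonoidHom.ext fun q => ?_⟩
        show ν q ^ j = ν' q
        rw [hpow]
        exact pow_eq_pow_of_modEq hjc (by rw [← map_pow, ← hA, pow_card_eq_one', map_one])
      cycle := fun hr => by
        haveI := Φ.Phi_cyclic
        obtain ⟨p, hp⟩ := IsCyclic.exists_generator (α := Φ.Phi)
        have hpe : orderOf p = Nat.card Φ.Phi := orderOf_eq_card_of_forall_mem_zpowers hp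
        have heo : 3 * orderOf x = Nat.card Φ.Phi := by rw [← P.card_eq, hr]
        obtain ⟨A, hA⟩ := P.pow
        obtain ⟨j, hj, hodd, hjc, hj1, hjit⟩ := exists_exp (n := Nat.card G) (A := A) Nat.card_pos.ne'
          (1 + orderOf x) (fun h => by have := P.three_dvd; omega)
          (hA ▸ Subgroup.card_subgroup_dvd_card Φ.Phi) (Φ.t_ord ▸ orderOf_dvd_natCard t)
        rw [← hA] at hjc
        obtain ⟨s, hs⟩ := hjit (by
          obtain ⟨d, hd⟩ := P.three_dvd
          rw [hd]
          show (1 + 3 * d) % 3 = 1 % 3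
          omega)
        have hj1k := hj1 k hkG hk3
        have hpowe : ∀ q : Φ.Phi, q ^ Nat.card Φ.Phi = 1 := fun q => pow_card_eq_one'
        have hmul : ∀ (ν : Φ.Phi →* ℂˣ) (q : Φ.Phi), ν q ^ j = ν q * ν (q ^ orderOf x) := fun ν q => by
          rw [map_pow]
          conv_rhs => arg 1; rw [← pow_one (ν q)]
          rw [← pow_add]
          exact pow_eq_pow_of_modEq hjc (by rw [← map_pow, hpowe, map_one])
        have hcube : ∀ q : Φ.Phi, (q ^ orderOf x) ^ 3 = 1 := fun q => by
          rw [← pow_mul, mul_comm, heo, hpowe]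
        refine ⟨⟨⟨j, hj, hodd, hj1k⟩⟩, fun ν => ?_, fun ν hν => MonoidHom.ext fun q => ?_, fun ν hν => ?_,
          ⟨s, funext fun χ => Subtype.ext (funext fun g => ?_)⟩, fun θ ν χ hν hχ => ?_⟩
        · refine MonoidHom.ext fun q => ?_
          rw [TFrame.res_apply, TFrame.res_apply, bpow_apply, hmul,
            show (⟨(q : G), zpowers_le.2 P.mem q.2⟩ : Φ.Phi) ^ orderOf x = 1 from Subtype.ext (by
              rw [Subgroup.coe_pow]
              exact orderOf_dvd_iff_pow_eq_one.1 (orderOf_dvd_of_mem_zpowers q.2)), map_one, mul_one]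
        · show ν q ^ j = ν q
          rw [hmul]
          obtain ⟨l, hl⟩ := P.mem_z0 hz₀ (hcube q)
          rw [← hl, map_zpow, not_ne_iff.1 fun h => hν ((P.prim_iff hz₀ ν).2 h), one_zpow, mul_one]
        · set τ := bpow Φ (⟨⟨j, hj, hodd, hj1k⟩⟩ : Gal).down.2.1
          have hox3 : p ^ orderOf x ≠ 1 := fun e => by
            have := Nat.le_of_dvd hox (hpe ▸ orderOf_dvd_of_pow_eq_one e)
            omega
          have hu1 : ν (p ^ orderOf x) ≠ 1 := fun e => hox3 (hν (e.trans (map_one ν).symm))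
          have hu2 : ν (p ^ orderOf x) * ν (p ^ orderOf x) ≠ 1 := fun e => hu1 (by
            have e3 : ν (p ^ orderOf x) ^ 3 = 1 := by rw [← map_pow, hcube, map_one]
            rw [pow_succ, pow_two, e, one_mul] at e3
            exact e3)
          have h1 : τ ν p = ν p * ν (p ^ orderOf x) := (bpow_apply Φ _ ν p).trans (hmul ν p)
          have h2 : τ (τ ν) p = ν p * (ν (p ^ orderOf x) * ν (p ^ orderOf x)) := by
            rw [bpow_apply, h1, mul_pow, hmul, hmul]
            have e0 : ((p ^ orderOf x) ^ orderOf x) = 1 := by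
              obtain ⟨d, hd⟩ := P.three_dvd
              rw [← pow_mul, show orderOf x * orderOf x = 3 * orderOf x * d by rw [hd]; ring, heo, pow_mul,
                hpowe, one_pow]
            rw [e0, map_one, mul_one, mul_assoc]
          have n1 : τ ν ≠ ν := fun e => hu1 (mul_eq_left.1 (h1.symm.trans (by rw [e])))
          have n2 : τ (τ ν) ≠ ν := fun e => hu2 (mul_eq_left.1 (h2.symm.trans (by rw [e])))
          have n3 : τ (τ ν) ≠ τ ν := fun e => n1 (τ.injective e)
          refine ⟨n1, n2, fun ν' hν' => ?_⟩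
          have hsame : ∀ ν₁, P.Same ν₁ (τ ν₁) := fun ν₁ => MonoidHom.ext fun q => by
            rw [TFrame.res_apply, TFrame.res_apply, bpow_apply, hmul,
              show (⟨(q : G), zpowers_le.2 P.mem q.2⟩ : Φ.Phi) ^ orderOf x = 1 from Subtype.ext (by
                rw [Subgroup.coe_pow]
                exact orderOf_dvd_iff_pow_eq_one.1 (orderOf_dvd_of_mem_zpowers q.2)), map_one, mul_one]
          set R := Finset.univ.filter fun ρ => Φ.res P.mem ρ = Φ.res P.mem ν
          have hR : R.card = 3 := by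
            have h1 := (Φ.fibre_card P.mem ν).trans (heo.symm.trans (mul_comm _ _))
            convert Nat.eq_of_mul_eq_mul_left hox h1 using 2
            ext ρ
            simp [R]
          have hsub : ({ν, τ ν, τ (τ ν)} : Finset (Φ.Phi →* ℂˣ)) ⊆ R := by
            intro ρ hρ
            simp only [Finset.mem_insert, Finset.mem_singleton] at hρ
            refine Finset.mem_filter.2 ⟨Finset.mem_univ _, ?_⟩
            rcases hρ with rfl | rfl | rfl
            · rfl
            · exact (hsame ν).symm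
            · exact ((hsame ν).trans (hsame _)).symm
          have hcard3 : ({ν, τ ν, τ (τ ν)} : Finset (Φ.Phi →* ℂˣ)).card = 3 := by
            rw [Finset.card_insert_of_notMem (by simp [n1.symm, n2.symm]),
              Finset.card_insert_of_notMem (by simp [n3.symm]), Finset.card_singleton]
          have hmem : ν' ∈ R := Finset.mem_filter.2 ⟨Finset.mem_univ _, Eq.symm hν'⟩
          rw [← Finset.eq_of_subset_of_card_le hsub (by rw [hR, hcard3])] at hmem
          simpa only [Finset.mem_insert, Finset.mem_singleton] using hmem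
        · show (((powPerm hj)^[3 ^ s] χ : IrrCharacter G) : G → ℂ) g = (χ : G → ℂ) g
          rw [powPerm_iterate, show g ^ j ^ 3 ^ s = g by
            conv_rhs => rw [← pow_one g]
            exact pow_eq_pow_of_modEq hs pow_card_eq_one']
        · obtain ⟨h7, hsev⟩ := P.seven hr
          have hpx : (p : G) ∉ zpowers x := fun hmem => by
            have := Nat.le_of_dvd hox (orderOf_dvd_of_mem_zpowers hmem)
            rw [Subgroup.orderOf_coe, hpe] at this
            omega
          obtain ⟨i, hi, hcomm⟩ := hsev p p.2 hpx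
          set i' : Fin 3 := ⟨i, by omega⟩
          have hfz : Φ.Fixed (Φ.m ^ (i' : ℕ) * p) θ.1 := by
            have hrep : Φ.rep (i', false, p) = Φ.m ^ (i' : ℕ) * p := by rw [TFrame.rep]; simp
            have e := Φ.fixed_ext P.mem ((Φ.fixed_comp P.mem (i', false, p)).2 θ.2.2) θ.2.2 fun y hy => by
              rw [MonoidHom.comp_apply]
              refine congrArg θ.1 (Subtype.ext ?_)
              rw [TFrame.act_coe, hrep]
              show Φ.m ^ i * (p : G) * y * (Φ.m ^ i * (p : G))⁻¹ = y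
              rw [(hcomm y y.2 hy).eq, mul_inv_cancel_right]
            intro y y' hyy
            rw [show y' = Φ.act (i', false, p) y from Subtype.ext (by rw [TFrame.act_coe, hrep]; exact hyy.symm)]
            exact DFunLike.congr_fun e y
          obtain ⟨n, hn⟩ := Φ.mC_dvd_three P.mem p.2 (fun q hq => by
              obtain ⟨l, hl⟩ := hp ⟨q, hq⟩
              exact ⟨l, by simpa using congrArg Subtype.val hl⟩)
            (i := i') (fun e => by have := congrArg Fin.val e; simp [i'] at this; omega) heo P.three_dvd hfz ν hν hj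
            hodd (hθj ⟨⟨j, hj, hodd, hj1k⟩⟩ θ.1) hjc χ hχ
          exact ⟨n, Int.cast_injective (α := ℂ) (by rw [hF, hn]; push_cast; rfl)⟩ }

end Build

/-- **The index is a power of 3.** -/
theorem threeSpec : Field.ThreeSpec.{u} := by
  intro G _ _ t E E₀ F _ _ J hind hne h3 h27
  letI : Fintype G := Fintype.ofFinite G
  letI : Fintype E := Fintype.ofFinite E
  obtain ⟨h8, hq, hbig, Φ, x, r, hcard, P⟩ := exists_pivot J hind hne h3 h27
  have S := Twist.of_jr J
  have hab : ∀ a ∈ E, ∀ b ∈ E, a * b * a⁻¹ * b⁻¹ ∈ E₀ := fun a ha b hb => by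
    have hp : Φ.proj (⟨a, ha⟩ * ⟨b, hb⟩ * ⟨a, ha⟩⁻¹ * ⟨b, hb⟩⁻¹ : E) = 1 := by
      rw [map_mul, map_mul, map_mul, map_inv, map_inv]
      exact Subtype.ext (by
        push_cast
        rw [(Φ.Phi_comm (Φ.proj ⟨a, ha⟩).2 (Φ.proj ⟨b, hb⟩).2).eq]
        group)
    have h := (Φ.decomp (⟨a, ha⟩ * ⟨b, hb⟩ * ⟨a, ha⟩⁻¹ * ⟨b, hb⟩⁻¹ : E)).choose_spec
    rw [show (Φ.decomp _).choose = 1 from hp, OneMemClass.coe_one, inv_one, mul_one] at h
    simpa using h
  obtain ⟨M, hM⟩ := Cfsg.Lib.Blocks.exists_isPModular (p := 2) Nat.prime_two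
  obtain ⟨T, TF⟩ := Field.twistSpec G t E E₀ F S hab M hM
  exact model_false Φ S h8 hq hbig (Nat.mul_div_cancel' (by omega : 4 ∣ Fintype.card F + 1)) hcard P hM TF

end Cfsg.Lib.Ree.Three
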