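import Cfsg.Agent.Ree.Three.Spec

/-!
The configurations A of the arithmetic for `E ≠ E₀`: with eight members `Z' = a Q³`, with seven it does not occur.
-/

set_option autoImplicit false
set_option linter.unusedSectionVars false

namespace Cfsg.Lib.Ree.Three

open Cfsg

namespace Base

variable {Q h : ℤ} (B : Base Q h)
include B

theorem two_mid : 2 * midVal Q = Q + 1 := by
  have := B.mod_eight; unfold midVal; omega

theorem four_k : 4 * ((Q - 1) / 4) = Q - 1 := by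
  have := B.mod_eight; omega

theorem mid_eq : midVal Q = 2 * ((Q - 1) / 4) + 1 := by
  have := B.two_mid; have := B.four_k; omega

theorem cop_mid : IsCoprime (midVal Q) Q := ⟨2, -1, by have := B.two_mid; linarith⟩

theorem cop_k : IsCoprime ((Q - 1) / 4) Q := ⟨-4, 1, by have := B.four_k; linarith⟩

theorem cop_eight : IsCoprime ((8 : ℕ) : ℤ) ((Q - 1) / 4) := by
  have ho : Odd ((Q - 1) / 4) := Int.odd_iff.2 (by have := B.mod_eight; omega)
  obtain ⟨m, hm⟩ := ho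
  rw [Int.isCoprime_iff_gcd_eq_one, show ((8 : ℕ) : ℤ) = ((2 ^ 3 : ℕ) : ℤ) by norm_num, Int.gcd, Int.natAbs_natCast]
  refine Nat.Coprime.pow_left 3 ((Nat.prime_two.coprime_iff_not_dvd).2 fun hd => ?_)
  omega

theorem h_ne : h ≠ 0 := B.pos.ne'

theorem Q_ne : Q ≠ 0 := by have := B.big; omega

theorem mid_ne : midVal Q ≠ 0 := by have := B.big; have := B.two_mid; omega

end Base

variable {Q h a b D5 D6 D7 D8 Z Z' : ℤ}

/-- The first configuration. -/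
theorem eightASpec : EightASpec := by
  intro Q h a b D5 D6 D7 D8 Z Z' X
  obtain ⟨na, nb, n5, n6, n7, n8, nZ, nZ'⟩ := X.ne
  have hb := X.toBase
  set M := midVal Q with hM
  have qa : (a : ℚ) ≠ 0 := by exact_mod_cast na
  have qb : (b : ℚ) ≠ 0 := by exact_mod_cast nb
  have qZ : (Z : ℚ) ≠ 0 := by exact_mod_cast nZ
  have qZ' : (Z' : ℚ) ≠ 0 := by exact_mod_cast nZ'
  have qh : (h : ℚ) ≠ 0 := by exact_mod_cast hb.h_ne
  have qQ : (Q : ℚ) ≠ 0 := by exact_mod_cast hb.Q_ne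
  have hQ1 : ((Q : ℚ) + 1) ≠ 0 := by
    have : Q + 1 ≠ 0 := by have := hb.big; omega
    exact_mod_cast this
  -- `Z = Q b`
  have hZ : Z = Q * b := by
    have e := X.eq_b
    field_simp at e
    have e' : ((Z : ℚ) - Q * b) ^ 2 = 0 := by linear_combination e
    exact_mod_cast sub_eq_zero.1 (pow_eq_zero_iff two_ne_zero |>.1 e')
  have hZ' : Z' = a + b * (1 - Q) := by linarith [X.col_x]
  -- `h = -Q² b`
  set S5 : ℚ := (M : ℚ) ^ 2 * (1 / (D5 : ℚ) + 1 / (D6 : ℚ))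
  set S7 : ℚ := (M : ℚ) ^ 2 * (1 / (D7 : ℚ) + 1 / (D8 : ℚ))
  set U : ℚ := (Q : ℚ) ^ 2 / (Z' : ℚ)
  have eZ : (Q : ℚ) ^ 2 / (Z : ℚ) = Q / b := by rw [hZ]; push_cast; field_simp
  have eY : -(a : ℚ) - D5 - D6 - D7 - D8 - Z' = b * ((Q : ℚ) + 1) := by
    have : -a - D5 - D6 - D7 - D8 - Z' = b * (Q + 1) := by linarith [X.col_al, X.col_be, hZ']
    exact_mod_cast this
  have ex : (h : ℚ) * (-1 / a - 1 / b + Q / b + U) = -((Q : ℚ) + 1) * Q * ((Q : ℚ) ^ 2 - 1) := by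
    rw [← X.eq_x, mul_add ((Q : ℚ) ^ 2), ← mul_div_assoc, mul_one, ← mul_div_assoc, mul_one, eZ]; ring
  have eal : (h : ℚ) * (S5 + Q / b + U) = (3 * (Q : ℚ) + 1) * Q * ((Q : ℚ) + 1) := by
    rw [← X.eq_al, mul_add ((Q : ℚ) ^ 2), ← mul_div_assoc, mul_one, ← mul_div_assoc, mul_one, eZ]; ring
  have ebe : (h : ℚ) * (S7 + Q / b + U) = (3 * (Q : ℚ) + 1) * Q * ((Q : ℚ) + 1) := by
    rw [← X.eq_be, mul_add ((Q : ℚ) ^ 2), ← mul_div_assoc, mul_one, ← mul_div_assoc, mul_one, eZ]; ring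
  have ef := X.eq_f
  rw [eY] at ef
  have hX : (h : ℚ) * (-1 / (a : ℚ) - (M : ℚ) ^ 2 * (1 / (D5 : ℚ) + 1 / (D6 : ℚ) + 1 / (D7 : ℚ) + 1 / (D8 : ℚ)) - U +
      ((Q : ℚ) - 1) * Q * ((Q : ℚ) ^ 2 - 1) / h) = ((Q : ℚ) + 1) * (h / b - 8 * (Q : ℚ) ^ 2) := by
    rw [mul_add (h : ℚ), mul_div_cancel₀ _ qh]
    linear_combination -eal - ebe + ex
  have hh : h = -(Q ^ 2 * b) := by
    have e3 : ((Q : ℚ) + 1) * (h / b - 8 * (Q : ℚ) ^ 2) * (b * ((Q : ℚ) + 1)) = 9 * ((Q : ℚ) + 1) ^ 2 * h := by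
      rw [← hX]; linear_combination (h : ℚ) * ef
    field_simp at e3
    have e4 : (h : ℚ) = -((Q : ℚ) ^ 2 * b) := by
      refine mul_left_cancel₀ (pow_ne_zero 2 hQ1) ?_
      linear_combination -(1 / 8 : ℚ) * ((Q : ℚ) + 1) ^ 2 * e3
    exact_mod_cast e4
  -- the quadratic
  have hQn : Q ^ 2 + Q + 1 > 0 := by nlinarith
  have hquad : (Q * b + a * (Q ^ 2 + Q + 1) * Q) * (Q * b - a) = 0 := by
    have h1 := ex
    simp only [U, hZ', hh] at h1
    push_cast at h1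
    have hne : (a : ℚ) + b * (1 - Q) ≠ 0 := by
      have : a + b * (1 - Q) ≠ 0 := hZ' ▸ nZ'
      exact_mod_cast this
    field_simp at h1
    have h2 : ((Q : ℚ) * b + a * ((Q : ℚ) ^ 2 + Q + 1) * Q) * (Q * b - a) * ((Q : ℚ) - 1) = 0 := by
      linear_combination -(Q : ℚ) * h1
    have hQm : ((Q : ℚ) - 1) ≠ 0 := by
      have : Q - 1 ≠ 0 := by have := hb.big; omega
      exact_mod_cast this
    have := (mul_eq_zero.1 h2).resolve_right hQm
    exact_mod_cast this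
  rcases mul_eq_zero.1 hquad with e | e
  · have hba : b = -((Q ^ 2 + Q + 1) * a) := mul_left_cancel₀ hb.Q_ne (by linarith)
    have hh' : h = Q ^ 2 * (Q ^ 2 + Q + 1) * a := by rw [hh, hba]; ring
    refine ⟨?_, by rw [hZ', hba]; ring, hh'⟩
    exact pos_of_mul_pos_right (hh' ▸ hb.pos) (mul_nonneg (sq_nonneg Q) hQn.le)
  · exfalso
    obtain ⟨ca, cb, -⟩ := X.congr
    have e1 : a = Q * b := by linarith
    have := hb.mod_eight
    rw [e1, Int.mul_emod, this, cb] at ca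
    norm_num at ca

/-- The configuration A with seven members does not occur. -/
theorem sevenASpec : SevenASpec := by
  intro Q h a C B W P R Z X
  obtain ⟨na, nC, nB, nW, nP, nR, nZ⟩ := X.ne
  have hb := X.toBase
  set M := midVal Q with hM
  have qa : (a : ℚ) ≠ 0 := by exact_mod_cast na
  have qP : (P : ℚ) ≠ 0 := by exact_mod_cast nP
  have qR : (R : ℚ) ≠ 0 := by exact_mod_cast nR
  have qh : (h : ℚ) ≠ 0 := by exact_mod_cast hb.h_ne
  have qQ : (Q : ℚ) ≠ 0 := by exact_mod_cast hb.Q_ne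
  have qZ : (Z : ℚ) ≠ 0 := by exact_mod_cast nZ
  have hQ1 : ((Q : ℚ) + 1) ≠ 0 := by
    have : Q + 1 ≠ 0 := by have := hb.big; omega
    exact_mod_cast this
  have hZ : Z = Q * a := by
    have e := X.eq_b
    field_simp at e
    have e' : ((Z : ℚ) - Q * a) ^ 2 = 0 := by linear_combination e
    exact_mod_cast sub_eq_zero.1 (pow_eq_zero_iff two_ne_zero |>.1 e')
  have eY : -(C : ℚ) - B - 2 * W = a * ((Q : ℚ) + 1) := by
    have : -C - B - 2 * W = a * (Q + 1) := by linarith [X.col_x, X.col_al, X.col_be, hZ]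
    exact_mod_cast this
  have eZ : (Q : ℚ) ^ 2 / (Z : ℚ) = Q / a := by rw [hZ]; push_cast; field_simp
  have ex := X.eq_x
  have eal := X.eq_al
  have ebe := X.eq_be
  rw [eZ] at ex eal ebe
  have ef := X.eq_f
  rw [eY] at ef
  have hX : (h : ℚ) * (-(M : ℚ) ^ 2 * (1 / (C : ℚ) + 1 / (B : ℚ)) - 2 * ((Q : ℚ) + 1) ^ 2 / (W : ℚ) +
      ((Q : ℚ) - 1) * Q * ((Q : ℚ) ^ 2 - 1) / h) = ((Q : ℚ) + 1) * (h / a - 8 * (Q : ℚ) ^ 2) := by
    rw [mul_add (h : ℚ), mul_div_cancel₀ _ qh]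
    linear_combination -eal - ebe + ex
  have hh : h = -(Q ^ 2 * a) := by
    have e3 : ((Q : ℚ) + 1) * (h / a - 8 * (Q : ℚ) ^ 2) * (a * ((Q : ℚ) + 1)) = 9 * ((Q : ℚ) + 1) ^ 2 * h := by
      rw [← hX]; linear_combination (h : ℚ) * ef
    field_simp at e3
    have e4 : (h : ℚ) = -((Q : ℚ) ^ 2 * a) := by
      refine mul_left_cancel₀ (pow_ne_zero 2 hQ1) ?_
      linear_combination -(1 / 8 : ℚ) * ((Q : ℚ) + 1) ^ 2 * e3
    exact_mod_cast e4
  have hM2 : ((M : ℚ) - 1) = ((Q : ℚ) - 1) / 2 := by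
    have : (2 : ℚ) * M = Q + 1 := by exact_mod_cast hb.two_mid
    linarith
  have hPR : (P : ℚ) + R = a * (1 - Q) := by
    have : P + R = a * (1 - Q) := by linarith [X.col_x, hZ]
    exact_mod_cast this
  -- the product
  have hprod : 4 * ((Q : ℚ) ^ 2 + Q + 1) * (P * R) + Q * (a : ℚ) ^ 2 * ((Q : ℚ) - 1) ^ 2 = 0 := by
    rw [hM2, hh] at ex
    push_cast at ex
    field_simp at ex
    have h2 : (Q : ℚ) * ((Q : ℚ) - 1) * (4 * ((Q : ℚ) ^ 2 + Q + 1) * (P * R) + Q * (a : ℚ) ^ 2 * ((Q : ℚ) - 1) ^ 2) = 0 := by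
      linear_combination (Q : ℚ) * ex + ((Q : ℚ) ^ 2 * ((Q : ℚ) - 1) ^ 2 * a) * hPR
    refine (mul_eq_zero.1 h2).resolve_left (mul_ne_zero qQ ?_)
    have : Q - 1 ≠ 0 := by have := hb.big; omega
    exact_mod_cast this
  have hsq : (P - R) ^ 2 * (Q ^ 2 + Q + 1) = (a * (Q - 1) * (Q + 1)) ^ 2 := by
    have h1 : ((P : ℚ) - R) ^ 2 * ((Q : ℚ) ^ 2 + Q + 1) = ((a : ℚ) * ((Q : ℚ) - 1) * ((Q : ℚ) + 1)) ^ 2 := by
      linear_combination -hprod + (((Q : ℚ) ^ 2 + Q + 1) * ((P : ℚ) + R + a * (1 - Q))) * hPR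
    exact_mod_cast h1
  -- a square strictly between two consecutive ones
  obtain ⟨s, hs⟩ : P - R ∣ a * (Q - 1) * (Q + 1) := (Int.pow_dvd_pow_iff two_ne_zero).1 (hsq ▸ dvd_mul_right _ _)
  have hd : P - R ≠ 0 := by
    intro e
    rw [e, zero_mul] at hs
    have := hb.big
    rcases mul_eq_zero.1 hs with h1 | h1
    · rcases mul_eq_zero.1 h1 with h2 | h2
      · exact na h2
      · omega
    · omega
  have hn : Q ^ 2 + Q + 1 = s ^ 2 := mul_left_cancel₀ (pow_ne_zero 2 hd) (by rw [hsq, hs, mul_pow])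
  have := hb.big
  obtain ⟨h1, h2⟩ : |s| < -Q ∧ -Q - 1 < |s| :=
    ⟨abs_lt_of_sq_lt_sq (by nlinarith) (by omega), lt_of_pow_lt_pow_left₀ 2 (abs_nonneg s) (by rw [sq_abs]; nlinarith)⟩
  omega

end Cfsg.Lib.Ree.Three
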