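import Cfsg.Agent.Ree.Three.Top

/-!
`ModelSpec`, step 3: in the primitive blocks the functions of `V × K` agree with those of `V × K⟨x⟩`
(`notes/ree_three_model_h4.md`).
-/

set_option autoImplicit false
set_option linter.unusedSectionVars false

namespace Cfsg.Lib.Ree.Three

universe v w

attribute [local instance 10] _root_.Classical.propDecidable

namespace Model

variable {m : Model.{v}}

/-- The sum of a function over the primitive blocks. -/
noncomputable def primSum (θ : m.Fix) (l : Fin 4) (χ : m.Irr) : ℤ := ∑ μ ∈ m.prims, m.F θ l μ χ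

theorem primSum_mem (θ : m.Fix) (l : Fin 4) {ν : m.Blk} (hν : m.Prim ν) {χ : m.Irr} (hχ : χ ∈ m.mem ν) :
    primSum θ l χ = (m.r : ℤ) * m.F θ l ν χ := by
  have hsub : m.cls ν ⊆ m.prims := fun μ hμ => mem_prims.2 ((m.same_prim ν μ (mem_cls.1 hμ)).1 hν)
  rw [primSum, ← Finset.sum_subset hsub (fun μ _ hμ =>
      off θ l (fun h => hμ (mem_cls.2 (m.same_equiv.symm h))) (Or.inr hν) hχ),
    Finset.sum_congr rfl (g := fun _ => m.F θ l ν χ) (fun μ hμ => by
      rw [m.F_same θ l ν μ (mem_cls.1 hμ)]), Finset.sum_const, card_cls, nsmul_eq_mul]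

theorem primSum_nonprim (θ : m.Fix) (l : Fin 4) (hr : m.r = 1) {ν : m.Blk} (hν : ¬ m.Prim ν) {χ : m.Irr}
    (hχ : χ ∈ m.mem ν) : primSum θ l χ = 0 :=
  Finset.sum_eq_zero fun μ hμ => off θ l (fun h => hν ((m.same_prim μ ν h).1 (mem_prims.1 hμ))) (Or.inl hr) hχ

theorem primSum_norm (θ : m.Fix) {l : Fin 4} (hl : l ≠ 0) :
    ∑ χ, primSum θ l χ ^ 2 = (m.prims.card : ℤ) * ((m.r : ℤ) * (2 * (m.r : ℤ) + 1)) := by
  have h1 : ∀ χ, primSum θ l χ ^ 2 = ∑ μ ∈ m.prims, ∑ μ' ∈ m.prims, m.F θ l μ χ * m.F θ l μ' χ := fun χ => by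
    rw [pow_two, primSum, Finset.sum_mul_sum]
  rw [Finset.sum_congr rfl fun χ _ => h1 χ, Finset.sum_comm,
    Finset.sum_congr rfl (g := fun _ => (m.r : ℤ) * (2 * (m.r : ℤ) + 1)) (fun μ hμ => ?_), Finset.sum_const,
    nsmul_eq_mul]
  rw [Finset.sum_comm]
  have hsub : m.cls μ ⊆ m.prims := fun μ' hμ' => mem_prims.2 ((m.same_prim μ μ' (mem_cls.1 hμ')).1 (mem_prims.1 hμ))
  rw [← Finset.sum_subset hsub (fun μ' _ hμ' => m.F_orth θ θ l l μ μ' (fun h => hμ' (mem_cls.2 h))),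
    Finset.sum_congr rfl (g := fun _ => 2 * (m.r : ℤ) + 1) (fun μ' hμ' => by
      rw [← m.F_norm θ l μ hl, ← m.F_same θ l μ μ' (mem_cls.1 hμ')]
      exact Finset.sum_congr rfl fun χ _ => (pow_two _).symm), Finset.sum_const, card_cls, nsmul_eq_mul]

theorem primSum_B (θ : m.Free) (θ' : m.Fix) {l : Fin 4} (hl : l ≠ 0) :
    ∑ χ, m.B θ l χ * primSum θ' l χ = (m.prims.card : ℤ) * (2 * (m.r : ℤ)) := by
  simp only [primSum, Finset.mul_sum]
  rw [Finset.sum_comm, Finset.sum_congr rfl (g := fun _ => 2 * (m.r : ℤ)) (fun μ _ => by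
    rw [m.BF θ θ' l l μ, if_neg hl, if_neg hl]), Finset.sum_const, nsmul_eq_mul]

theorem primSum_u (θ : m.Fix) (l : Fin 4) : ∑ χ, primSum θ l χ * m.u χ = 0 := by
  simp only [primSum, Finset.sum_mul]
  rw [Finset.sum_comm, Finset.sum_eq_zero fun μ _ => m.F_t θ l μ]

theorem dot_gal (θ : m.Free) (θ' : m.Fix) (l : Fin 4) {ν ν' : m.Blk} (hν : m.Prim ν) (hν' : m.Prim ν') :
    ∑ χ ∈ m.mem ν', m.B θ l χ * m.F θ' l ν' χ = ∑ χ ∈ m.mem ν, m.B θ l χ * m.F θ' l ν χ := by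
  obtain ⟨g, rfl⟩ := m.gal_trans ν ν' hν hν'
  simp only [sum_gal, m.gal_B, m.gal_F]

theorem normB_gal (θ : m.Free) (l : Fin 4) {ν ν' : m.Blk} (hν : m.Prim ν) (hν' : m.Prim ν') :
    ∑ χ ∈ m.mem ν', m.B θ l χ ^ 2 = ∑ χ ∈ m.mem ν, m.B θ l χ ^ 2 := by
  obtain ⟨g, rfl⟩ := m.gal_trans ν ν' hν hν'
  simp only [sum_gal, m.gal_B]

theorem normF_gal (θ : m.Fix) (l : Fin 4) {ν ν' : m.Blk} (hν : m.Prim ν) (hν' : m.Prim ν') :
    ∑ χ ∈ m.mem ν', m.F θ l ν' χ ^ 2 = ∑ χ ∈ m.mem ν, m.F θ l ν χ ^ 2 := by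
  obtain ⟨g, rfl⟩ := m.gal_trans ν ν' hν hν'
  simp only [sum_gal, m.gal_F]

theorem dot_W {ν : m.Blk} {f g : m.Irr → ℤ} (hf : PatW ν f) (hg : PatA ν g ∨ PatB ν g) :
    ∑ χ ∈ m.mem ν, f χ * g χ = 0 := by
  obtain ⟨w, hw, hrw, -, hrest⟩ := hf
  have hgw : g w = 0 := by
    rcases hg with ⟨a, -, z, -, ha, hz, -, -, h⟩ | ⟨a, -, z, -, ha, hz, -, -, h⟩ <;>
      exact h w hw (fun e => absurd (hrw.symm.trans (e ▸ ha)) (by simp))
        (fun e => absurd (hrw.symm.trans (e ▸ hz)) (by simp))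
  exact Finset.sum_eq_zero fun χ hχ => by
    by_cases h : χ = w
    · rw [h, hgw, mul_zero]
    · rw [hrest χ hχ h, zero_mul]

theorem patW_unique {ν : m.Blk} {f g : m.Irr → ℤ} (hf : PatW ν f) (hg : PatW ν g) :
    ∀ χ ∈ m.mem ν, f χ = g χ := by
  obtain ⟨w, hw, hrw, hfw, hf0⟩ := hf
  obtain ⟨w', hw', hrw', hgw, hg0⟩ := hg
  obtain rfl := row_eq_W hw hw' hrw hrw'
  intro χ hχ
  by_cases h : χ = w
  · rw [h, hfw, hgw]
  · rw [hf0 χ hχ h, hg0 χ hχ h]

theorem three_s_le (θ : m.Free) : 3 * ((m.r : ℤ) * (m.s θ : ℤ)) ≤ (m.e : ℤ) := by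
  have h : 3 * (m.r * m.s θ) ≤ m.e := by
    rw [m.e_eq, mul_left_comm]
    exact Nat.mul_le_mul_left _ (m.s_le θ)
  exact_mod_cast h

/-- Step 3. -/
theorem bottom (θ : m.Free) (θ' : m.Fix) {l : Fin 4} (hl : l ≠ 0) {ν : m.Blk} (hν : m.Prim ν) :
    ∀ χ ∈ m.mem ν, m.B θ l χ = m.F θ' l ν χ := by
  by_contra hne
  set P : ℤ := (m.prims.card : ℤ) with hP
  set n := ∑ χ ∈ m.mem ν, m.B θ l χ ^ 2 with hn
  set p := ∑ χ ∈ m.mem ν, m.F θ' l ν χ ^ 2 with hp
  set vp := ∑ χ ∈ m.mem ν, m.B θ l χ * m.F θ' l ν χ with hvp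
  have he : (0 : ℤ) < m.e := by exact_mod_cast e_pos ν
  have h3P : 3 * P = 2 * (m.e : ℤ) := by rw [hP]; exact_mod_cast card_prims
  have hs := three_s_le θ
  have hs0 : (0 : ℤ) ≤ m.s θ := Int.natCast_nonneg _
  have hA := A_ne (m := m)
  -- all the blocks and the characters outside them
  set U' := m.out Finset.univ
  set N := (Finset.univ : Finset m.Blk) \ m.prims with hN
  have hblocks : ∀ G : m.Irr → ℤ, ∑ χ, G χ =
      ((∑ μ ∈ N, ∑ χ ∈ m.mem μ, G χ) + ∑ μ ∈ m.prims, ∑ χ ∈ m.mem μ, G χ) + ∑ χ ∈ U', G χ := fun G => by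
    rw [sum_split Finset.univ, hN, Finset.sum_sdiff (Finset.subset_univ _)]
  have hNcard : (N.card : ℤ) = m.e - P := by
    rw [hN, Finset.card_sdiff_of_subset (Finset.subset_univ _), Finset.card_univ, m.card_blk,
      Nat.cast_sub (by have := card_prims (m := m); omega)]
  have hprimB : ∑ μ ∈ m.prims, ∑ χ ∈ m.mem μ, m.B θ l χ ^ 2 = P * n := by
    rw [Finset.sum_congr rfl (g := fun _ => n) (fun μ hμ => normB_gal θ l hν (mem_prims.1 hμ)), Finset.sum_const,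
      nsmul_eq_mul]
  have hNB : (m.e : ℤ) - P ≤ ∑ μ ∈ N, ∑ χ ∈ m.mem μ, m.B θ l χ ^ 2 := by
    rw [← hNcard, Finset.cast_card]
    exact Finset.sum_le_sum fun μ _ => one_le_norm (B_tgt_one θ hl μ) one_ne_zero
  have hnormB := m.B_norm θ l hl
  rw [hblocks, hprimB] at hnormB
  have hBu' : (m.e : ℤ) * (m.Q + 1) + ∑ χ ∈ U', m.B θ l χ * m.u χ = 0 := by
    have h := m.B_t θ l
    rw [sum_split Finset.univ, Finset.sum_congr rfl (g := fun _ => m.Q + 1)
      (fun μ _ => by rw [sum_mul_u (B_tgt_one θ hl μ), one_mul]), Finset.sum_const, Finset.card_univ, m.card_blk,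
      nsmul_eq_mul] at h
    exact h
  have hU1 : 1 ≤ ∑ χ ∈ U', m.B θ l χ ^ 2 := by
    by_contra hlt
    have h0 := eq_zero_of_sum_sq (show ∑ χ ∈ U', m.B θ l χ ^ 2 ≤ 0 by omega)
    rw [Finset.sum_eq_zero (fun χ hχ => by rw [h0 χ hχ, zero_mul]), add_zero] at hBu'
    rcases mul_eq_zero.1 hBu' with h | h <;> omega
  have hn2 : n ≤ 2 := by
    by_contra hlt
    have h3 : P * 3 ≤ P * n := Int.mul_le_mul_of_nonneg_left (by omega) (by omega)
    rcases m.r_cases with hr | hr <;> simp only [hr, Nat.cast_one, Nat.cast_ofNat] at hs <;> linarith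
  have hp2 : p ≤ 2 := norm_le_two θ' hl hν
  -- the characters outside the primitive blocks
  set U := m.out m.prims
  have hprimG : ∑ μ ∈ m.prims, ∑ χ ∈ m.mem μ, primSum θ' l χ ^ 2 = P * ((m.r : ℤ) ^ 2 * p) := by
    rw [Finset.sum_congr rfl (g := fun _ => (m.r : ℤ) ^ 2 * p) (fun μ hμ => ?_), Finset.sum_const, nsmul_eq_mul]
    rw [hp, ← normF_gal θ' l hν (mem_prims.1 hμ), Finset.mul_sum]
    exact Finset.sum_congr rfl fun χ hχ => by rw [primSum_mem θ' l (mem_prims.1 hμ) hχ, mul_pow]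
  have hprimBG : ∑ μ ∈ m.prims, ∑ χ ∈ m.mem μ, m.B θ l χ * primSum θ' l χ = P * ((m.r : ℤ) * vp) := by
    rw [Finset.sum_congr rfl (g := fun _ => (m.r : ℤ) * vp) (fun μ hμ => ?_), Finset.sum_const, nsmul_eq_mul]
    rw [hvp, ← dot_gal θ θ' l hν (mem_prims.1 hμ), Finset.mul_sum]
    exact Finset.sum_congr rfl fun χ hχ => by rw [primSum_mem θ' l (mem_prims.1 hμ) hχ]; ring
  have hUG := primSum_norm θ' hl
  rw [sum_split m.prims, hprimG] at hUG
  have hUBG := primSum_B θ θ' hl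
  rw [sum_split m.prims, hprimBG] at hUBG
  have hUB := m.B_norm θ l hl
  rw [sum_split m.prims, hprimB] at hUB
  have hCS : (∑ χ ∈ U, m.B θ l χ * primSum θ' l χ) ^ 2 ≤
      (∑ χ ∈ U, m.B θ l χ ^ 2) * ∑ χ ∈ U, primSum θ' l χ ^ 2 := Finset.sum_mul_sq_le_sq_mul_sq _ _ _
  set SB := ∑ χ ∈ U, m.B θ l χ ^ 2
  set SG := ∑ χ ∈ U, primSum θ' l χ ^ 2
  set SBG := ∑ χ ∈ U, m.B θ l χ * primSum θ' l χ
  have hPpos : 0 < P := by omega
  -- cancel a factor `P`
  have key : ∀ g b : ℤ, SG = g * P → 0 ≤ b → b * P ≤ SBG → b * b * P ≤ SB * g := by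
    intro g b hg hb hbb
    refine Int.le_of_mul_le_mul_right ?_ hPpos
    have h1 : (b * P) * (b * P) ≤ SBG * SBG :=
      mul_self_le_mul_self (mul_nonneg hb hPpos.le) hbb
    calc b * b * P * P = (b * P) * (b * P) := by ring
      _ ≤ SBG * SBG := h1
      _ ≤ SB * SG := by rw [← pow_two]; exact hCS
      _ = SB * g * P := by rw [hg]; ring
  have hB := classify (B_tgt_one θ hl ν) hn2
  have hF := classify (F_tgt_one θ' hl (m.same_equiv.refl ν)) hp2
  -- the inner product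
  obtain ⟨hp1, hvp1, hnp⟩ : (p = 1 ∨ p = 2) ∧ ((n = p → n = 2 ∧ vp ≤ 1) ∧ (n ≠ p → vp = 0)) ∧
      (n = 1 ∨ n = 2) := by
    rcases hB with ⟨hb, hb2⟩ | ⟨hb, hb2⟩ | ⟨hb, hb2⟩ <;>
      rcases hF with ⟨hf, hf2⟩ | ⟨hf, hf2⟩ | ⟨hf, hf2⟩ <;>
      rw [← hn] at hb2 <;> rw [← hp] at hf2 <;>
      refine ⟨by omega, ⟨fun e => ?_, fun e => ?_⟩, by omega⟩
    all_goals first
      | exact absurd (hb2.trans hf2.symm) e
      | exact absurd e (by omega)
      | exact absurd (patW_unique hb hf) hne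
      | (refine ⟨hb2, ?_⟩; by_contra h; exact hne (eq_of_inner (by rw [← hn, ← hp, ← hvp]; omega)))
      | (rw [hvp]; exact dot_W hb (Or.inl hf))
      | (rw [hvp]; exact dot_W hb (Or.inr hf))
      | (rw [hvp, Finset.sum_congr rfl fun χ _ => mul_comm (m.B θ l χ) _]; exact dot_W hf (Or.inl hb))
      | (rw [hvp, Finset.sum_congr rfl fun χ _ => mul_comm (m.B θ l χ) _]; exact dot_W hf (Or.inr hb))
  rcases m.r_cases with hr | hr
  · -- the index of `x` is one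
    simp only [hr, Nat.cast_one, one_mul, one_pow] at hs hUG hUBG
    rcases hp1 with hp' | hp' <;> rcases hnp with hn' | hn'
    · exact absurd (hvp1.1 (hn'.trans hp'.symm)).1 (by omega)
    · have hv0 := hvp1.2 (by omega)
      have := key 2 2 (by rw [hp'] at hUG; linarith) (by norm_num) (by rw [hv0] at hUBG; linarith)
      rw [hn'] at hUB
      linarith
    · have hv0 := hvp1.2 (by omega)
      have := key 1 2 (by rw [hp'] at hUG; linarith) (by norm_num) (by rw [hv0] at hUBG; linarith)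
      rw [hn'] at hUB
      linarith
    · -- a tie
      have hv1 := (hvp1.1 (hn'.trans hp'.symm)).2
      have hPv : P * vp ≤ P * 1 := Int.mul_le_mul_of_nonneg_left hv1 hPpos.le
      have hGN : ∀ μ ∈ N, ∀ χ ∈ m.mem μ, primSum θ' l χ = 0 := fun μ hμ χ hχ =>
        primSum_nonprim θ' l hr (fun h => (Finset.mem_sdiff.1 hμ).2 (mem_prims.2 h)) hχ
      have hG' := primSum_norm θ' hl
      rw [hblocks, hprimG, Finset.sum_eq_zero (s := N)
        (fun μ hμ => Finset.sum_eq_zero fun χ hχ => by rw [hGN μ hμ χ hχ]; norm_num)] at hG'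
      have hBG' := primSum_B θ θ' hl
      rw [hblocks, hprimBG, Finset.sum_eq_zero (s := N)
        (fun μ hμ => Finset.sum_eq_zero fun χ hχ => by rw [hGN μ hμ χ hχ, mul_zero])] at hBG'
      simp only [hr, Nat.cast_one, one_mul, one_pow] at hG' hBG'
      rw [hp'] at hG'
      rw [hn'] at hnormB
      have heq := eq_of_inner (S := U') (f := m.B θ l) (g := primSum θ' l) (by linarith)
      have hGu := primSum_u θ' l
      rw [hblocks, Finset.sum_eq_zero (s := N)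
        (fun μ hμ => Finset.sum_eq_zero fun χ hχ => by rw [hGN μ hμ χ hχ, zero_mul]),
        Finset.sum_congr rfl (s₁ := m.prims) (g := fun _ => m.Q + 1) (fun μ hμ => ?_), Finset.sum_const,
        nsmul_eq_mul, zero_add, Finset.sum_congr rfl (s₁ := U') fun χ hχ => by rw [← heq χ hχ]] at hGu
      · have h0 : ((m.e : ℤ) - P) * (m.Q + 1) = 0 := by linarith
        rcases mul_eq_zero.1 h0 with h | h <;> omega
      · rw [Finset.sum_congr rfl fun χ hχ => by rw [primSum_mem θ' l (mem_prims.1 hμ) hχ, hr, Nat.cast_one, one_mul],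
          sum_mul_u (F_tgt_one θ' hl (m.same_equiv.refl μ)), one_mul]
  · -- the index of `x` is three
    simp only [hr, Nat.cast_ofNat] at hs hUG hUBG
    rcases hp1 with hp' | hp' <;> rcases hnp with hn' | hn'
    · exact absurd (hvp1.1 (hn'.trans hp'.symm)).1 (by omega)
    · have hv0 := hvp1.2 (by omega)
      have := key 12 6 (by rw [hp'] at hUG; linarith) (by norm_num) (by rw [hv0] at hUBG; linarith)
      rw [hn'] at hUB
      linarith
    all_goals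
      have hv1 : vp ≤ 1 := by
        rcases Decidable.em (n = p) with h | h
        · exact (hvp1.1 h).2
        · rw [hvp1.2 h]; norm_num
      have hPv : P * vp ≤ P * 1 := Int.mul_le_mul_of_nonneg_left hv1 hPpos.le
      have := key 3 3 (by rw [hp'] at hUG; linarith) (by norm_num) (by linarith)
      rw [hn'] at hUB
      linarith

end Model

end Cfsg.Lib.Ree.Three
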