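import Cfsg.Agent.Ree.Three.ModelW
import Cfsg.Agent.Ree.Three.ArithA

/-!
`ModelSpec`, common facts: the members of the blocks, the targets, vectors of small norm, the moves inside a
class (`notes/ree_three_model_h4.md`, step 0).
-/

set_option autoImplicit false
set_option linter.unusedSectionVars false

namespace Cfsg.Lib.Ree.Three

universe v w

/-- Entries of a row. -/
def bit (b : Bool) : ℤ := if b then 1 else 0

set_option synthInstance.maxSize 4000 in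
theorem two_rows : ∀ a b c a' b' c' : Bool, ∀ s s' : Bool,
    (a || b || c) = true → (a' || b' || c') = true →
    (if s then (1 : ℤ) else -1) * bit a + (if s' then (1 : ℤ) else -1) * bit a' = 0 →
    (if s then (1 : ℤ) else -1) * bit b + (if s' then (1 : ℤ) else -1) * bit b' = 1 →
    (if s then (1 : ℤ) else -1) * bit c + (if s' then (1 : ℤ) else -1) * bit c' = 1 →
    (((a, b, c) = (true, false, false) ∧ s = false ∧ (a', b', c') = (true, true, true) ∧ s' = true) ∨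
      ((a', b', c') = (true, false, false) ∧ s' = false ∧ (a, b, c) = (true, true, true) ∧ s = true)) ∨
    (((a, b, c) = (false, true, false) ∧ s = true ∧ (a', b', c') = (false, false, true) ∧ s' = true) ∨
      ((a', b', c') = (false, true, false) ∧ s' = true ∧ (a, b, c) = (false, false, true) ∧ s = true)) := by
  decide

theorem bits_of_row : ∀ r ∈ eight ++ seven,
    ∃ a b c : Bool, (a || b || c) = true ∧ r = (bit a, bit b, bit c) := by
  decide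

attribute [local instance 10] _root_.Classical.propDecidable

section Sums

variable {ι : Type w}

theorem sq_one_cases {x : ℤ} (h : x ^ 2 = 1) : x = 1 ∨ x = -1 := sq_eq_one_iff.1 h

theorem one_le_sq {x : ℤ} (h : x ≠ 0) : 1 ≤ x ^ 2 := by
  rcases lt_or_gt_of_ne h with h | h <;> nlinarith

theorem support_le {S : Finset ι} (f : ι → ℤ) :
    ((S.filter fun χ => f χ ≠ 0).card : ℤ) ≤ ∑ χ ∈ S, f χ ^ 2 := by
  rw [← Finset.sum_filter_add_sum_filter_not S fun χ => f χ ≠ 0]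
  refine le_add_of_le_of_nonneg ?_ (Finset.sum_nonneg fun χ _ => sq_nonneg _)
  rw [Finset.cast_card]
  exact Finset.sum_le_sum fun χ hχ => one_le_sq (Finset.mem_filter.1 hχ).2

theorem eq_zero_of_sum_sq {S : Finset ι} {f : ι → ℤ} (h : ∑ χ ∈ S, f χ ^ 2 ≤ 0) : ∀ χ ∈ S, f χ = 0 :=
  fun χ hχ => pow_eq_zero_iff two_ne_zero |>.1
    (le_antisymm ((Finset.single_le_sum (fun χ _ => sq_nonneg (f χ)) hχ).trans h) (sq_nonneg _))

/-- Norm one: a single entry. -/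
theorem single_of_norm_one {S : Finset ι} {f : ι → ℤ} (h : ∑ χ ∈ S, f χ ^ 2 = 1) :
    ∃ X ∈ S, f X ^ 2 = 1 ∧ ∀ χ ∈ S, χ ≠ X → f χ = 0 := by
  obtain ⟨X, hX, hX0⟩ : ∃ X ∈ S, f X ≠ 0 := by
    by_contra hcon
    push Not at hcon
    rw [Finset.sum_eq_zero fun χ hχ => by rw [hcon χ hχ]; norm_num] at h
    norm_num at h
  have h1 := Finset.add_sum_erase S (fun χ => f χ ^ 2) hX
  rw [h] at h1
  have h2 := one_le_sq hX0
  have h3 : 0 ≤ ∑ χ ∈ S.erase X, f χ ^ 2 := Finset.sum_nonneg fun χ _ => sq_nonneg _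
  exact ⟨X, hX, by omega, fun χ hχ hne => eq_zero_of_sum_sq (by omega) χ (Finset.mem_erase.2 ⟨hne, hχ⟩)⟩

/-- Two vectors with the inner product at least the mean of the norms are equal. -/
theorem eq_of_inner {S : Finset ι} {f g : ι → ℤ}
    (h : ∑ χ ∈ S, f χ ^ 2 + ∑ χ ∈ S, g χ ^ 2 ≤ 2 * ∑ χ ∈ S, f χ * g χ) : ∀ χ ∈ S, f χ = g χ := by
  have h1 : ∑ χ ∈ S, (f χ - g χ) ^ 2 = ∑ χ ∈ S, f χ ^ 2 + ∑ χ ∈ S, g χ ^ 2 - 2 * ∑ χ ∈ S, f χ * g χ := by
    rw [Finset.mul_sum, ← Finset.sum_add_distrib, ← Finset.sum_sub_distrib]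
    exact Finset.sum_congr rfl fun χ _ => by ring
  intro χ hχ
  have := eq_zero_of_sum_sq (f := fun χ => f χ - g χ) (by rw [h1]; linarith) χ hχ
  omega

theorem sum_pair {M : Type*} [AddCommMonoid M] {S : Finset ι} {F : ι → M} {a b : ι} (ha : a ∈ S) (hb : b ∈ S)
    (hne : a ≠ b) (h : ∀ χ ∈ S, χ ≠ a → χ ≠ b → F χ = 0) : ∑ χ ∈ S, F χ = F a + F b := by
  rw [← Finset.sum_pair (f := F) hne]
  refine (Finset.sum_subset ?_ ?_).symm
  · intro χ hχ
    rcases Finset.mem_insert.1 hχ with rfl | hχ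
    · exact ha
    · rwa [Finset.mem_singleton.1 hχ]
  · intro χ hχ hn
    simp only [Finset.mem_insert, Finset.mem_singleton, not_or] at hn
    exact h χ hχ hn.1 hn.2

end Sums

namespace Model

variable (m : Model.{v})

/-- The members of a block. -/
noncomputable def mem (ν : m.Blk) : Finset m.Irr := (m.L ν).toFinset

/-- The primitive blocks. -/
noncomputable def prims : Finset m.Blk := Finset.univ.filter fun ν => m.Prim ν

/-- The class of a block. -/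
noncomputable def cls (ν : m.Blk) : Finset m.Blk := Finset.univ.filter fun ν' => m.Same ν ν'

/-- The characters outside the blocks of `S`. -/
noncomputable def out (S : Finset m.Blk) : Finset m.Irr := Finset.univ \ S.biUnion m.mem

variable {m}

theorem mem_mem {ν : m.Blk} {χ : m.Irr} : χ ∈ m.mem ν ↔ χ ∈ m.L ν := List.mem_toFinset

theorem mem_cls {ν ν' : m.Blk} : ν' ∈ m.cls ν ↔ m.Same ν ν' := by simp [cls]

theorem mem_prims {ν : m.Blk} : ν ∈ m.prims ↔ m.Prim ν := by simp [prims]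

theorem sum_list {M : Type w} [AddCommMonoid M] (ν : m.Blk) (g : m.Irr → M) :
    ((m.L ν).map g).sum = ∑ χ ∈ m.mem ν, g χ := by
  rw [mem, List.sum_toFinset _ (m.nodup ν)]

theorem mem_disjoint {ν ν' : m.Blk} (h : ν ≠ ν') : Disjoint (m.mem ν) (m.mem ν') :=
  Finset.disjoint_left.2 fun χ h1 h2 => h (m.disjoint ν ν' χ (mem_mem.1 h1) (mem_mem.1 h2))

theorem not_mem_out {S : Finset m.Blk} {ν : m.Blk} (hν : ν ∈ S) {χ : m.Irr} (hχ : χ ∈ m.mem ν) : χ ∉ m.out S :=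
  fun h => (Finset.mem_sdiff.1 h).2 (Finset.mem_biUnion.2 ⟨ν, hν, hχ⟩)

theorem mem_out {S : Finset m.Blk} {χ : m.Irr} : χ ∈ m.out S ↔ ∀ ν ∈ S, χ ∉ m.mem ν := by
  simp [out]

/-- A sum split over blocks and the characters outside them. -/
theorem sum_split {M : Type w} [AddCommMonoid M] (S : Finset m.Blk) (g : m.Irr → M) :
    ∑ χ, g χ = (∑ ν ∈ S, ∑ χ ∈ m.mem ν, g χ) + ∑ χ ∈ m.out S, g χ := by
  rw [out, ← Finset.sum_biUnion (fun ν _ ν' _ h => mem_disjoint h), add_comm,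
    Finset.sum_sdiff (Finset.subset_univ _)]

theorem A_ne : m.Q + 1 ≠ 0 := by have := m.base.big; omega

theorem Q_ne : m.Q ≠ 0 := by have := m.base.big; omega

theorem r_pos : 0 < m.r := by rcases m.r_cases with h | h <;> omega

theorem e_pos (ν : m.Blk) : 0 < m.e := by rw [← m.card_blk]; exact Fintype.card_pos_iff.2 ⟨ν⟩

theorem card_prims : 3 * m.prims.card = 2 * m.e := m.card_prim

theorem card_cls (ν : m.Blk) : (m.cls ν).card = m.r := by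
  rw [cls]; convert m.card_same ν

theorem cls_eq_single (hr : m.r = 1) (ν : m.Blk) : m.cls ν = {ν} := by
  obtain ⟨a, ha⟩ := Finset.card_eq_one.1 ((card_cls ν).trans hr)
  have hν : ν ∈ m.cls ν := mem_cls.2 (m.same_equiv.refl ν)
  rw [ha, Finset.mem_singleton] at hν
  rw [ha, hν]

theorem same_eq (hr : m.r = 1) {ν ν' : m.Blk} (h : m.Same ν ν') : ν' = ν := by
  have := mem_cls.2 h
  rwa [cls_eq_single hr, Finset.mem_singleton] at this

theorem sg_cases (ν : m.Blk) (χ : m.Irr) : m.sg ν χ = 1 ∨ m.sg ν χ = -1 :=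
  sq_one_cases (by rw [pow_two]; exact m.sg_sq ν χ)

theorem row_mem {ν : m.Blk} {χ : m.Irr} (h : χ ∈ m.mem ν) : m.row ν χ ∈ eight ∨ m.row ν χ ∈ seven := by
  have h1 : m.row ν χ ∈ (m.L ν).map (m.row ν) := List.mem_map_of_mem (mem_mem.1 h)
  rcases m.kind ν with e | e <;> rw [e] at h1
  · exact Or.inl h1
  · exact Or.inr h1

theorem row_bits {ν : m.Blk} {χ : m.Irr} (h : χ ∈ m.mem ν) :
    ∃ a b c : Bool, (a || b || c) = true ∧ m.row ν χ = (bit a, bit b, bit c) := by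
  exact bits_of_row _ (List.mem_append.2 (row_mem h))

/-- The equations of a target. -/
def Tgt (ν : m.Blk) (c : ℤ) (f : m.Irr → ℤ) : Prop :=
  ∑ χ ∈ m.mem ν, f χ * (m.sg ν χ * (m.row ν χ).1) = 0 ∧
  ∑ χ ∈ m.mem ν, f χ * (m.sg ν χ * (m.row ν χ).2.1) = c ∧
  ∑ χ ∈ m.mem ν, f χ * (m.sg ν χ * (m.row ν χ).2.2) = c

theorem F_tgt (θ : m.Fix) (l : Fin 4) (ν ν' : m.Blk) :
    Tgt ν' (if m.Same ν ν' then tgt l else 0) (m.F θ l ν) := by
  have h := m.F_target θ l ν ν'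
  simp only [sum_list] at h
  exact h

theorem B_tgt (θ : m.Free) (l : Fin 4) (ν' : m.Blk) : Tgt ν' (tgt l) (m.B θ l) := by
  have h := m.B_target θ l ν'
  simp only [sum_list] at h
  exact h

theorem F_tgt_one (θ : m.Fix) {l : Fin 4} (hl : l ≠ 0) {ν ν' : m.Blk} (h : m.Same ν ν') :
    Tgt ν' 1 (m.F θ l ν) := by
  have h1 := F_tgt θ l ν ν'
  rwa [if_pos h, tgt, if_neg hl] at h1

theorem B_tgt_one (θ : m.Free) {l : Fin 4} (hl : l ≠ 0) (ν' : m.Blk) : Tgt ν' 1 (m.B θ l) := by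
  have h1 := B_tgt θ l ν'
  rwa [tgt, if_neg hl] at h1

/-- The contribution of a block at the involution. -/
theorem sum_mul_u {ν : m.Blk} {c : ℤ} {f : m.Irr → ℤ} (h : Tgt ν c f) :
    ∑ χ ∈ m.mem ν, f χ * m.u χ = c * (m.Q + 1) := by
  obtain ⟨h1, h2, h3⟩ := h
  have e : ∀ χ ∈ m.mem ν, f χ * m.u χ = midVal m.Q * (f χ * (m.sg ν χ * (m.row ν χ).2.1)) +
      midVal m.Q * (f χ * (m.sg ν χ * (m.row ν χ).2.2)) - f χ * (m.sg ν χ * (m.row ν χ).1) := fun χ hχ => by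
    rw [m.at_t ν χ (mem_mem.1 hχ), rowW]; ring
  rw [Finset.sum_congr rfl e, Finset.sum_sub_distrib, Finset.sum_add_distrib, ← Finset.mul_sum, ← Finset.mul_sum,
    h1, h2, h3, ← m.base.two_mid]
  ring

theorem one_le_norm {ν : m.Blk} {c : ℤ} {f : m.Irr → ℤ} (h : Tgt ν c f) (hc : c ≠ 0) :
    1 ≤ ∑ χ ∈ m.mem ν, f χ ^ 2 := by
  by_contra hlt
  have h0 := eq_zero_of_sum_sq (show ∑ χ ∈ m.mem ν, f χ ^ 2 ≤ 0 by omega)
  exact hc (h.2.1.symm.trans (Finset.sum_eq_zero fun χ hχ => by rw [h0 χ hχ, zero_mul]))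

theorem two_le_norm {ν : m.Blk} {f : m.Irr → ℤ} (h : Tgt ν 0 f) {χ : m.Irr} (hχ : χ ∈ m.mem ν) (h0 : f χ ≠ 0) :
    2 ≤ ∑ χ ∈ m.mem ν, f χ ^ 2 := by
  by_contra hlt
  have h1 := Finset.single_le_sum (fun χ _ => sq_nonneg (f χ)) hχ
  have h2 := one_le_sq h0
  obtain ⟨X, hX, hX1, hrest⟩ := single_of_norm_one (show ∑ χ ∈ m.mem ν, f χ ^ 2 = 1 by omega)
  obtain ⟨a, b, c, habc, hr⟩ := row_bits hX
  obtain ⟨e1, e2, e3⟩ := h
  rw [Finset.sum_eq_single X (fun χ hχ hne => by rw [hrest χ hχ hne, zero_mul]) (fun hn => absurd hX hn), hr]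
    at e1 e2 e3
  have hs : f X * m.sg ν X ≠ 0 := mul_ne_zero (fun e => by rw [e] at hX1; norm_num at hX1)
    (fun e => by have := m.sg_sq ν X; rw [e] at this; norm_num at this)
  rcases a <;> rcases b <;> rcases c <;> simp_all [bit]

/-- Pattern `A`. -/
def PatA (ν : m.Blk) (f : m.Irr → ℤ) : Prop :=
  ∃ a ∈ m.mem ν, ∃ z ∈ m.mem ν, m.row ν a = (1, 0, 0) ∧ m.row ν z = (1, 1, 1) ∧ f a = -m.sg ν a ∧
    f z = m.sg ν z ∧ ∀ χ ∈ m.mem ν, χ ≠ a → χ ≠ z → f χ = 0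

/-- Pattern `B`. -/
def PatB (ν : m.Blk) (f : m.Irr → ℤ) : Prop :=
  ∃ b ∈ m.mem ν, ∃ c ∈ m.mem ν, m.row ν b = (0, 1, 0) ∧ m.row ν c = (0, 0, 1) ∧ f b = m.sg ν b ∧
    f c = m.sg ν c ∧ ∀ χ ∈ m.mem ν, χ ≠ b → χ ≠ c → f χ = 0

/-- Pattern `W`. -/
def PatW (ν : m.Blk) (f : m.Irr → ℤ) : Prop :=
  ∃ w ∈ m.mem ν, m.row ν w = (0, 1, 1) ∧ f w = m.sg ν w ∧ ∀ χ ∈ m.mem ν, χ ≠ w → f χ = 0

/-- The vectors of target one and norm at most two. -/
theorem classify {ν : m.Blk} {f : m.Irr → ℤ} (h : Tgt ν 1 f) (hn : ∑ χ ∈ m.mem ν, f χ ^ 2 ≤ 2) :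
    (PatA ν f ∧ ∑ χ ∈ m.mem ν, f χ ^ 2 = 2) ∨ (PatB ν f ∧ ∑ χ ∈ m.mem ν, f χ ^ 2 = 2) ∨
      (PatW ν f ∧ ∑ χ ∈ m.mem ν, f χ ^ 2 = 1) := by
  have h1 := one_le_norm h one_ne_zero
  obtain ⟨e1, e2, e3⟩ := h
  rcases (show ∑ χ ∈ m.mem ν, f χ ^ 2 = 1 ∨ ∑ χ ∈ m.mem ν, f χ ^ 2 = 2 by omega) with hN | hN
  · obtain ⟨X, hX, hX1, hrest⟩ := single_of_norm_one hN
    refine Or.inr (Or.inr ⟨⟨X, hX, ?_⟩, hN⟩)
    obtain ⟨a, b, c, habc, hr⟩ := row_bits hX
    rw [Finset.sum_eq_single X (fun χ hχ hne => by rw [hrest χ hχ hne, zero_mul]) (fun hn => absurd hX hn), hr]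
      at e1 e2 e3
    rcases sq_one_cases hX1 with hf | hf <;> rcases sg_cases ν X with hs | hs <;> rw [hf, hs] at e1 e2 e3 <;>
      rcases a <;> rcases b <;> rcases c <;> first | (exfalso; simp [bit] at e1 e2 e3; done) |
        exact ⟨hr.trans (by simp [bit]), hf.trans hs.symm, hrest⟩
  obtain ⟨X, hX, hX0⟩ : ∃ X ∈ m.mem ν, f X ≠ 0 := by
    by_contra hcon
    push Not at hcon
    rw [Finset.sum_eq_zero fun χ hχ => by rw [hcon χ hχ]; norm_num] at hN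
    norm_num at hN
  have hsplit := Finset.add_sum_erase (m.mem ν) (fun χ => f χ ^ 2) hX
  rw [hN] at hsplit
  have hX2 : f X ^ 2 = 1 := by
    have h3 : 0 ≤ ∑ χ ∈ (m.mem ν).erase X, f χ ^ 2 := Finset.sum_nonneg fun χ _ => sq_nonneg _
    have h4 : f X < 2 := by nlinarith
    have h5 : -2 < f X := by nlinarith
    rcases (show f X = 1 ∨ f X = -1 by omega) with e | e <;> rw [e] <;> norm_num
  obtain ⟨Y, hY, hY2, hrest⟩ := single_of_norm_one (S := (m.mem ν).erase X) (f := f) (by omega)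
  obtain ⟨hYX, hYm⟩ := Finset.mem_erase.1 hY
  have hall : ∀ χ ∈ m.mem ν, χ ≠ X → χ ≠ Y → f χ = 0 := fun χ hχ h1 h2 =>
    hrest χ (Finset.mem_erase.2 ⟨h1, hχ⟩) h2
  obtain ⟨a, b, c, habc, hr⟩ := row_bits hX
  obtain ⟨a', b', c', habc', hr'⟩ := row_bits hYm
  have hz : ∀ (g : m.Irr → ℤ), ∑ χ ∈ m.mem ν, f χ * g χ = f X * g X + f Y * g Y := fun g =>
    sum_pair hX hYm hYX.symm fun χ hχ h1 h2 => by rw [hall χ hχ h1 h2, zero_mul]
  rw [hz, hr, hr'] at e1 e2 e3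
  have hsign : ∀ χ, f χ ^ 2 = 1 → ∃ s : Bool, f χ * m.sg ν χ = if s then 1 else -1 := fun χ hχ => by
    rcases sq_one_cases hχ with e | e <;> rcases sg_cases ν χ with e' | e' <;> rw [e, e']
    exacts [⟨true, rfl⟩, ⟨false, rfl⟩, ⟨false, rfl⟩, ⟨true, rfl⟩]
  obtain ⟨s, hs⟩ := hsign X hX2
  obtain ⟨s', hs'⟩ := hsign Y hY2
  have hval : ∀ χ, f χ = f χ * m.sg ν χ * m.sg ν χ := fun χ => by rw [mul_assoc, m.sg_sq, mul_one]
  simp only [← mul_assoc, hs, hs'] at e1 e2 e3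
  have key := two_rows a b c a' b' c' s s' habc habc' e1 e2 e3
  simp only [Prod.mk.injEq] at key
  rcases key with (⟨⟨rfl, rfl, rfl⟩, rfl, ⟨rfl, rfl, rfl⟩, rfl⟩ | ⟨⟨rfl, rfl, rfl⟩, rfl, ⟨rfl, rfl, rfl⟩, rfl⟩) |
      (⟨⟨rfl, rfl, rfl⟩, rfl, ⟨rfl, rfl, rfl⟩, rfl⟩ | ⟨⟨rfl, rfl, rfl⟩, rfl, ⟨rfl, rfl, rfl⟩, rfl⟩)
  · exact Or.inl ⟨⟨X, hX, Y, hYm, hr, hr', by rw [hval X, hs]; simp, by rw [hval Y, hs']; simp, hall⟩, hN⟩
  · exact Or.inl ⟨⟨Y, hYm, X, hX, hr', hr, by rw [hval Y, hs']; simp, by rw [hval X, hs]; simp,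
      fun χ hχ h1 h2 => hall χ hχ h2 h1⟩, hN⟩
  · exact Or.inr (Or.inl ⟨⟨X, hX, Y, hYm, hr, hr', by rw [hval X, hs]; simp, by rw [hval Y, hs']; simp, hall⟩, hN⟩)
  · exact Or.inr (Or.inl ⟨⟨Y, hYm, X, hX, hr', hr, by rw [hval Y, hs']; simp, by rw [hval X, hs]; simp,
      fun χ hχ h1 h2 => hall χ hχ h2 h1⟩, hN⟩)

theorem row_eq_W {ν : m.Blk} {χ χ' : m.Irr} (hχ : χ ∈ m.mem ν) (hχ' : χ' ∈ m.mem ν)
    (h : m.row ν χ = (0, 1, 1)) (h' : m.row ν χ' = (0, 1, 1)) : χ = χ' := by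
  have h1 : (m.L ν).map (m.row ν) = seven := by
    rcases m.kind ν with e | e
    · exfalso
      have := List.mem_map_of_mem (f := m.row ν) (mem_mem.1 hχ)
      rw [e, h] at this
      exact absurd this (by decide)
    · exact e
  have hnd : ((m.L ν).map (m.row ν)).Nodup := h1 ▸ (by decide : seven.Nodup)
  exact List.inj_on_of_nodup_map hnd (mem_mem.1 hχ) (mem_mem.1 hχ') (h.trans h'.symm)

/-- A move of the Galois group. -/
theorem mem_gal (g : m.Gal) (ν : m.Blk) : m.mem (m.bperm g ν) = (m.mem ν).map (m.perm g).toEmbedding := by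
  ext χ
  rw [Finset.mem_map_equiv, mem_mem, mem_mem, ← m.gal_mem g ν ((m.perm g).symm χ), Equiv.apply_symm_apply]

theorem sum_gal {M : Type w} [AddCommMonoid M] (g : m.Gal) (ν : m.Blk) (G : m.Irr → M) :
    ∑ χ ∈ m.mem (m.bperm g ν), G χ = ∑ χ ∈ m.mem ν, G (m.perm g χ) := by
  rw [mem_gal, Finset.sum_map]; rfl

/-- A move inside the class of a primitive block fixes all the functions. -/
theorem exists_move {ν ν' : m.Blk} (hν : m.Prim ν) (h : m.Same ν ν') :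
    ∃ π : m.Irr ≃ m.Irr, m.mem ν' = (m.mem ν).map π.toEmbedding ∧
      (∀ θ l μ χ, m.F θ l μ (π χ) = m.F θ l μ χ) ∧ (∀ χ, m.u (π χ) = m.u χ) ∧ ∀ χ, m.d (π χ) = m.d χ := by
  by_cases he : ν' = ν
  · subst he
    exact ⟨Equiv.refl _, by simp, fun θ l μ χ => rfl, fun χ => rfl, fun χ => rfl⟩
  rcases m.r_cases with hr | hr
  · exact absurd (same_eq hr h) he
  obtain ⟨τ, hτ, -, hcyc, -, -⟩ := m.cycle hr
  have hF : ∀ θ l μ χ, m.F θ l μ (m.perm τ χ) = m.F θ l μ χ := fun θ l μ χ => by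
    exact (congrFun (m.F_same θ l μ _ (hτ μ)) _).trans (m.gal_F τ θ l μ χ)
  rcases (hcyc ν hν).2.2 ν' h with e | e | e
  · exact absurd e he
  · exact ⟨m.perm τ, by rw [e, mem_gal], hF, m.gal_u τ, m.gal_d τ⟩
  · refine ⟨(m.perm τ).trans (m.perm τ), ?_, fun θ l μ χ => ?_, fun χ => ?_, fun χ => ?_⟩
    · rw [e, mem_gal, mem_gal, Finset.map_map]; rfl
    · show m.F θ l μ (m.perm τ (m.perm τ χ)) = _
      rw [hF, hF]
    · show m.u (m.perm τ (m.perm τ χ)) = _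
      rw [m.gal_u, m.gal_u]
    · show m.d (m.perm τ (m.perm τ χ)) = _
      rw [m.gal_d, m.gal_d]

/-- The blocks of the class of a primitive block contribute equally. -/
theorem sum_class {M : Type w} [AddCommMonoid M] {ν : m.Blk} (hν : m.Prim ν)
    (φ : (m.Fix → Fin 4 → m.Blk → ℤ) → ℤ → ℤ → M) :
    ∑ ν' ∈ m.cls ν, ∑ χ ∈ m.mem ν', φ (fun θ l μ => m.F θ l μ χ) (m.u χ) (m.d χ) =
      m.r • ∑ χ ∈ m.mem ν, φ (fun θ l μ => m.F θ l μ χ) (m.u χ) (m.d χ) := by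
  rw [← card_cls ν, ← Finset.sum_const]
  refine Finset.sum_congr rfl fun ν' hν' => ?_
  obtain ⟨π, hπ, hF, hu, hd⟩ := exists_move hν (mem_cls.1 hν')
  rw [hπ, Finset.sum_map]
  refine Finset.sum_congr rfl fun χ _ => ?_
  show φ (fun θ l μ => m.F θ l μ (π χ)) (m.u (π χ)) (m.d (π χ)) = _
  simp only [hF, hu, hd]

/-- Primitive blocks exist in the presence of any block. -/
theorem exists_prim (ν : m.Blk) : ∃ ν', m.Prim ν' := by
  have h1 : 0 < m.prims.card := by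
    have := card_prims (m := m)
    have := e_pos ν
    omega
  obtain ⟨ν', hν'⟩ := Finset.card_pos.1 h1
  exact ⟨ν', mem_prims.1 hν'⟩

end Model

end Cfsg.Lib.Ree.Three
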