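import Cfsg.Agent.Ree.Three.Spec
import Cfsg.Agent.Ree.TwentySeven.Section

/-!
The rows over every twist: the scalar products leave twelve systems, of which only those with eight and with
seven rows are consistent with the columns and the residues modulo 8; the count of pairs of involutions.
-/

set_option autoImplicit false
set_option linter.style.haveILetI false
set_option linter.unusedSectionVars false
set_option maxRecDepth 20000

namespace Cfsg.Lib.Ree.Three

open Cfsg Cfsg.Lib.Chars Cfsg.Lib.Blocks Cfsg.Lib.Ree.Twist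
open Cfsg.Lib.GramSplit (Row ent nrm check sound exists_perm_map)
open Cfsg.Lib.Ree.TwentySeven (fn gramFull fullSols fullCert fullCert_ok special_conj)
open scoped ComplexConjugate

universe u v

/-- A row of a system as a triple. -/
def triple (r : Row) : ℤ × ℤ × ℤ := (ent r 0, ent r 1, ent r 2)

theorem map_fst_cons {α β : Type*} {r : α} {l : List α} {M : List (α × β)} (hM : M.map Prod.fst = r :: l) :
    ∃ D M', M = (r, D) :: M' ∧ M'.map Prod.fst = l := by
  obtain ⟨⟨r', D⟩, M', rfl, rfl, h⟩ := List.map_eq_cons_iff.1 hM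
  exact ⟨D, M', rfl, h⟩

/-- The other ten systems are inconsistent. -/
theorem systems_two {M : List ((ℤ × ℤ × ℤ) × ℤ)} {Q : ℤ} {l : List Row}
    (hl : l ∈ fullSols) (hM : M.map Prod.fst = l.map triple) (hQ : Q % 8 = 5) (hd : ∀ p ∈ M, p.2 ≠ 0)
    (hc : ∀ p ∈ M, (8 : ℤ) ∣ p.2 - rowW Q p.1) (h0 : (M.map fun p => p.1.1 * p.2).sum = 0)
    (h1 : (M.map fun p => p.1.2.1 * p.2).sum = 0) (h2 : (M.map fun p => p.1.2.2 * p.2).sum = 0) :
    (l.map triple).Perm eight ∨ (l.map triple).Perm seven := by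
  have hm : midVal Q % 2 = 1 := by unfold midVal; omega
  simp only [fullSols, List.mem_cons, List.not_mem_nil, or_false] at hl
  rcases hl with rfl | rfl | rfl | rfl | rfl | rfl | rfl | rfl | rfl | rfl | rfl | rfl
  case' inr.inr.inl => left; decide
  case' inr.inr.inr.inr.inl => right; decide
  all_goals exfalso
  all_goals
    simp only [triple, ent, List.map_cons, List.map_nil, List.getD_cons_zero, List.getD_cons_succ] at hM
    obtain ⟨D₁, M₁, rfl, g₁⟩ := map_fst_cons hM
    obtain ⟨D₂, M₂, rfl, g₂⟩ := map_fst_cons g₁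
    obtain ⟨D₃, M₃, rfl, g₃⟩ := map_fst_cons g₂
    obtain ⟨D₄, M₄, rfl, g₄⟩ := map_fst_cons g₃
  all_goals
    try (obtain rfl := List.map_eq_nil_iff.1 g₄
         simp [rowW] at hd hc h0 h1 h2
         omega)
  all_goals
    obtain ⟨D₅, M₅, rfl, g₅⟩ := map_fst_cons g₄
    obtain ⟨D₆, M₆, rfl, g₆⟩ := map_fst_cons g₅
    obtain rfl := List.map_eq_nil_iff.1 g₆
    simp [rowW] at hd hc h0 h1 h2
    omega

section Count

variable {G : Type u} [Group G] [Fintype G] {t : G} {E E₀ : Subgroup G} [Fintype E] {F : Type v} [Field F]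
  [Fintype F] (S : Twist.Setting t E E₀ F)
include S

/-- The involutions of `E`: one class of `q (q - 1) / 2` elements. -/
theorem exists_invol_three (h8 : Fintype.card F % 8 = 3) : ∃ a : E, orderOf a = 2 ∧
    (∀ s : E, orderOf s = 2 → IsConj a s) ∧
    2 * Nat.card {x : E // IsConj a x} = Fintype.card F * (Fintype.card F - 1) := by
  classical
  obtain ⟨T, a, b, n, hy⟩ := AbCentMax.exists_sys S.hyp S.ab
  set e := S.hyp.iso.some
  set a₀ : E₀ := ⟨a, hy.aE⟩
  have ha₀ : orderOf a₀ = 2 := by rw [← Subgroup.orderOf_coe]; exact hy.ao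
  set A : E := ⟨a, S.hyp.le hy.aE⟩
  have hA : orderOf A = 2 := by rw [← Subgroup.orderOf_coe]; exact hy.ao
  have hconj : ∀ s : E, orderOf s = 2 → IsConj A s := fun s hs => by
    obtain ⟨-, g, hg, hgs⟩ := S.conj_E hA hs
    exact isConj_iff.2 ⟨⟨g, S.hyp.le hg⟩, Subtype.ext hgs⟩
  refine ⟨A, hA, hconj, ?_⟩
  have hea : orderOf (e a₀) = 2 := (e.orderOf_eq a₀).trans ha₀
  obtain ⟨hP, hC, -⟩ := Cfsg.Lib.Ree.PSL.involution_centralizer (F := F) S.hyp.odd hea
  have hmul := Chars.card_isConj_mul (e a₀)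
  rw [if_neg (by omega)] at hC
  rw [hC] at hmul
  have hcount : Nat.card {x : E // IsConj A x} =
      Nat.card {x : Matrix.ProjectiveSpecialLinearGroup (Fin 2) F // IsConj (e a₀) x} := by
    refine Nat.card_congr
      { toFun := fun x => ⟨e ⟨(x.1 : G), ?_⟩, ?_⟩
        invFun := fun z => ⟨⟨((e.symm z.1 : E₀) : G), S.hyp.le (e.symm z.1).2⟩, ?_⟩
        left_inv := fun x => ?_
        right_inv := fun z => ?_ }
    · refine (S.conj_E (a := x.1) (b := x.1) ?_ ?_).1 <;>
      · obtain ⟨g, hg⟩ := isConj_iff.1 x.2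
        rw [← hg, ← MulAut.conj_apply, MulEquiv.orderOf_eq, hA]
    · obtain ⟨g, hg⟩ := isConj_iff.1 x.2
      have hx2 : orderOf x.1 = 2 := by rw [← hg, ← MulAut.conj_apply, MulEquiv.orderOf_eq, hA]
      obtain ⟨-, h, hh, hhx⟩ := S.conj_E hA hx2
      refine isConj_iff.2 ⟨e ⟨h, hh⟩, ?_⟩
      rw [← map_inv, ← map_mul, ← map_mul]
      exact congrArg e (Subtype.ext hhx)
    · obtain ⟨g, hg⟩ := isConj_iff.1 z.2
      refine isConj_iff.2 ⟨⟨((e.symm g : E₀) : G), S.hyp.le (e.symm g).2⟩, Subtype.ext ?_⟩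
      rw [← hg, map_mul, map_mul, map_inv, e.symm_apply_apply]
      rfl
    · refine Subtype.ext (Subtype.ext ?_)
      simp
    · exact Subtype.ext (e.apply_symm_apply _)
  set q := Fintype.card F with hq
  have hq1 : q * q - 1 = (q - 1) * (q + 1) := by
    obtain ⟨m, hm⟩ : ∃ m, q = m + 1 := ⟨q - 1, by omega⟩
    rw [hm, Nat.add_sub_cancel, show (m + 1) * (m + 1) = m * (m + 1 + 1) + 1 by ring, Nat.add_sub_cancel]
  rw [hcount]
  rw [hq1, ← mul_assoc, ← hmul, ← mul_assoc] at hP
  exact Nat.eq_of_mul_eq_mul_right (by omega : 0 < q + 1) hP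

/-- The count against a twisted function of the table. -/
theorem inner_pairCount_twist {μ : E →* ℂˣ} (hμ : ∀ y : E, (y : G) ∈ E₀ → μ y = 1) (f : E → ℂ) :
    classInner pairCount (fun y => conj (twist μ f y)) = conj (classInner pairCount f) := by
  classical
  rw [classInner_def, classInner_def, map_mul, map_inv₀, map_natCast, map_sum]
  congr 1
  refine Finset.sum_congr rfl fun y _ => ?_
  rcases isEmpty_or_nonempty {w : E // orderOf w = 2 ∧ (w * y) * (w * y) = 1} with he | ⟨w, hw, hwy⟩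
  · simp [pairCount]
  · rw [pairCount, map_mul, map_mul, map_ofNat, map_natCast, twist]
    by_cases hy : (y : G) ∈ E₀
    · rw [hμ y hy, Units.val_one, one_mul, Complex.conj_conj]
    · by_cases hwy1 : w * y = 1
      · rw [eq_inv_of_mul_eq_one_right hwy1, Subgroup.coe_inv] at hy
        exact absurd (inv_mem (S.conj_E hw hw).1) hy
      · have hwy2 : orderOf (w * y) = 2 := orderOf_eq_prime (by rw [pow_two, hwy]) hwy1
        refine absurd ?_ hy
        have := mul_mem (inv_mem (S.conj_E hw hw).1) (S.conj_E hwy2 hwy2).1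
        simpa using this

end Count

/-- The value at the involution from the coordinates. -/
theorem rowW_smul (Q c : ℤ) (r : ℤ × ℤ × ℤ) : rowW Q (c * r.1, c * r.2.1, c * r.2.2) = c * rowW Q r := by
  simp only [rowW]; ring

/-- The rows of every twist. -/
theorem rowsSpec : RowsSpec.{u} := by
  intro G _ _ t E E₀ _ F _ _ S h8 _ M T P μ hμ
  classical
  set Q := signedCard F with hQ
  set h : ℤ := ((Subgroup.centralizer ({t} : Set G)).index : ℤ) with hh
  have hsc : Q = -(Fintype.card F : ℤ) := by rw [hQ, signedCard, if_neg (by omega)]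
  have hQ8 : Q % 8 = 5 := by omega
  have hsp : ∀ a, IsSpecial (twist μ (fn T a)) := fun a => special_twist μ (T.special 1 _)
  choose n hn using fun a χ => S.coord_int (hsp a) χ
  obtain ⟨p0, p1, p2, p3⟩ : T.ps 0 1 = 1 ∧ T.ps 1 1 = (Q : ℂ) ∧ T.ps 2 1 = -(midVal Q : ℂ) ∧
      T.ps 3 1 = -(midVal Q : ℂ) := by
    have h0 : T.ps 0 1 = 1 := congrFun T.ps_zero 1
    have hr := T.regular 1 (by simp)
    rw [Fin.sum_univ_four] at hr
    change T.ps 0 1 + T.ps 1 1 + T.ps 2 1 + T.ps 3 1 = 0 at hr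
    obtain ⟨hA, hB⟩ := P.mid
    simp only [KTable.A, KTable.B, Pi.neg_apply, ← hQ] at hA hB
    have h2 : (2 : ℂ) * midVal Q = Q + 1 := by
      have : 2 * midVal Q = Q + 1 := by unfold midVal; omega
      exact_mod_cast this
    exact ⟨h0, by linear_combination hr - h0 + hA + hB + h2, by linear_combination -hA, by linear_combination -hB⟩
  set N : IrrCharacter G → ℤ × ℤ × ℤ := fun χ => (n 0 χ, n 1 χ, n 2 χ) with hN
  have hval : ∀ χ, N χ ≠ 0 → (χ : G → ℂ) t = ((rowW Q (N χ) : ℤ) : ℂ) := by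
    intro χ hne
    have hor : coord t E χ (twist μ (fn T 0)) ≠ 0 ∨ coord t E χ (twist μ (fn T 1)) ≠ 0 ∨
        coord t E χ (twist μ (fn T 2)) ≠ 0 := by
      simp only [hn, ne_eq, Int.cast_eq_zero]
      by_contra hc
      push Not at hc
      exact hne (by simp [hN, hc.1, hc.2.1, hc.2.2])
    have h := ((P.sep μ hμ χ hor).1 1 (by simp))
    rw [sectVal, OneMemClass.coe_one, mul_one, map_one, Units.val_one, one_mul] at h
    obtain ⟨hA, hB⟩ := P.mid
    rw [h, hA, hB, show twist μ T.x = twist μ (fn T 0) from rfl, show twist μ T.al = twist μ (fn T 1) from rfl,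
      show twist μ T.be = twist μ (fn T 2) from rfl, hn, hn, hn, rowW, hN, ← hQ]
    push_cast
    ring
  -- the decomposition of the scalar products
  have hg : ∀ a < 3, ∀ b < 3, GramSplit.get gramFull a b = ∑ χ ∈ Finset.univ, n a χ * n b χ := by
    intro a ha b hb
    apply Int.cast_injective (α := ℂ)
    have h := S.isometry (hsp a) (hsp b)
    simp only [hn, map_intCast, inner_twist] at h
    push_cast
    rw [h, TwentySeven.fn, TwentySeven.fn, classInner_sub_left, classInner_sub_right, classInner_sub_right, T.inner_ps, T.inner_ps,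
      T.inner_ps, T.inner_ps]
    interval_cases a <;> interval_cases b <;> norm_num [Fin.ext_iff, GramSplit.get, gramFull]
  obtain ⟨L₀, hnd₀, -, hrest₀, l, hl, hp⟩ := sound fullSols n (kn := []) (by simp) fullCert gramFull [] []
    fullCert_ok Finset.univ hg (fun x _ => List.not_mem_nil)
  have hzero : ∀ χ, χ ∉ L₀ → ∀ a < 3, n a χ = 0 := fun χ hχ => hrest₀ χ (Finset.mem_univ χ) hχ
  set sg : IrrCharacter G → ℤ := fun χ => if nrm (GramSplit.col 3 n χ) = GramSplit.col 3 n χ then 1 else -1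
    with hsg
  set row : IrrCharacter G → ℤ × ℤ × ℤ := fun χ => triple (nrm (GramSplit.col 3 n χ)) with hrow
  have hsq : ∀ χ, sg χ * sg χ = 1 := fun χ => by simp only [hsg]; split_ifs <;> rfl
  have hent : ∀ χ, ∀ a < 3, ent (nrm (GramSplit.col 3 n χ)) a = sg χ * n a χ := by
    intro x a ha
    simp only [hsg]
    split_ifs with he
    · rw [he, GramSplit.ent_col ha, one_mul]
    · rw [(GramSplit.nrm_sign _).resolve_left he]
      simp [ent, GramSplit.col, List.getD_eq_getElem?_getD, ha]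
  have hrowN : ∀ χ, row χ = (sg χ * n 0 χ, sg χ * n 1 χ, sg χ * n 2 χ) := fun χ => by
    simp only [hrow, triple, hent χ 0 (by norm_num), hent χ 1 (by norm_num), hent χ 2 (by norm_num)]
  have hw : ∀ χ, rowW Q (row χ) = sg χ * rowW Q (N χ) := fun χ => by rw [hrowN, ← rowW_smul]
  have hmap : (L₀.map row).Perm (l.map triple) := by
    have := (by simpa using hp : (L₀.map fun χ => nrm (GramSplit.col 3 n χ)).Perm l).map triple
    rwa [List.map_map] at this
  have hne0 : ∀ χ ∈ L₀, N χ ≠ 0 := by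
    intro χ hχ e
    have hnz : (0, 0, 0) ∉ l.map triple := by
      simp only [fullSols, List.mem_cons, List.not_mem_nil, or_false] at hl
      rcases hl with rfl | rfl | rfl | rfl | rfl | rfl | rfl | rfl | rfl | rfl | rfl | rfl <;> decide
    refine hnz (hmap.mem_iff.1 (List.mem_map.2 ⟨χ, hχ, ?_⟩))
    simp only [hN, Prod.ext_iff, Prod.fst_zero, Prod.snd_zero] at e
    rw [hrowN, e.1, e.2.1, e.2.2]
    simp
  set d : IrrCharacter G → ℤ := fun χ => sg χ * (deg (χ : G → ℂ) : ℤ) with hd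
  have hd0 : ∀ χ, d χ ≠ 0 := fun χ => mul_ne_zero (left_ne_zero_of_mul_eq_one (hsq χ))
    (by exact_mod_cast (deg_irr_pos χ).ne')
  have hcongr : ∀ χ ∈ L₀, (8 : ℤ) ∣ d χ - rowW Q (row χ) := fun χ hχ => by
    rw [hw, hd, ← mul_sub]
    exact (TwentySeven.congr_eight S χ (hval χ (hne0 χ hχ))).mul_left _
  have hcol : ∀ a < 3, ∀ L : List (IrrCharacter G), L.Perm L₀ →
      (L.map fun χ => ent (nrm (GramSplit.col 3 n χ)) a * d χ).sum = 0 := by
    intro a ha L hL
    rw [List.map_congr_left (g := fun χ => n a χ * (deg (χ : G → ℂ) : ℤ)) (fun χ _ => by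
      rw [hent χ a ha, hd]; linear_combination (n a χ * (deg (χ : G → ℂ) : ℤ)) * hsq χ),
      ← List.sum_toFinset _ (hL.nodup_iff.2 hnd₀), Finset.sum_subset (Finset.subset_univ _) fun χ _ hχ => by
        rw [hzero χ (fun m => hχ (List.mem_toFinset.2 (hL.mem_iff.2 m))) a ha, zero_mul]]
    apply Int.cast_injective (α := ℂ)
    have h := S.odd_sum (hsp a) (g := 1) (by simp)
    simp only [hn, irr_apply_one_eq_deg] at h
    push_cast
    exact h
  -- only two systems
  obtain ⟨L₁, hL₁, hmap₁⟩ := exists_perm_map row hmap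
  have htwo := systems_two (M := L₁.map fun χ => (row χ, d χ)) hl (by rw [List.map_map]; exact hmap₁) hQ8
    (fun p hp' => by obtain ⟨χ, -, rfl⟩ := List.mem_map.1 hp'; exact hd0 χ)
    (fun p hp' => by obtain ⟨χ, hχ, rfl⟩ := List.mem_map.1 hp'; exact hcongr χ (hL₁.mem_iff.1 hχ))
    (by rw [List.map_map]; exact hcol 0 (by norm_num) L₁ hL₁) (by rw [List.map_map]; exact hcol 1 (by norm_num) L₁ hL₁)
    (by rw [List.map_map]; exact hcol 2 (by norm_num) L₁ hL₁)
  obtain ⟨K, hK, hpK⟩ : ∃ K, (K = eight ∨ K = seven) ∧ (L₀.map row).Perm K := by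
    rcases htwo with e | e
    · exact ⟨eight, Or.inl rfl, hmap.trans e⟩
    · exact ⟨seven, Or.inr rfl, hmap.trans e⟩
  obtain ⟨L, hL, hLK⟩ := exists_perm_map row hpK
  have hnd : L.Nodup := hL.nodup_iff.2 hnd₀
  have hmem : ∀ χ, χ ∈ L → χ ∈ L₀ := fun χ => hL.mem_iff.1
  obtain ⟨A, hA2, hone, hk⟩ := exists_invol_three S h8
  have hcount : ∀ a < 3, ∀ c : ℤ, (4 : ℂ) * (Nat.card {x : E // IsConj A x} : ℂ) ^ 2 *
        conj ((T.ps 1 1)⁻¹ - (T.ps (if a = 0 then 0 else if a = 1 then 2 else 3) 1)⁻¹) = (c : ℂ) →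
      (h : ℚ) * (L.map fun χ => (ent (nrm (GramSplit.col 3 n χ)) a : ℚ) * (rowW Q (row χ) : ℚ) ^ 2 /
        (d χ : ℚ)).sum = (c : ℚ) := by
    intro a ha c hc
    rw [List.map_congr_left (g := fun χ => (n a χ : ℚ) * (rowW Q (N χ) : ℚ) ^ 2 / (deg (χ : G → ℂ) : ℚ))
      (fun χ _ => by
        rw [hent χ a ha, hw]
        simp only [hd]
        rcases mul_self_eq_one_iff.1 (hsq χ) with e | e <;> rw [e] <;> push_cast <;> ring),
      ← List.sum_toFinset _ hnd]
    apply Rat.cast_injective (α := ℂ)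
    have h := S.count (special_conj (hsp a))
    simp only [Complex.conj_conj, hn] at h
    rw [← Finset.sum_subset (s₁ := L.toFinset) (Finset.subset_univ _) fun χ _ hχ => by
      rw [hzero χ (fun m => hχ (List.mem_toFinset.2 (hL.mem_iff.2 m))) a ha]; simp] at h
    rw [inner_pairCount_twist S hμ, TwentySeven.fn, TwentySeven.inner_pairCount T hA2 hone] at h
    push_cast
    rw [Finset.sum_congr rfl fun χ hχ => show ((n a χ : ℂ) * ((rowW Q (N χ) : ℤ) : ℂ) ^ 2) /
        ((deg (χ : G → ℂ) : ℕ) : ℂ) = (χ : G → ℂ) t ^ 2 * (n a χ : ℂ) / (χ : G → ℂ) 1 by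
      rw [hval χ (hne0 χ (hmem χ (List.mem_toFinset.1 hχ))), irr_apply_one_eq_deg, mul_comm], h, ← hc]
    have hE0 : (Nat.card E : ℂ) ≠ 0 := by exact_mod_cast Nat.card_pos.ne'
    have hi0 : ((Subgroup.centralizer ({t} : Set G)).index : ℂ) ≠ 0 := by
      exact_mod_cast Subgroup.index_ne_zero_of_finite
    have hCE : (Nat.card (Subgroup.centralizer ({t} : Set G)) : ℂ) = 2 * (Nat.card E : ℂ) := by
      exact_mod_cast S.card_C
    have hG : (Nat.card G : ℂ) = (Subgroup.centralizer ({t} : Set G)).index *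
        (Nat.card (Subgroup.centralizer ({t} : Set G)) : ℂ) := by
      rw [← Nat.cast_mul, Subgroup.index_mul_card]
    rw [hG, hCE, map_mul, map_div₀, map_mul, map_pow, map_ofNat, map_natCast, map_natCast, hh]
    push_cast
    field_simp
    ring
  have hkC : 2 * (Nat.card {x : E // IsConj A x} : ℂ) = (Q : ℂ) * (Q + 1) := by
    have h1 : (2 * Nat.card {x : E // IsConj A x} : ℤ) = Q * (Q + 1) := by
      have h2 := congrArg (Nat.cast : ℕ → ℤ) hk
      push_cast [Nat.cast_sub (show 1 ≤ Fintype.card F from Fintype.card_pos)] at h2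
      rw [hsc]
      linear_combination h2
    exact_mod_cast h1
  have hQ0 : (Q : ℂ) ≠ 0 := by exact_mod_cast (show Q ≠ 0 by omega)
  have hM0 : (midVal Q : ℂ) ≠ 0 := by exact_mod_cast (show midVal Q ≠ 0 by unfold midVal; omega)
  have h2M : (2 : ℂ) * midVal Q = Q + 1 := by
    exact_mod_cast (show 2 * midVal Q = Q + 1 by unfold midVal; omega)
  refine ⟨
    { L := L
      row := row
      sg := sg
      nodup := hnd
      kind := by rcases hK with rfl | rfl; exacts [Or.inl hLK, Or.inr hLK]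
      sg_sq := hsq
      coords := fun χ _ => ?_
      rest := fun χ hχ => ?_
      at_t := fun χ hχ => ?_
      congr := fun χ hχ => hcongr χ (hmem χ hχ)
      dvd := fun χ hχ => ?_
      cols := ⟨hcol 0 (by norm_num) L hL, hcol 1 (by norm_num) L hL, hcol 2 (by norm_num) L hL⟩
      counts := ?_ }⟩
  · have e : ∀ a, ((sg χ * (sg χ * n a χ) : ℤ) : ℂ) = (n a χ : ℂ) := fun a => by
      rw [← mul_assoc, hsq, one_mul]
    rw [hrowN, show twist μ T.x = twist μ (fn T 0) from rfl, show twist μ T.al = twist μ (fn T 1) from rfl,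
      show twist μ T.be = twist μ (fn T 2) from rfl, hn, hn, hn]
    exact ⟨(e 0).symm, (e 1).symm, (e 2).symm⟩
  · have hz := hzero χ fun m => hχ (hL.mem_iff.2 m)
    rw [show twist μ T.x = twist μ (fn T 0) from rfl, show twist μ T.al = twist μ (fn T 1) from rfl,
      show twist μ T.be = twist μ (fn T 2) from rfl, hn, hn, hn, hz 0 (by norm_num), hz 1 (by norm_num),
      hz 2 (by norm_num)]
    simp
  · rw [hval χ (hne0 χ (hmem χ hχ)), hw, ← mul_assoc, hsq, one_mul]
  · have hdv := TwentySeven.dvd_index_mul S χ (hval χ (hne0 χ (hmem χ hχ)))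
    rw [hw]
    rcases mul_self_eq_one_iff.1 (hsq χ) with e | e <;> rw [e] <;> simpa using hdv
  · have e0 := hcount 0 (by norm_num) (-(Q + 1) * Q * (Q ^ 2 - 1)) (by
      simp only [if_true, p1, p0, map_sub, map_inv₀, map_one, map_intCast]
      push_cast
      field_simp
      linear_combination ((1 - (Q : ℂ)) * (2 * (Nat.card {x : E // IsConj A x} : ℂ) + Q * (Q + 1))) * hkC)
    have e1 : ∀ a, a = 1 ∨ a = 2 → (4 : ℂ) * (Nat.card {x : E // IsConj A x} : ℂ) ^ 2 *
        conj ((T.ps 1 1)⁻¹ - (T.ps (if a = 0 then 0 else if a = 1 then 2 else 3) 1)⁻¹) =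
          (((3 * Q + 1) * Q * (Q + 1) : ℤ) : ℂ) := by
      rintro a (rfl | rfl)
      all_goals
        simp only [if_true, if_false, one_ne_zero, OfNat.ofNat_ne_zero, OfNat.ofNat_ne_one, p1, p2, p3, map_sub,
          map_inv₀, map_neg, map_intCast]
        push_cast
        field_simp
        linear_combination (((midVal Q : ℂ) + Q) * (2 * (Nat.card {x : E // IsConj A x} : ℂ) + Q * (Q + 1))) * hkC -
          (Q : ℂ) ^ 3 * ((Q : ℂ) + 1) * h2M
    refine ⟨?_, ?_, ?_⟩
    · simpa [hrow, hd, triple, hh] using e0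
    · simpa [hrow, hd, triple, hh] using hcount 1 (by norm_num) _ (e1 1 (Or.inl rfl))
    · simpa [hrow, hd, triple, hh] using hcount 2 (by norm_num) _ (e1 2 (Or.inr rfl))

end Cfsg.Lib.Ree.Three
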