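import Cfsg.Agent.Ree.Three.FuncE
import Cfsg.Agent.Ree.Three.Rows
import Cfsg.Agent.Ree.Three.Model
import Cfsg.Agent.Ree.Twist.Restrict
import Cfsg.Agent.Chars.Count
import Cfsg.Agent.Blocks.SmallOrder.Basic

/-!
The coordinate side of the instance of `Model`: the rows of all the blocks, the order, and the action of the power
maps on the rows (`notes/ree_three_h4.md`).
-/

set_option autoImplicit false
set_option linter.style.haveILetI false
set_option linter.unusedSectionVars false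

namespace Cfsg.Lib.Ree.Three

open Subgroup Cfsg Cfsg.Lib.Chars Cfsg.Lib.Ree Cfsg.Lib.Blocks
open scoped ComplexConjugate

universe u

attribute [local instance 10] _root_.Classical.propDecidable

/-- The signs of the entries determine a signed row. -/
theorem row_sign : ∀ b : Bool, ∀ r ∈ eight ++ seven, ∀ r' ∈ eight ++ seven, ∀ s ∈ ([1, -1] : List ℤ),
    ∀ s' ∈ ([1, -1] : List ℤ),
    (s' * r'.1, s' * r'.2.1, s' * r'.2.2) =
        (s * (swapRow b r).1, s * (swapRow b r).2.1, s * (swapRow b r).2.2) →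
      r' = swapRow b r ∧ s' = s := by
  decide +kernel

theorem row_ne_zero : ∀ r ∈ eight ++ seven, r ≠ (0, 0, 0) := by decide

theorem mem_sign {s : ℤ} (h : s * s = 1) : s ∈ ([1, -1] : List ℤ) := by
  rcases mul_self_eq_one_iff.1 h with e | e <;> simp [e]

variable {G : Type u} [Group G] [Fintype G] {t : G} {E E₀ : Subgroup G} [Fintype E] {k : ℕ}

/-- The rows of all the blocks. -/
structure Coords (Φ : TFrame t E E₀ k) {M : Ideal AlgInt} (T : Twist.KTable E M) (Q : ℤ) where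
  rows : ∀ ν : Φ.Phi →* ℂˣ, RowData t E T Q (Φ.mu ν)

namespace Coords

variable {Φ : TFrame t E E₀ k} {M : Ideal AlgInt} {T : Twist.KTable E M} {Q : ℤ} (C : Coords Φ T Q)

/-- The signed row, zero outside the block. -/
noncomputable def crd (ν : Φ.Phi →* ℂˣ) (χ : IrrCharacter G) : ℤ × ℤ × ℤ :=
  if χ ∈ (C.rows ν).L then
    ((C.rows ν).sg χ * ((C.rows ν).row χ).1, (C.rows ν).sg χ * ((C.rows ν).row χ).2.1,
      (C.rows ν).sg χ * ((C.rows ν).row χ).2.2)
  else (0, 0, 0)

theorem coord_eq (ν : Φ.Phi →* ℂˣ) (χ : IrrCharacter G) :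
    coord t E χ (Twist.twist (Φ.mu ν) T.x) = ((C.crd ν χ).1 : ℂ) ∧
      coord t E χ (Twist.twist (Φ.mu ν) T.al) = ((C.crd ν χ).2.1 : ℂ) ∧
      coord t E χ (Twist.twist (Φ.mu ν) T.be) = ((C.crd ν χ).2.2 : ℂ) := by
  by_cases h : χ ∈ (C.rows ν).L
  · rw [crd, if_pos h]; exact (C.rows ν).coords χ h
  · rw [crd, if_neg h]
    simp only [Int.cast_zero]
    exact (C.rows ν).rest χ h

theorem row_mem (ν : Φ.Phi →* ℂˣ) {χ : IrrCharacter G} (h : χ ∈ (C.rows ν).L) :
    (C.rows ν).row χ ∈ eight ++ seven := by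
  rcases (C.rows ν).kind with e | e
  · exact List.mem_append_left _ (e ▸ List.mem_map.2 ⟨χ, h, rfl⟩)
  · exact List.mem_append_right _ (e ▸ List.mem_map.2 ⟨χ, h, rfl⟩)

theorem crd_ne_zero_iff (ν : Φ.Phi →* ℂˣ) (χ : IrrCharacter G) : C.crd ν χ ≠ (0, 0, 0) ↔ χ ∈ (C.rows ν).L := by
  by_cases h : χ ∈ (C.rows ν).L
  · refine iff_of_true (fun e => row_ne_zero _ (C.row_mem ν h) ?_) h
    have hs : (C.rows ν).sg χ ≠ 0 := left_ne_zero_of_mul_eq_one ((C.rows ν).sg_sq χ)
    rw [crd, if_pos h] at e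
    simp only [Prod.ext_iff, mul_eq_zero, hs, false_or] at e
    exact Prod.ext e.1 (Prod.ext e.2.1 e.2.2)
  · refine iff_of_false (fun e => e ?_) h
    rw [crd, if_neg h]

theorem crd_coord_ne {ν : Φ.Phi →* ℂˣ} {χ : IrrCharacter G} (h : χ ∈ (C.rows ν).L) :
    coord t E χ (Twist.twist (Φ.mu ν) T.x) ≠ 0 ∨ coord t E χ (Twist.twist (Φ.mu ν) T.al) ≠ 0 ∨
      coord t E χ (Twist.twist (Φ.mu ν) T.be) ≠ 0 := by
  by_contra hc
  push Not at hc
  obtain ⟨e1, e2, e3⟩ := C.coord_eq ν χ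
  rw [e1] at hc
  rw [e2, e3] at hc
  simp only [Int.cast_eq_zero] at hc
  exact (C.crd_ne_zero_iff ν χ).2 h (Prod.ext hc.1 (Prod.ext hc.2.1 hc.2.2))

variable {F : Type} [Field F] [Fintype F] (P : Field.TwistFacts t E E₀ F T)

include P in
theorem disjoint (ν ν' : Φ.Phi →* ℂˣ) (χ : IrrCharacter G) (h : χ ∈ (C.rows ν).L) (h' : χ ∈ (C.rows ν').L) :
    ν = ν' := by
  by_contra hne
  have h0 := (P.sep (Φ.mu ν) (Φ.mu_E0 ν) χ (C.crd_coord_ne h)).2 (Φ.mu ν') (Φ.mu_E0 ν')
    fun e => hne (Φ.mu_injective e).symm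
  rcases C.crd_coord_ne h' with e | e | e
  exacts [e h0.1, e h0.2.1, e h0.2.2]

variable (S : Twist.Setting t E E₀ F)

include P S in
/-- No member of a block of a nontrivial twist is linear. -/
theorem linear {ν : Φ.Phi →* ℂˣ} (hν : ν ≠ 1) {χ : IrrCharacter G} (h : χ ∈ (C.rows ν).L) :
    deg (χ : G → ℂ) ≠ 1 := by
  intro hd
  have hperf : commutator G = ⊤ := by
    haveI := S.simple
    refine (IsSimpleGroup.eq_bot_or_eq_top_of_normal (commutator G) inferInstance).resolve_left fun h => S.nab ?_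
    exact ⟨⟨fun x y => (commutatorElement_eq_one_iff_mul_comm).1 (Subgroup.mem_bot.1 (h ▸ by
      rw [commutator_def]; exact Subgroup.commutator_mem_commutator (Subgroup.mem_top x) (Subgroup.mem_top y)))⟩⟩
  set o : IrrCharacter G := Chars.principal G
  have hχ : χ = o := by
    rw [Cfsg.Lib.Blocks.SmallOrder.eq_one_of_deg_one hperf hd]
    rfl
  subst hχ
  have hone : ∀ f : E → ℂ, Twist.twist (1 : E →* ℂˣ) f = f := fun f => funext fun y => by simp [Twist.twist]
  have hx : coord t E o (Twist.twist (1 : E →* ℂˣ) T.x) = -1 := by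
    rw [coord, show sectVal t E o = T.ps 0 by rw [T.ps_zero]; rfl, hone, Twist.KTable.x, classInner_sub_right,
      T.inner_ps, T.inner_ps]
    simp
  have h0 := (P.sep 1 (fun _ _ => rfl) o (Or.inl (by rw [hx]; norm_num))).2 (Φ.mu ν) (Φ.mu_E0 ν)
    fun e => hν (Φ.mu_injective (e.trans (show (1 : E →* ℂˣ) = Φ.mu 1 from MonoidHom.ext fun _ => rfl)))
  rcases C.crd_coord_ne h with e | e | e
  exacts [e h0.1, e h0.2.1, e h0.2.2]

end Coords

section

variable (Φ : TFrame t E E₀ k) {F : Type} [Field F] [Fintype F] (S : Twist.Setting t E E₀ F)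
include S

theorem exists_coords (h8 : Fintype.card F % 8 = 3) (h27 : 27 < Fintype.card F) {M : Ideal AlgInt}
    {T : Twist.KTable E M} (P : Field.TwistFacts t E E₀ F T) : Nonempty (Coords Φ T (signedCard F)) :=
  ⟨⟨fun ν => (rowsSpec G t E E₀ F S h8 h27 M T P (Φ.mu ν) (Φ.mu_E0 ν)).some⟩⟩

theorem base_three (h8 : Fintype.card F % 8 = 3) (hq : ∃ n, Fintype.card F = 3 ^ n)
    (hbig : 243 ≤ Fintype.card F) :
    Base (signedCard F) ((Subgroup.centralizer ({t} : Set G)).index : ℤ) := by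
  have hQ : signedCard F = -(Fintype.card F : ℤ) := by rw [signedCard, if_neg (by omega)]
  obtain ⟨n, hn⟩ := hq
  refine ⟨?_, ?_, by omega, by omega, ?_, (Int.odd_coe_nat _).2 S.index_odd⟩
  · rw [hQ, Int.natAbs_neg, Int.natAbs_natCast]
    exact FiniteField.isPrimePow_card F
  · rw [hQ, dvd_neg, hn, Nat.cast_pow]
    refine dvd_pow (dvd_refl _) fun h0 => ?_
    rw [h0, pow_zero] at hn
    omega
  · exact_mod_cast Nat.pos_of_ne_zero Subgroup.index_ne_zero_of_finite

/-- The order of the group. -/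
theorem order_eq (h8 : Fintype.card F % 8 = 3) (hcard : Nat.card Φ.Phi = E₀.relIndex E) :
    ∑ χ : IrrCharacter G, (deg (χ : G → ℂ) : ℤ) ^ 2 =
      ((Subgroup.centralizer ({t} : Set G)).index : ℤ) * (Nat.card Φ.Phi : ℤ) * (-signedCard F) *
        (signedCard F ^ 2 - 1) := by
  have hQ : signedCard F = -(Fintype.card F : ℤ) := by rw [signedCard, if_neg (by omega)]
  obtain ⟨f⟩ := S.hyp.iso
  have hv : orderOf (⟨Φ.v, Φ.vE⟩ : E₀) = 2 := (Subgroup.orderOf_mk _ _).trans Φ.v_ord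
  have h2 := (PSL.involution_centralizer S.hyp.odd
    (show orderOf (f ⟨Φ.v, Φ.vE⟩) = 2 by rw [f.orderOf_eq, hv])).1
  rw [← Nat.card_congr f.toEquiv] at h2
  have hE : Nat.card E₀ * E₀.relIndex E = Nat.card E := by
    rw [Subgroup.relIndex, ← Nat.card_congr (Subgroup.subgroupOfEquivOfLe S.hyp.le).toEquiv,
      Subgroup.card_mul_index]
  have hG : (Nat.card G : ℤ) = ((Subgroup.centralizer ({t} : Set G)).index : ℤ) * (2 * (Nat.card E : ℤ)) := by
    have := Subgroup.index_mul_card (Subgroup.centralizer ({t} : Set G))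
    rw [S.card_C] at this
    exact_mod_cast this.symm
  have hs : (∑ χ : IrrCharacter G, (deg (χ : G → ℂ) : ℤ) ^ 2) = (Nat.card G : ℤ) := by
    have := sum_deg_sq_nat (G := G)
    exact_mod_cast this
  rw [hs, hG, hcard, hQ, ← hE]
  have hq1 : 1 ≤ Fintype.card F * Fintype.card F := Nat.mul_pos (by omega) (by omega)
  have h2' := congrArg (Nat.cast : ℕ → ℤ) h2
  push_cast [Nat.cast_sub hq1] at h2' ⊢
  linear_combination ((Subgroup.centralizer ({t} : Set G)).index : ℤ) * (E₀.relIndex E : ℤ) * h2'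

end

/-! ### The power maps -/

section Galois

variable (Φ : TFrame t E E₀ k) {j : ℕ} (hj : j.Coprime (Nat.card G))

theorem coprime_E (H : Subgroup G) [Finite H] (hj : j.Coprime (Nat.card G)) : j.Coprime (Nat.card H) :=
  Nat.Coprime.coprime_dvd_right (Subgroup.card_subgroup_dvd_card H) hj

/-- The power map on the blocks. -/
noncomputable def bpow : (Φ.Phi →* ℂˣ) ≃ (Φ.Phi →* ℂˣ) :=
  haveI : Finite (Φ.Phi →* ℂˣ) := Φ.dual_finite
  Equiv.ofBijective (fun ν => (powMonoidHom j).comp ν) (Finite.injective_iff_bijective.1 fun ν ν' h => by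
    refine MonoidHom.ext fun p => ?_
    obtain ⟨p', rfl⟩ := (powCoprime (coprime_E Φ.Phi hj).symm).surjective p
    show ν (p' ^ j) = ν' (p' ^ j)
    rw [map_pow, map_pow]
    exact DFunLike.congr_fun h p')

theorem bpow_apply (ν : Φ.Phi →* ℂˣ) (p : Φ.Phi) : bpow Φ hj ν p = ν p ^ j := rfl

theorem bpow_injective_iff (ν : Φ.Phi →* ℂˣ) : Function.Injective (bpow Φ hj ν) ↔ Function.Injective ν := by
  have key : ∀ p, bpow Φ hj ν p = ν (p ^ j) := fun p => by rw [bpow_apply, map_pow]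
  have hb := (powCoprime (coprime_E Φ.Phi hj).symm).bijective
  constructor
  · intro h a b e
    obtain ⟨a', rfl⟩ := hb.2 a
    obtain ⟨b', rfl⟩ := hb.2 b
    exact congrArg _ (h ((key a').trans (Eq.trans e (key b').symm)))
  · intro h a b e
    rw [key, key] at e
    exact hb.1 (h e)

variable (hodd : Odd j) {M : Ideal AlgInt} (hM : IsPModular 2 M) {T : Twist.KTable E M}
  {F : Type} [Field F] [Fintype F] (S : Twist.Setting t E E₀ F) (hq : ∃ n, Fintype.card F = 3 ^ n)
  (P : Field.TwistFacts t E E₀ F T)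

include Φ S hM hj in
/-- The power map permutes the members of the principal block of `E`. -/
theorem exists_member (i : Fin 4) : ∃ i', ∀ y : E, T.ps i' y = T.ps i (y ^ j) := by
  set θ := powPerm (coprime_E E hj) (T.mem i) with hθ
  set z : E := ⟨Φ.v, S.hyp.le Φ.vE⟩
  have hz : orderOf z = 2 := (Subgroup.orderOf_mk _ _).trans Φ.v_ord
  have hev : ∀ g : E, 2 ∣ orderOf g → (θ : E → ℂ) g = (T.sg i : ℂ) := fun g hg => by
    rw [hθ, powPerm_apply]
    refine T.even i _ ?_
    rwa [Nat.Coprime.orderOf_pow]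
    exact (Nat.Coprime.coprime_dvd_right (orderOf_dvd_natCard g) (coprime_E E hj)).symm
  have hne : (T.sg i : ℂ) ≠ 0 := by exact_mod_cast left_ne_zero_of_mul_eq_one (T.sg_sq i)
  obtain ⟨i', hi'⟩ := (T.block θ).1 (Twist.mem_principal_of_even hM hne hz hev)
  refine ⟨i', fun y => ?_⟩
  have hs : (T.sg i' : ℂ) = T.sg i := by
    rw [← T.even i' z (dvd_of_eq hz.symm), hi']
    exact hev z (dvd_of_eq hz.symm)
  show (T.sg i' : ℂ) * (T.mem i' : E → ℂ) y = (T.sg i : ℂ) * (T.mem i : E → ℂ) (y ^ j)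
  rw [hs, hi', hθ, powPerm_apply]

theorem ps_inj {i i' : Fin 4} (h : T.ps i = T.ps i') : i = i' := by
  by_contra hne
  have h1 := T.inner_ps i i'
  rw [if_neg hne, ← h, T.inner_ps, if_pos rfl] at h1
  exact one_ne_zero h1

include hodd S hj in
theorem coord_pow {i i' m m' : Fin 4} (hi : ∀ y : E, T.ps i' y = T.ps i (y ^ j))
    (hm : ∀ y : E, T.ps m' y = T.ps m (y ^ j)) (ν : Φ.Phi →* ℂˣ) (χ : IrrCharacter G) :
    coord t E (powPerm hj χ) (Twist.twist (Φ.mu (bpow Φ hj ν)) (T.ps i' - T.ps m')) =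
      coord t E χ (Twist.twist (Φ.mu ν) (T.ps i - T.ps m)) := by
  rw [S.coord_apply, S.coord_apply]
  congr 1
  refine Fintype.sum_equiv (powCoprime (coprime_E E hj).symm) _ _ fun y => ?_
  have hmu : Φ.mu (bpow Φ hj ν) y = Φ.mu ν (y ^ j) := by
    rw [map_pow]
    rfl
  have ht : (t * (y : G)) ^ j = t * ((y ^ j : E) : G) := by
    rw [(S.hyp.comm _ y.2).mul_pow, Subgroup.coe_pow]
    obtain ⟨l, rfl⟩ := hodd
    rw [pow_succ, pow_mul, pow_two, S.tt, one_pow, one_mul]
  rw [powPerm_apply, ht]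
  simp only [Twist.twist, Pi.sub_apply, hmu, hi, hm]
  rfl

include hM S hq P hodd hj in
/-- The power map on the rows. -/
theorem exists_gal_swap : ∃ b : Bool, ∀ (C : Coords Φ T (signedCard F)) (ν : Φ.Phi →* ℂˣ) (χ : IrrCharacter G),
    (powPerm hj χ ∈ (C.rows (bpow Φ hj ν)).L ↔ χ ∈ (C.rows ν).L) ∧
      (χ ∈ (C.rows ν).L → (C.rows (bpow Φ hj ν)).row (powPerm hj χ) = swapRow b ((C.rows ν).row χ) ∧
        (C.rows (bpow Φ hj ν)).sg (powPerm hj χ) = (C.rows ν).sg χ) := by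
  choose σ hσ using fun i => exists_member Φ hj hM S (T := T) i
  have hpj : Function.Surjective fun y : E => y ^ j := (powCoprime (coprime_E E hj).symm).surjective
  have hσinj : Function.Injective σ := fun a b e => ps_inj (funext fun y => by
    obtain ⟨y', rfl⟩ := hpj y
    show T.ps a (y' ^ j) = T.ps b (y' ^ j)
    rw [← hσ a, ← hσ b, e])
  have h0 : σ 0 = 0 := ps_inj (T := T) (funext fun y => by rw [hσ 0, T.ps_zero])
  have h1 : σ 1 = 1 := ps_inj (T := T) (funext fun y => by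
    obtain ⟨n, hn⟩ := hq
    rw [hσ 1, P.steinberg 3 n Nat.prime_three hn, P.steinberg 3 n Nat.prime_three hn]
    have hfix : Field.fixCount E₀ 3 ((y ^ j : E) : G) = Field.fixCount E₀ 3 (y : G) := by
      refine Nat.card_congr (Equiv.subtypeEquivRight fun R => ?_)
      rw [Subgroup.coe_pow]
      refine ⟨fun h => ?_, fun h => pow_mem h j⟩
      have hco : (Nat.card G).Coprime j := hj.symm
      have hy : (powCoprime hco).symm ((y : G) ^ j) = (y : G) := (powCoprime hco).symm_apply_apply _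
      rw [← hy]
      exact zpow_mem h _
    rw [hfix])
  have h23 : σ 2 = 2 ∧ σ 3 = 3 ∨ σ 2 = 3 ∧ σ 3 = 2 := by
    have key : ∀ f : Fin 4 → Fin 4, Function.Injective f → f 0 = 0 → f 1 = 1 →
        f 2 = 2 ∧ f 3 = 3 ∨ f 2 = 3 ∧ f 3 = 2 := by
      intro f hf e0 e1
      have n1 := hf.ne (show (2 : Fin 4) ≠ 0 by decide)
      have n2 := hf.ne (show (2 : Fin 4) ≠ 1 by decide)
      have n3 := hf.ne (show (3 : Fin 4) ≠ 0 by decide)
      have n4 := hf.ne (show (3 : Fin 4) ≠ 1 by decide)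
      have n5 := hf.ne (show (2 : Fin 4) ≠ 3 by decide)
      rw [e0] at n1 n3
      rw [e1] at n2 n4
      revert n1 n2 n3 n4 n5
      generalize f 2 = a
      generalize f 3 = b
      revert a b
      decide
    exact key σ hσinj h0 h1
  refine ⟨decide (σ 2 = 3), fun C ν χ => ?_⟩
  set ν' := bpow Φ hj ν
  set χ' := powPerm hj χ
  have hc : C.crd ν' χ' = swapRow (decide (σ 2 = 3)) (C.crd ν χ) := by
    obtain ⟨ex, ea, eb⟩ := C.coord_eq ν χ
    obtain ⟨ex', ea', eb'⟩ := C.coord_eq ν' χ'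
    have kx := coord_pow Φ hj hodd S (hσ 1) (hσ 0) ν χ
    have ka := coord_pow Φ hj hodd S (hσ 1) (hσ 2) ν χ
    have kb := coord_pow Φ hj hodd S (hσ 1) (hσ 3) ν χ
    rw [h1, h0] at kx
    rw [h1] at ka kb
    have e1 : (C.crd ν' χ').1 = (C.crd ν χ).1 := Int.cast_injective (ex'.symm.trans (kx.trans ex))
    rcases h23 with ⟨h2, h3⟩ | ⟨h2, h3⟩ <;> rw [h2] at ka <;> rw [h3] at kb
    · rw [h2, show decide ((2 : Fin 4) = 3) = false by decide, swapRow, if_neg (by simp)]
      exact Prod.ext e1 (Prod.ext (Int.cast_injective (ea'.symm.trans (ka.trans ea)))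
        (Int.cast_injective (eb'.symm.trans (kb.trans eb))))
    · rw [h2, show decide ((3 : Fin 4) = 3) = true by decide, swapRow, if_pos rfl]
      exact Prod.ext e1 (Prod.ext (Int.cast_injective (ea'.symm.trans (kb.trans eb)))
        (Int.cast_injective (eb'.symm.trans (ka.trans ea))))
  have hmem : χ' ∈ (C.rows ν').L ↔ χ ∈ (C.rows ν).L := by
    rw [← C.crd_ne_zero_iff, ← C.crd_ne_zero_iff, hc]
    cases decide (σ 2 = 3) <;> simp [swapRow, Prod.ext_iff, and_comm]
  refine ⟨hmem, fun h => ?_⟩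
  rw [Coords.crd, Coords.crd, if_pos h, if_pos (hmem.2 h)] at hc
  refine row_sign _ _ (C.row_mem ν h) _ (C.row_mem ν' (hmem.2 h)) _ (mem_sign ((C.rows ν).sg_sq χ)) _
    (mem_sign ((C.rows ν').sg_sq χ')) ?_
  rw [hc]
  cases decide (σ 2 = 3) <;> simp [swapRow]

end Galois

end Cfsg.Lib.Ree.Three
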