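import Cfsg.Agent.Ree.Torus.Local

/-!
A group with abelian Sylow 2-subgroups and a four-group `{1, a, c, ac}`, the centralizer of each of whose
involutions is the four-group times a fixed subgroup `D` of odd order: it normalises the four-group, or its
quotient by `D` is almost simple with socle `A₅`.
-/

set_option autoImplicit false
set_option linter.style.haveILetI false
set_option linter.unusedSectionVars false

namespace Cfsg.Lib.Ree.Three

open Subgroup Cfsg.Lib.TwoTimesPSL Cfsg.Lib.Ree

universe u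

variable {C : Type u} [Group C] [Finite C]

/-- The second case is expressed by an element moving `a` to `c` in each normal subgroup over `a`, up to `D`. -/
theorem four_cases {a c : C} {D : Subgroup C} (ha : orderOf a = 2) (hc : orderOf c = 2) (hne : c ≠ a)
    (hac : Commute a c) (hab : ∀ S : Sylow 2 C, IsMulCommutative ↥(S : Subgroup C))
    (hDodd : ∀ d ∈ D, Odd (orderOf d)) (hDc : ∀ d ∈ D, Commute d a ∧ Commute d c)
    (hcent : ∀ w, InFour a c w → w ≠ 1 → ∀ x : C, Commute x w → ∃ u, InFour a c u ∧ ∃ d ∈ D, x = u * d) :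
    (∀ x w : C, InFour a c w → InFour a c (x * w * x⁻¹)) ∨
      (Cfsg.oddCore C = D ∧ ∃ x : C, x * a * x⁻¹ = c ∧ x * c * x⁻¹ = a * c ∧
        ∀ M : Subgroup C, M.Normal → a ∈ M → x ∈ M ⊔ D) := by
  classical
  haveI : Fact (Nat.Prime 2) := ⟨Nat.prime_two⟩
  have haa : a * a = 1 := sq_one_of_order ha
  have hcc : c * c = 1 := sq_one_of_order hc
  have ha1 : a ≠ 1 := ne_one_of_order (by norm_num) ha
  have hc1 : c ≠ 1 := ne_one_of_order (by norm_num) hc
  have e1 : a * (a * c) = c := by rw [← mul_assoc, haa, one_mul]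
  have e2 : c * (a * c) = a := by rw [← mul_assoc, ← hac.eq, mul_assoc, hcc, mul_one]
  have hac1 : a * c ≠ 1 := fun e => hne (by rw [← e1, e, mul_one])
  set V : Subgroup C :=
    { carrier := {w | InFour a c w}
      one_mem' := Or.inl rfl
      inv_mem' := by
        intro x hx
        have h1 := inv_eq_of_mul_eq_one_right haa
        have h2 := inv_eq_of_mul_eq_one_right hcc
        rcases hx with rfl | rfl | rfl | rfl <;> simp [InFour, h1, h2, hac.eq.symm]
      mul_mem' := by
        intro x w hx hw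
        have e3 : a * c * a = c := by rw [mul_assoc, ← hac.eq, e1]
        have e4 : a * c * c = a := by rw [mul_assoc, hcc, mul_one]
        have e5 : a * c * (a * c) = 1 := by rw [← mul_assoc, e3, hcc]
        rcases hx with rfl | rfl | rfl | rfl <;> rcases hw with rfl | rfl | rfl | rfl <;>
          simp [InFour, haa, hcc, hac.eq.symm, e1, e2, e3, e4, e5] } with hV
  have hVmem : ∀ {w : C}, w ∈ V ↔ InFour a c w := Iff.rfl
  have haV : a ∈ V := Or.inr (Or.inl rfl)
  have hcV : c ∈ V := Or.inr (Or.inr (Or.inl rfl))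
  have hVsq : ∀ {w : C}, w ∈ V → w * w = 1 := fun {w} hw => by
    rcases hVmem.1 hw with rfl | rfl | rfl | rfl
    · exact one_mul 1
    · exact haa
    · exact hcc
    · rw [mul_assoc, ← mul_assoc c, ← hac.eq, mul_assoc, hcc, mul_one, haa]
  have hVD : ∀ {w d : C}, w ∈ V → d ∈ D → Commute w d := fun {w d} hw hd => by
    rcases hVmem.1 hw with rfl | rfl | rfl | rfl
    exacts [Commute.one_left d, (hDc d hd).1.symm, (hDc d hd).2.symm, (hDc d hd).1.symm.mul_left (hDc d hd).2.symm]
  -- an odd element of `V D` lies in `D`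
  have hodd : ∀ {x : C}, Odd (orderOf x) → ∀ u ∈ V, ∀ d ∈ D, x = u * d → x ∈ D := by
    intro x hx u hu d hd e
    obtain ⟨j, hj⟩ := exists_sq_pow hx
    have hxx : x * x = d * d := by
      rw [e, mul_assoc u d, ← mul_assoc d u, ← (hVD hu hd).eq, ← mul_assoc, ← mul_assoc, hVsq hu, one_mul]
    rw [hj, hxx]
    exact pow_mem (mul_mem hd hd) j
  -- the Sylow subgroup
  have hV2 : IsPGroup 2 V := fun w => ⟨1, Subtype.ext (by rw [pow_one, pow_two]; exact hVsq w.2)⟩
  obtain ⟨S, hS⟩ := hV2.exists_le_sylow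
  have hSV : (S : Subgroup C) = V := by
    refine le_antisymm (fun x hx => ?_) hS
    haveI := hab S
    have hxa : Commute x a := congrArg Subtype.val (mul_comm' (⟨x, hx⟩ : (S : Subgroup C)) ⟨a, hS haV⟩)
    obtain ⟨u, hu, d, hd, rfl⟩ := hcent a (hVmem.1 haV) ha1 x hxa
    have hdS : d ∈ (S : Subgroup C) := by
      simpa using mul_mem (inv_mem (hS (hVmem.2 hu))) hx
    obtain ⟨i, hi⟩ := S.isPGroup' ⟨d, hdS⟩
    have hd2 : IsTwoEl d := ⟨i, congrArg Subtype.val hi⟩
    rw [IsTwoEl.eq_one hd2 (hDodd d hd), mul_one]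
    exact hu
  have hS4 : IsKleinFour ↥(S : Subgroup C) := by
    rw [hSV]
    refine GWFour.klein_of_sq ?_ fun x => Subtype.ext (hVsq x.2)
    show Nat.card {w : C // InFour a c w} = 4
    rw [show (4 : ℕ) = ({1, a, c, a * c} : Finset C).card from ?_, ← Nat.card_eq_finsetCard]
    · exact Nat.card_congr (Equiv.subtypeEquivRight fun w => by simp [InFour])
    · have f1 : a ≠ a * c := fun e => hc1 (mul_eq_left.1 e.symm)
      have f2 : c ≠ a * c := fun e => ha1 (mul_eq_right.1 e.symm)
      simp [ha1.symm, hc1.symm, hac1.symm, hne.symm, f1, f2]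
  set O := Cfsg.oddCore C with hO
  haveI : O.Normal := Cfsg.Lib.Components.normal_of_mem_sSup_normal fun _ h => h.1
  have hOodd : Odd (Nat.card O) := Nat.coprime_two_right.1 (Cfsg.Lib.Components.coprime_card_pPrimeCore 2)
  set π := QuotientGroup.mk' O with hπ
  have hsur : Function.Surjective π := QuotientGroup.mk'_surjective _
  -- the core lies in `D`
  have hOD : O ≤ D := odd_le_fixed hOodd haa hcc hac
    (fun x hx => (inferInstance : O.Normal).conj_mem x hx a) (fun x hx => (inferInstance : O.Normal).conj_mem x hx c)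
    hDc fun x hx h => by
      have hxo : Odd (orderOf x) := hOodd.of_dvd_nat (Subgroup.orderOf_dvd_natCard _ hx)
      obtain ⟨u, hu, d, hd, e⟩ : ∃ u, InFour a c u ∧ ∃ d ∈ D, x = u * d := by
        rcases h with h | h | h
        · exact hcent a (Or.inr (Or.inl rfl)) ha1 x h
        · exact hcent c (Or.inr (Or.inr (Or.inl rfl))) hc1 x h
        · exact hcent (a * c) (Or.inr (Or.inr (Or.inr rfl))) hac1 x h
      exact hodd hxo u (hVmem.2 hu) d hd e
  -- congruences modulo the core between involutions are equalities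
  have hlift : ∀ w b : C, w ∈ V → b * b = 1 → π b = π w → b = w := by
    intro w b hw hb hwb
    have hk : b * w⁻¹ ∈ D := hOD ((QuotientGroup.eq_one_iff _).1 (show π (b * w⁻¹) = 1 by
      rw [map_mul, map_inv, hwb, mul_inv_cancel]))
    rw [inv_eq_of_mul_eq_one_right (hVsq hw)] at hk
    have hcomm : Commute w (b * w) := hVD hw hk
    have hsq : b * w * (b * w) = 1 := by
      have e : b = b * w * w := by rw [mul_assoc, hVsq hw, mul_one]
      calc b * w * (b * w) = b * (w * (b * w)) := mul_assoc _ _ _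
        _ = b * (b * w * w) := by rw [hcomm.eq]
        _ = 1 := by rw [← e, hb]
    rw [← one_mul w, ← eq_one_of_odd_sq (hDodd _ hk) hsq, mul_assoc, hVsq hw, mul_one]
  have hconj : ∀ (x : C) {w w' : C}, w ∈ V → w' ∈ V → π (x * w * x⁻¹) = π w' → x * w * x⁻¹ = w' :=
    fun x w w' hw hw' e => hlift w' _ hw' (by rw [_root_.conj_mul, hVsq hw, mul_one, mul_inv_cancel]) e
  have hqc : ∀ w ∈ V, w ≠ 1 → ∀ x : C, π x * π w = π w * π x → ∃ u, InFour a c u ∧ ∃ d ∈ D, x = u * d := by
    intro w hw hw1 x hx
    refine hcent w hw hw1 x (mul_inv_eq_iff_eq_mul.1 (hconj x hw hw ?_))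
    rw [map_mul, map_mul, map_inv, hx, mul_inv_cancel_right]
  set T := S.mapSurjective hsur with hT
  have hTmem : ∀ q, q ∈ (T : Subgroup (C ⧸ O)) ↔ ∃ w : C, w ∈ V ∧ π w = q := by
    intro q
    show q ∈ (S : Subgroup C).map π ↔ _
    rw [mem_map, hSV]
  have hinj : ∀ w b : C, w ∈ V → b ∈ V → π b = π w → b = w := fun w b hw hb e => hlift w b hw (hVsq hb) e
  have hT4 : IsKleinFour ↥(T : Subgroup (C ⧸ O)) := by
    refine GWFour.klein_of_sq ?_ fun q => Subtype.ext ?_
    · haveI := hS4
      rw [← (IsKleinFour.card_four (G := ↥(S : Subgroup C)))]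
      refine (Nat.card_congr (Equiv.ofBijective
        (fun x : (S : Subgroup C) => (⟨π x, mem_map_of_mem π x.2⟩ : (T : Subgroup (C ⧸ O)))) ⟨fun x y e => ?_, ?_⟩)).symm
      · exact Subtype.ext (hinj _ _ (hSV ▸ y.2) (hSV ▸ x.2) (congrArg Subtype.val e))
      · rintro ⟨q, x, hx, rfl⟩
        exact ⟨⟨x, hx⟩, rfl⟩
    · obtain ⟨w, hw, e⟩ := (hTmem _).1 q.2
      push_cast
      rw [← e, ← map_mul, hVsq hw, map_one]
  by_cases hs : Group.IsSolvable C
  · -- the solvable case
    left
    intro x w hw
    have hnoodd : Cfsg.Lib.GenDihedral.NoOdd (C ⧸ O) := fun M hM ho => by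
      have := @Cfsg.Lib.Components.le_pPrimeCore _ _ 2 M hM (Nat.coprime_two_right.2 ho)
      rw [Cfsg.Lib.Components.pPrimeCore_quotient_eq_bot] at this
      exact le_bot_iff.1 this
    have hsq : ∀ q : C ⧸ O, q * q = 1 → q ∈ (T : Subgroup (C ⧸ O)) := by
      haveI := hT4
      haveI := hs
      rcases GWFour.solvable_shape T hT4 hnoodd (Group.isSolvable_of_surjective (f := π) hsur) with h4 | he
      · intro q _
        rw [show (T : Subgroup (C ⧸ O)) = ⊤ from eq_top_of_card_eq _ (by rw [h4]; exact IsKleinFour.card_four)]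
        exact mem_top q
      · obtain ⟨e⟩ := he
        intro q hq
        by_contra hqT
        have hle : Nat.card (Option ↥(T : Subgroup (C ⧸ O))) ≤ Nat.card {x : alternatingGroup (Fin 4) // x * x = 1} := by
          refine Nat.card_le_card_of_injective (fun o => match o with
            | none => ⟨e q, by rw [← map_mul, hq, map_one]⟩
            | some y => ⟨e y, by
                rw [← map_mul, show (y : C ⧸ O) * y = 1 from congrArg Subtype.val (GWFour.sq_of_klein y), map_one]⟩) ?_
          rintro (_ | y) (_ | y') h <;> simp only [Subtype.mk.injEq, EmbeddingLike.apply_eq_iff_eq] at h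
          · rfl
          · exact absurd (h ▸ y'.2) hqT
          · exact absurd (h ▸ y.2) hqT
          · rw [Subtype.ext h]
        rw [alt_four_sq, Finite.card_option, IsKleinFour.card_four] at hle
        omega
    obtain ⟨w', hw', e⟩ := (hTmem _).1 (hsq (π (x * w * x⁻¹)) (by
      rw [← map_mul, _root_.conj_mul, hVsq (hVmem.2 hw), mul_one, mul_inv_cancel, map_one]))
    rw [hconj x (hVmem.2 hw) hw' e.symm]
    exact hw'
  -- the nonsolvable case
  right
  obtain ⟨F, _, _, h8, h5, N, hN, hNi, ⟨e⟩, hNc⟩ :=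
    GWFour.almost_simple Cfsg.Lib.GW.fourGroupProp S hS4 hs
  haveI := hN
  have hoddF : Odd (Fintype.card F) := Nat.odd_iff.2 (by omega)
  have hTN : (T : Subgroup (C ⧸ O)) ≤ N := by
    intro q hq
    obtain ⟨w, hw, rfl⟩ := (hTmem q).1 hq
    rw [← QuotientGroup.eq_one_iff (N := N)]
    refine eq_one_of_odd_sq (hNi.of_dvd_nat (orderOf_dvd_natCard (G := (C ⧸ O) ⧸ N) _)) ?_
    rw [← QuotientGroup.mk_mul, ← map_mul, hVsq hw, map_one, QuotientGroup.mk_one]
  set at' : N := ⟨π a, hTN ((hTmem _).2 ⟨_, haV, rfl⟩)⟩ with hat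
  set av' : N := ⟨π c, hTN ((hTmem _).2 ⟨_, hcV, rfl⟩)⟩ with hav
  have hat2 : at' * at' = 1 := Subtype.ext (by show π a * π a = 1; rw [← map_mul, haa, map_one])
  have hav2 : av' * av' = 1 := Subtype.ext (by show π c * π c = 1; rw [← map_mul, hcc, map_one])
  have hat1 : at' ≠ 1 := fun h => ha1 (hinj 1 a (one_mem _) haV ((congrArg Subtype.val h).trans (map_one π).symm))
  have hav1 : av' ≠ 1 := fun h => hc1 (hinj 1 c (one_mem _) hcV ((congrArg Subtype.val h).trans (map_one π).symm))
  have hatv : at' ≠ av' := fun h => hne (hinj c a hcV haV (congrArg Subtype.val h)).symm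
  have hcomm : at' * av' = av' * at' := Subtype.ext (by
    show π a * π c = π c * π a
    rw [← map_mul, ← map_mul, hac.eq])
  -- `q = 5`
  have hF5 : Fintype.card F = 5 := by
    set α := e at'
    have hα : orderOf α = 2 := orderOf_eq_prime (by rw [pow_two, ← map_mul, hat2, map_one])
      (fun h => hat1 (e.injective (h.trans e.map_one.symm)))
    have hv' : orderOf (e av') = 2 := orderOf_eq_prime (by rw [pow_two, ← map_mul, hav2, map_one])
      (fun h => hav1 (e.injective (h.trans e.map_one.symm)))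
    set Ca := centralizer ({α} : Set (Matrix.ProjectiveSpecialLinearGroup (Fin 2) F)) with hCa
    have h2 : IsPGroup 2 Ca := by
      intro p
      obtain ⟨u, s, hu, hs', hus, he, hug, hsg⟩ := exists_split (p : Matrix.ProjectiveSpecialLinearGroup (Fin 2) F)
      have hsC : s ∈ Ca := (zpowers_le.2 p.2) hsg
      have hs1 : s = 1 := by
        obtain ⟨n, rfl⟩ := e.surjective s
        obtain ⟨x, hx⟩ := hsur (n : C ⧸ O)
        have hnt : π x * π a = π a * π x := by
          have h := mem_centralizer_singleton_iff.1 hsC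
          rw [← map_mul, ← map_mul] at h
          rw [hx]
          exact congrArg Subtype.val (e.injective h)
        obtain ⟨u', hu', d, hd, hxe⟩ := hqc a haV ha1 x hnt
        have hxc : Commute x c := by
          rw [hxe]
          refine Commute.mul_left ?_ (hDc d hd).2
          rcases hu' with rfl | rfl | rfl | rfl
          exacts [Commute.one_left _, hac, Commute.refl _, hac.mul_left (Commute.refl _)]
        refine AbCentMax.psl_eq_one_of_comm hoddF hα hv' (fun h => hatv (e.injective h))
          (by show e at' * e av' = e av' * e at'; rw [← map_mul, hcomm, map_mul]) hs'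
          (mem_centralizer_singleton_iff.1 hsC) ?_
        show e n * e av' = e av' * e n
        rw [← map_mul, ← map_mul]
        refine congrArg e (Subtype.ext ?_)
        show (n : C ⧸ O) * π c = π c * (n : C ⧸ O)
        rw [← hx, ← map_mul, ← map_mul, hxc.eq]
      obtain ⟨i, hi⟩ := hu
      exact ⟨i, Subtype.ext (by
        rw [SubmonoidClass.coe_pow, ← he, hs1, mul_one, hi]; rfl)⟩
    obtain ⟨i, hi⟩ := IsPGroup.iff_card.1 h2
    obtain ⟨P⟩ : Nonempty (Sylow 2 (Matrix.ProjectiveSpecialLinearGroup (Fin 2) F)) := inferInstance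
    have h8' := (GWFour.sylow_card_four P (Cfsg.Agent.S0276.result rfl h8 P)).2
    have hi2 : i ≤ 2 := by
      by_contra hh
      exact h8' ((pow_dvd_pow 2 (show 3 ≤ i by omega)).trans (hi ▸ card_subgroup_dvd_card Ca))
    have := Cfsg.Lib.SubdegThree.psl_invol_cent hoddF α hα
    rw [← hCa, hi] at this
    interval_cases i <;> omega
  obtain ⟨e5⟩ := Cfsg.Agent.S0253.result hF5
  set f : N ≃* alternatingGroup (Fin 5) := e.trans e5 with hf
  have fne1 : ∀ {n : N}, n ≠ 1 → f n ≠ 1 := fun h h' => h (f.injective (h'.trans f.map_one.symm))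
  have fsq : ∀ {n : N}, n * n = 1 → f n * f n = 1 := fun h => by rw [← map_mul, h, map_one]
  have fc : f at' * f av' = f av' * f at' := by rw [← map_mul, hcomm, map_mul]
  obtain ⟨bb, hb3, hba, hbc⟩ := alt_five_rot (f at') (f av') (fsq hat2) (fsq hav2) (fne1 hat1) (fne1 hav1)
    (fun h => hatv (f.injective h)) fc
  obtain ⟨bn, rfl⟩ := f.surjective bb
  have hbna : bn * at' * bn⁻¹ = av' := f.injective (by rw [map_mul, map_mul, map_inv, hba])
  have hbnc : bn * av' * bn⁻¹ = at' * av' := f.injective (by rw [map_mul, map_mul, map_inv, hbc, map_mul])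
  have hfour : ∀ q : N, q * at' = at' * q → q * av' = av' * q → q = 1 ∨ q = at' ∨ q = av' ∨ q = at' * av' := by
    intro q h1 h2
    have := alt_five_four (f at') (f av') ⟨fsq hat2, fsq hav2, fne1 hat1, fne1 hav1, fun h => hatv (f.injective h), fc⟩
      (f q) ⟨by rw [← map_mul, h1, map_mul], by rw [← map_mul, h2, map_mul]⟩
    rw [← map_mul f at' av'] at this
    rcases this with h | h | h | h
    · exact Or.inl (f.injective (h.trans f.map_one.symm))
    · exact Or.inr (Or.inl (f.injective h))
    · exact Or.inr (Or.inr (Or.inl (f.injective h)))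
    · exact Or.inr (Or.inr (Or.inr (f.injective h)))
  have hbi1 : bn⁻¹ * av' * bn = at' := by rw [← hbna]; group
  have hbi2 : bn⁻¹ * (at' * av') * bn = av' := by rw [← hbnc]; group
  have hbi3 : bn⁻¹ * at' * bn = at' * av' := by
    rw [show bn⁻¹ * at' * bn = (bn⁻¹ * (at' * av') * bn) * (bn⁻¹ * av' * bn)⁻¹ by group, hbi1, hbi2,
      inv_eq_of_mul_eq_one_right hat2, ← hcomm]
  -- `D` lies in the core
  have hDO : D ≤ O := by
    intro x hx
    set q := π x with hq
    rw [← QuotientGroup.eq_one_iff]
    change q = 1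
    set φ : MulAut N := MulAut.conjNormal q with hφ
    have hfix : ∀ n : N, ∀ w ∈ V, (n : C ⧸ O) = π w → φ n = n := by
      intro n w hw hn
      refine Subtype.ext ?_
      rw [MulAut.conjNormal_apply, hn, hq, ← map_inv, ← map_mul, ← map_mul, (hVD hw hx).symm.eq,
        mul_inv_cancel_right]
    have hφt : φ at' = at' := hfix at' a haV rfl
    have hφv : φ av' = av' := hfix av' c hcV rfl
    have hφb : φ bn = bn := by
      have hu : φ bn * bn⁻¹ = 1 ∨ φ bn * bn⁻¹ = at' ∨ φ bn * bn⁻¹ = av' ∨ φ bn * bn⁻¹ = at' * av' := by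
        refine hfour _ ?_ ?_
        · have h2 : φ bn * (at' * av') * (φ bn)⁻¹ = at' := by
            have h := congrArg φ (show bn * (at' * av') * bn⁻¹ = at' by rw [← hbi3]; group)
            rwa [map_mul, map_mul, map_inv, map_mul, hφt, hφv] at h
          calc φ bn * bn⁻¹ * at' = φ bn * (bn⁻¹ * at' * bn) * bn⁻¹ := by group
            _ = φ bn * (at' * av') * (φ bn)⁻¹ * (φ bn * bn⁻¹) := by rw [hbi3]; group
            _ = at' * (φ bn * bn⁻¹) := by rw [h2]
        · have h2 : φ bn * at' * (φ bn)⁻¹ = av' := by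
            have h := congrArg φ hbna
            rwa [map_mul, map_mul, map_inv, hφt, hφv] at h
          calc φ bn * bn⁻¹ * av' = φ bn * (bn⁻¹ * av' * bn) * bn⁻¹ := by group
            _ = φ bn * at' * (φ bn)⁻¹ * (φ bn * bn⁻¹) := by rw [hbi1]; group
            _ = av' * (φ bn * bn⁻¹) := by rw [h2]
      set u := φ bn * bn⁻¹ with hu'
      have huφ : φ u = u := by
        rcases hu with h | h | h | h <;> rw [h]
        · exact map_one φ
        · exact hφt
        · exact hφv
        · rw [map_mul, hφt, hφv]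
      have hpow : ∀ j : ℕ, (φ ^ j) bn = u ^ j * bn := by
        intro j
        induction j with
        | zero => simp
        | succ j ih =>
          rw [pow_succ', MulAut.mul_apply, ih, map_mul, map_pow, huφ, show φ bn = u * bn by rw [hu']; group,
            ← mul_assoc, ← pow_succ]
      have hn1 : φ ^ orderOf x = 1 := by
        rw [hφ, ← map_pow, hq, ← map_pow, pow_orderOf_eq_one, map_one, map_one]
      have h := hpow (orderOf x)
      rw [hn1, MulAut.one_apply, eq_comm, mul_eq_right] at h
      have hu2 : u * u = 1 := by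
        rcases hu with h | h | h | h <;> rw [h]
        · rw [one_mul]
        · exact hat2
        · exact hav2
        · rw [mul_assoc, ← mul_assoc av', ← hcomm, mul_assoc, hav2, mul_one, hat2]
      have hu1 : u = 1 :=
        eq_one_of_odd_sq ((hDodd x hx).of_dvd_nat (orderOf_dvd_of_pow_eq_one h)) hu2
      rwa [hu', mul_inv_eq_one] at hu1
    have hψ : (f.symm.trans φ).trans f = 1 := by
      refine HallJankoType.alt_five_aut (a := f at') (b := f bn) (fsq hat2) (fne1 hat1) hb3 ?_ ?_ ?_ ?_
      · rw [hba]; exact fc.symm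
      · rw [hba]; exact fun h => hatv (f.injective h).symm
      · simp [hφt]
      · simp [hφb]
    have : q ∈ centralizer (N : Set (C ⧸ O)) := by
      refine mem_centralizer_iff.2 fun n hn => ?_
      have h := congrArg (fun ψ : MulAut (alternatingGroup (Fin 5)) => ψ (f ⟨n, hn⟩)) hψ
      simp only [MulEquiv.trans_apply, MulEquiv.symm_apply_apply, MulAut.one_apply, f.injective.eq_iff] at h
      have h' := congrArg Subtype.val h
      rw [MulAut.conjNormal_apply] at h'
      exact (mul_inv_eq_iff_eq_mul.1 h').symm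
    rwa [hNc, mem_bot] at this
  have hOeq : O = D := le_antisymm hOD hDO
  refine ⟨hOeq, ?_⟩
  -- the lift of `bn`
  obtain ⟨xb, hxb⟩ := hsur (bn : C ⧸ O)
  refine ⟨xb, hconj xb haV hcV ?_, hconj xb hcV (mul_mem haV hcV) ?_, fun M hM haM => ?_⟩
  · rw [map_mul, map_mul, map_inv, hxb]
    exact congrArg Subtype.val hbna
  · rw [map_mul, map_mul, map_inv, map_mul, hxb]
    exact congrArg Subtype.val hbnc
  haveI := hM
  haveI : (M.map π).Normal := hM.map π hsur
  haveI : ((M.map π).subgroupOf N).Normal := Subgroup.Normal.comap inferInstance _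
  haveI : IsSimpleGroup (alternatingGroup (Fin 5)) := alternatingGroup.isSimpleGroup_five
  haveI : IsSimpleGroup ↥N := f.isSimpleGroup
  rcases IsSimpleGroup.eq_bot_or_eq_top_of_normal ((M.map π).subgroupOf N) inferInstance with h | h
  · exfalso
    have hm : at' ∈ (M.map π).subgroupOf N := mem_subgroupOf.2 ⟨a, haM, rfl⟩
    rw [h, mem_bot] at hm
    exact hat1 hm
  · obtain ⟨y, hy, hye⟩ := mem_subgroupOf.1 (show bn ∈ (M.map π).subgroupOf N from h ▸ mem_top bn)
    have hk : y⁻¹ * xb ∈ O := (QuotientGroup.eq_one_iff _).1 (show π (y⁻¹ * xb) = 1 by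
      rw [map_mul, map_inv, hye, hxb, inv_mul_cancel])
    rw [show xb = y * (y⁻¹ * xb) by group]
    exact mul_mem (mem_sup_left hy) (mem_sup_right (hOeq ▸ hk))

end Cfsg.Lib.Ree.Three
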