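import Cfsg.Agent.Ree.Three.Spec
import Cfsg.Agent.Ree.Transfer.Fixed
import Cfsg.Agent.Ree.Torus.Central
import Cfsg.Agent.Ree.Transfer.LocalSpecProof

/-!
The four-group `V = {1, t, v, tv}`, the torus `K` in its centralizer in `E₀`, an involution `b` of `E₀` inverting
`K`, an element `m` of order 3 permuting `t, v, tv`, and the field automorphisms `Phi` centralizing `t, v, b, m`.
-/

set_option autoImplicit false
set_option linter.style.haveILetI false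
set_option linter.unusedSectionVars false

namespace Cfsg.Lib.Ree.Three

open Subgroup Cfsg.Lib.TwoTimesPSL

universe u v

variable {G : Type u} [Group G]

/-- The data around the four-group `{1, t, v, tv}`. -/
structure TFrame (t : G) (E E₀ : Subgroup G) (k : ℕ) where
  v : G
  b : G
  m : G
  K : Subgroup G
  Phi : Subgroup G
  t_ord : orderOf t = 2
  v_ord : orderOf v = 2
  b_ord : orderOf b = 2
  m_ord : orderOf m = 3
  t_comm : ∀ e ∈ E, Commute t e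
  split : ∀ x : G, Commute x t → ∃ e ∈ E, x = e ∨ x = t * e
  t_not : t ∉ E
  le : E₀ ≤ E
  norm₀ : ∀ e ∈ E, ∀ x ∈ E₀, e * x * e⁻¹ ∈ E₀
  vE : v ∈ E₀
  bE : b ∈ E₀
  v_ne : v ≠ t
  b_not : ¬ InFour t v b
  vb : Commute v b
  m_t : m * t * m⁻¹ = v
  m_v : m * v * m⁻¹ = t * v
  Phi_le : Phi ≤ E
  Phi_cyclic : IsCyclic Phi
  Phi_inter : ∀ p ∈ Phi, p ∈ E₀ → p = 1
  Phi_odd : ∀ p ∈ Phi, Odd (orderOf p)
  exists_mul : ∀ e ∈ E, ∃ g ∈ E₀, ∃ p ∈ Phi, e = g * p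
  pv : ∀ p ∈ Phi, Commute p v
  pb : ∀ p ∈ Phi, Commute p b
  pm : ∀ p ∈ Phi, Commute p m
  mem_K : ∀ y : G, y ∈ K ↔ y ∈ E₀ ∧ Odd (orderOf y) ∧ Commute y v
  cyclic_K : IsCyclic K
  card_K : Nat.card K = k
  k_three : 3 ≤ k
  k_odd : Odd k
  k_cop : k.Coprime (Nat.card Phi)
  inv : ∀ y ∈ K, b * y * b⁻¹ = y⁻¹
  cen₀ : ∀ g ∈ E₀, Commute g v → ∃ y ∈ K, g = y ∨ g = v * y ∨ g = b * y ∨ g = v * b * y
  cen_y : ∀ y ∈ K, y ≠ 1 → ∀ e ∈ E, Commute e y → Commute e v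
  ab : ∀ S : Sylow 2 G, IsMulCommutative ↥(S : Subgroup G)

section Build

variable [Finite G] {t : G} {E E₀ : Subgroup G} {F : Type v} [Field F] [Fintype F]

/-- The frame at `a`, with the field automorphisms of the system. -/
theorem exists_frame (S : Twist.Setting t E E₀ F) {T : Sylow 2 G} {a b n : G}
    (hy : AbCentMax.Sys t E₀ T a b n) (h8 : Fintype.card F % 8 = 3) (hbig : 11 ≤ Fintype.card F)
    (hcop : ((Fintype.card F + 1) / 4).Coprime (E₀.relIndex E)) :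
    ∃ Φ : TFrame t E E₀ ((Fintype.card F + 1) / 4), Φ.v = a ∧ Φ.b = b ∧ Φ.Phi = S.Phi hy ∧
      ∃ g ∈ normalizer ((T : Subgroup G) : Set G), Φ.m = g * n * g⁻¹ ∨ Φ.m = (g * n * g⁻¹)⁻¹ := by
  classical
  haveI : Fintype E₀ := Fintype.ofFinite E₀
  have h := S.hyp
  have haa := AbCentMax.aa h hy
  have hbb := AbCentMax.bb h hy
  have hab := AbCentMax.ab_comm h hy
  obtain ⟨⟨v₁, w₁, K₁, hk3, hkodd, hv₁, hw₁, hwv₁, hwne₁, -, -, hcomm₁, hcyc₁, hcard₁, -, -, -, hC₁, hcent₁, -, -, -,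
    -⟩⟩ := PSL.exists_geo (Or.inl h8) hbig h.iso.some
  have hk : ((((Fintype.card F : ℕ) : ℤ) * PSL.sgn F - 1) / 4).natAbs = (Fintype.card F + 1) / 4 := by
    rw [PSL.sgn, if_neg (by omega)]
    omega
  rw [hk] at hk3 hkodd hcard₁
  -- the data of `E₀` moved to `a`
  obtain ⟨g₁, hg₁E, hg₁⟩ := h.conj v₁.2 (by rwa [orderOf_coe]) hy.aE hy.ao
  set γ : E₀ ≃* E₀ := MulAut.conj ⟨g₁, hg₁E⟩ with hγ
  have hγv : (γ v₁ : G) = a := by rw [hγ, MulAut.conj_apply]; push_cast; exact hg₁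
  set K : Subgroup G := (K₁.map γ.toMonoidHom).map E₀.subtype with hK
  have hKE : ∀ y ∈ K, y ∈ E₀ := fun y hy' => map_subtype_le _ hy'
  have hKmem : ∀ y : G, y ∈ K ↔ y ∈ E₀ ∧ Odd (orderOf y) ∧ Commute y a := by
    have hmem : ∀ y : E₀, (y : G) ∈ K ↔ Odd (orderOf (y : G)) ∧ Commute (y : G) a := by
      intro y
      rw [hK, show (y : G) = E₀.subtype y from rfl, mem_map_iff_mem E₀.subtype_injective, Subgroup.coe_subtype,
        orderOf_coe, mem_map_equiv, hcomm₁, MulEquiv.orderOf_eq]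
      refine and_congr_right fun _ => ⟨fun hc => ?_, fun hc => ?_⟩
      · have := (hc.map γ.toMonoidHom).map E₀.subtype
        simpa [hγv] using this
      · have hc' : Commute y (γ v₁) := Subtype.ext (by push_cast; rw [hγv]; exact hc.eq)
        have := hc'.map γ.symm.toMonoidHom
        simpa using this
    intro y
    exact ⟨fun hy' => ⟨hKE y hy', (hmem ⟨y, hKE y hy'⟩).1 hy'⟩, fun hy' => (hmem ⟨y, hy'.1⟩).2 hy'.2⟩
  have hKcard : Nat.card K = (Fintype.card F + 1) / 4 := by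
    rw [hK, card_map_of_injective E₀.subtype_injective, card_map_of_injective γ.injective, hcard₁]
  have hKcyc : IsCyclic K := by
    rw [hK]
    exact (MulEquiv.isCyclic (K₁.equivMapOfInjective _ γ.injective |>.trans
      ((K₁.map γ.toMonoidHom).equivMapOfInjective _ E₀.subtype_injective))).1 hcyc₁
  have hKodd : ∀ y ∈ K, Odd (orderOf y) := fun y hy' => ((hKmem y).1 hy').2.1
  have hinvb : ∀ y ∈ K, b * y * b⁻¹ = y⁻¹ := fun y hy' => by
    obtain ⟨he, ho, hyv⟩ := (hKmem y).1 hy'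
    exact h.inverts hy.aE hy.ao hy.bE hy.bo hy.ne hab he ho hyv
  -- the centralizer of `a` in `E₀`
  set w' : G := (γ w₁ : G) with hw'
  have hcases : ∀ e ∈ E₀, Commute e a → ∃ y ∈ K, e = y ∨ e = a * y ∨ e = w' * y ∨ e = a * w' * y := by
    intro e he hev
    have hc' : Commute (γ.symm ⟨e, he⟩) v₁ := by
      have : Commute (⟨e, he⟩ : E₀) (γ v₁) := Subtype.ext (by push_cast; rw [hγv]; exact hev.eq)
      simpa using this.map γ.symm.toMonoidHom
    obtain ⟨y, hy', r⟩ := hC₁ _ hc'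
    refine ⟨(γ y : G), ⟨γ y, ⟨y, hy', rfl⟩, rfl⟩, ?_⟩
    rcases r with r | r | r | r <;> have e' := congrArg (fun u : E₀ => (γ u : G)) r <;>
      simp only [MulEquiv.apply_symm_apply, map_mul, Subgroup.coe_mul] at e'
    · exact Or.inl e'
    · exact Or.inr (Or.inl (by rw [← hγv]; exact e'))
    · exact Or.inr (Or.inr (Or.inl e'))
    · exact Or.inr (Or.inr (Or.inr (by rw [← hγv]; exact e')))
  have hcen₀ : ∀ e ∈ E₀, Commute e a → ∃ y ∈ K, e = y ∨ e = a * y ∨ e = b * y ∨ e = a * b * y := by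
    -- `b` in terms of `w'`
    obtain ⟨y₀, hy₀, hw'b⟩ : ∃ y₀ ∈ K, w' = b * y₀ ∨ w' = a * b * y₀ := by
      obtain ⟨y, hy', r⟩ := hcases b hy.bE hab.symm
      have ho := hKodd y hy'
      have hev : Even (orderOf b) := by rw [hy.bo]; exact even_two
      rcases r with r | r | r | r
      · exact absurd (r ▸ ho) (Nat.not_odd_iff_even.2 hev)
      · exfalso
        have h2 : orderOf y ∣ 2 := orderOf_dvd_of_pow_eq_one (by
          rw [show y = a * b by rw [r, ← mul_assoc, haa, one_mul], hab.mul_pow, pow_two, pow_two, haa, hbb, one_mul])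
        rw [orderOf_eq_one_iff.1 (Nat.Coprime.eq_one_of_dvd (Nat.coprime_two_right.2 ho) h2), mul_one] at r
        exact hy.ne r.symm
      · exact ⟨y⁻¹, inv_mem hy', Or.inl (by rw [r, mul_inv_cancel_right])⟩
      · refine ⟨y⁻¹, inv_mem hy', Or.inr ?_⟩
        rw [r, mul_assoc a (a * w' * y), mul_inv_cancel_right, ← mul_assoc, haa, one_mul]
    intro e he hev
    obtain ⟨y, hy', r⟩ := hcases e he hev
    rcases r with r | r | r | r
    · exact ⟨y, hy', Or.inl r⟩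
    · exact ⟨y, hy', Or.inr (Or.inl r)⟩
    · refine ⟨y₀ * y, mul_mem hy₀ hy', ?_⟩
      rcases hw'b with e' | e' <;> rw [e'] at r
      · exact Or.inr (Or.inr (Or.inl (by rw [r, mul_assoc])))
      · exact Or.inr (Or.inr (Or.inr (by rw [r, mul_assoc])))
    · refine ⟨y₀ * y, mul_mem hy₀ hy', ?_⟩
      rcases hw'b with e' | e' <;> rw [e'] at r
      · exact Or.inr (Or.inr (Or.inr (by rw [r]; simp only [mul_assoc])))
      · refine Or.inr (Or.inr (Or.inl ?_))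
        rw [r, show a * (a * b * y₀) * y = (a * a) * b * (y₀ * y) by group, haa, one_mul]
  -- the element of order three
  have hb1 : b ≠ 1 := fun e => by have := hy.bo; rw [e, orderOf_one] at this; omega
  have ha1 : a ≠ 1 := fun e => by have := hy.ao; rw [e, orderOf_one] at this; omega
  obtain ⟨g₂, hg₂N, hg₂⟩ := S.trans hy hy.aT ha1
  have hgN : ∀ {g : G}, g ∈ normalizer ((T : Subgroup G) : Set G) → ∀ x ∈ T, g * x * g⁻¹ ∈ T := fun hg x hx =>
    (mem_normalizer_iff.1 hg x).1 hx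
  have hnN := AbCentMax.n_mem_normalizer h hy
  have hnt : ∀ i : ℕ, n ^ i * t * (n ^ i)⁻¹ = t := fun i => by
    rw [← ((h.comm n (h.le hy.nE)).pow_right i).eq, mul_inv_cancel_right]
  obtain ⟨g, hgmem, hgv, hgb⟩ : ∃ g, g ∈ normalizer ((T : Subgroup G) : Set G) ∧ g * a * g⁻¹ = t ∧
      (g * b * g⁻¹ = a ∨ g * b * g⁻¹ = t * a) := by
    have hr : g₂⁻¹ * a * g₂ = t := by rw [← hg₂]; group
    have hg₂' : g₂⁻¹ ∈ normalizer ((T : Subgroup G) : Set G) := inv_mem hg₂N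
    have hne : g₂⁻¹ * b * g₂ ≠ 1 ∧ g₂⁻¹ * b * g₂ ≠ t := by
      refine ⟨fun e => hb1 ?_, fun e => hy.ne ?_⟩
      · rw [show b = g₂ * (g₂⁻¹ * b * g₂) * g₂⁻¹ by group, e]; group
      · rw [show b = g₂ * (g₂⁻¹ * b * g₂) * g₂⁻¹ by group, e, hg₂]
    have heT : g₂⁻¹ * b * g₂ ∈ T := by simpa using hgN hg₂' b hy.bT
    obtain ⟨w, hw, r⟩ := hy.cases _ heT
    have hw1 : w = a ∨ w = b ∨ w = a * b := by
      refine hw.resolve_left fun e => ?_
      rcases r with r | r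
      · exact hne.1 (r.trans e)
      · exact hne.2 (r.trans (by rw [e, mul_one]))
    have hnab : n * (a * b) * n⁻¹ = a := by
      rw [show n * (a * b) * n⁻¹ = (n * a * n⁻¹) * (n * b * n⁻¹) by group, hy.na, hy.nb, hab.eq, ← mul_assoc, hbb,
        one_mul]
    obtain ⟨i, hi⟩ : ∃ i : ℕ, n ^ i * w * (n ^ i)⁻¹ = a := by
      rcases hw1 with rfl | rfl | rfl
      · exact ⟨0, by simp⟩
      · exact ⟨2, by rw [pow_two, show n * n * w * (n * n)⁻¹ = n * (n * w * n⁻¹) * n⁻¹ by group, hy.nb, hnab]⟩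
      · exact ⟨1, by rw [pow_one, hnab]⟩
    refine ⟨n ^ i * g₂⁻¹, mul_mem (pow_mem hnN i) hg₂', ?_, ?_⟩
    · rw [show n ^ i * g₂⁻¹ * a * (n ^ i * g₂⁻¹)⁻¹ = n ^ i * (g₂⁻¹ * a * g₂) * (n ^ i)⁻¹ by group, hr, hnt]
    · rcases r with r | r
      · left
        rw [show n ^ i * g₂⁻¹ * b * (n ^ i * g₂⁻¹)⁻¹ = n ^ i * (g₂⁻¹ * b * g₂) * (n ^ i)⁻¹ by group, r, hi]
      · right
        rw [show n ^ i * g₂⁻¹ * b * (n ^ i * g₂⁻¹)⁻¹ = n ^ i * (g₂⁻¹ * b * g₂) * (n ^ i)⁻¹ by group, r,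
          show n ^ i * (t * w) * (n ^ i)⁻¹ = (n ^ i * t * (n ^ i)⁻¹) * (n ^ i * w * (n ^ i)⁻¹) by group, hnt, hi]
  set μ := g * n * g⁻¹ with hμ
  have hμo : orderOf μ = 3 := ((MulAut.conj g).orderOf_eq n).trans hy.no
  have hμt : μ * t * μ⁻¹ = g * b * g⁻¹ := by rw [← hgv, hμ, ← hy.na]; group
  have hμb : μ * (g * b * g⁻¹) * μ⁻¹ = t * (g * b * g⁻¹) := by
    rw [hμ, show g * n * g⁻¹ * (g * b * g⁻¹) * (g * n * g⁻¹)⁻¹ = g * (n * b * n⁻¹) * g⁻¹ by group, hy.nb, ← hgv]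
    group
  have htv : Commute t a := h.comm a (h.le hy.aE)
  obtain ⟨m, hmo, hmg, hmt, hmv⟩ : ∃ m, orderOf m = 3 ∧ (m = μ ∨ m = μ⁻¹) ∧ m * t * m⁻¹ = a ∧
      m * a * m⁻¹ = t * a := by
    rcases hgb with r | r <;> rw [r] at hμt hμb
    · exact ⟨μ, hμo, Or.inl rfl, hμt, hμb⟩
    · have e : μ * (t * a) * μ⁻¹ = a := by rw [hμb, ← mul_assoc, h.tt, one_mul]
      have ev : μ * a * μ⁻¹ = t := by
        have e2 : μ * a * μ⁻¹ = (μ * t * μ⁻¹) * (μ * (t * a) * μ⁻¹) := by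
          rw [show (μ * t * μ⁻¹) * (μ * (t * a) * μ⁻¹) = μ * (t * (t * a)) * μ⁻¹ by group, ← mul_assoc t, h.tt,
            one_mul]
        rw [e2, hμt, e, mul_assoc, haa, mul_one]
      refine ⟨μ⁻¹, by rw [orderOf_inv, hμo], Or.inr rfl, ?_, ?_⟩
      · rw [inv_inv]; nth_rw 1 [← ev]; group
      · rw [inv_inv]; nth_rw 1 [← e]; group
  have hpm : ∀ p ∈ S.Phi hy, Commute p m := fun p hp => by
    have hpg := S.normalizer_comm hy hgmem hp
    have hμp : Commute μ p := (hpg.mul_left (S.n_comm hy hp)).mul_left hpg.inv_left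
    rcases hmg with rfl | rfl
    · exact hμp.symm
    · exact hμp.inv_left.symm
  have hPE := S.Phi_le hy
  have hbnot : ¬ InFour t a b := by
    rintro (e | e | e | e)
    · exact hb1 e
    · exact h.disj (e ▸ h.le hy.bE)
    · exact hy.ne e.symm
    · exact h.disj (by rw [show t = b * a⁻¹ by rw [e, mul_inv_cancel_right]]; exact h.le (mul_mem hy.bE (inv_mem hy.aE)))
  refine ⟨⟨a, b, m, K, S.Phi hy, h.ord, hy.ao, hy.bo, hmo, h.comm, h.split, h.disj, h.le, h.norm, hy.aE, hy.bE,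
    fun e => h.disj (e ▸ h.le hy.aE), hbnot, hab, hmt, hmv, hPE, S.Phi_cyclic hy, fun p hp => S.Phi_inter hy hp,
    fun p hp => ((S.mem_Phi hy).1 hp).2.2.2, fun e he => S.exists_mul hy he, fun p hp => S.x_comm hy hp hy.aT,
    fun p hp => S.x_comm hy hp hy.bT, hpm, hKmem, hKcyc, hKcard, hk3, hkodd, by rwa [S.card_Phi hy], hinvb, hcen₀, ?_,
    S.ab⟩, rfl, rfl, rfl, g, hgmem, hmg⟩
  -- the centralizer of an element of `K`
  intro y hy' hy1 e he hey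
  obtain ⟨d, hd, p, hp, rfl⟩ := S.exists_mul hy he
  have hpv : Commute p a := S.x_comm hy hp hy.aT
  refine Commute.mul_left ?_ hpv
  obtain ⟨hyE, hyo, hyv⟩ := (hKmem y).1 hy'
  set z := p * y * p⁻¹ with hz
  have hzo : orderOf z = orderOf y := (MulAut.conj p).orderOf_eq y
  have hzK : z ∈ K := (hKmem z).2 ⟨h.norm p (hPE hp) y hyE, hzo.symm ▸ hyo,
    (hpv.mul_left hyv).mul_left hpv.inv_left⟩
  haveI := hKcyc
  have hyz : (⟨y, hy'⟩ : K) ∈ zpowers (⟨z, hzK⟩ : K) := mem_zpowers_of_order (by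
    rw [Subgroup.orderOf_mk, Subgroup.orderOf_mk, hzo])
  obtain ⟨i, hi⟩ := hyz
  have hiy : z ^ i = y := congrArg Subtype.val hi
  -- `d` normalizes the subgroup generated by `y`
  have hdz : d * z * d⁻¹ = y := by
    rw [hz, show d * (p * y * p⁻¹) * d⁻¹ = (d * p) * y * (d * p)⁻¹ by group, hey.eq, mul_inv_cancel_right]
  have hdy : d * y * d⁻¹ = y ^ i := by
    calc d * y * d⁻¹ = d * z ^ i * d⁻¹ := by rw [hiy]
      _ = (d * z * d⁻¹) ^ i := conj_zpow.symm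
      _ = y ^ i := by rw [hdz]
  set c := d * a * d⁻¹ with hc
  have hcy : Commute c (y ^ i) := by
    have h1 : Commute a y := hyv.symm
    have := (Commute.conj_iff d).2 h1
    rwa [hdy] at this
  have hcy' : Commute c y := by
    have hmem' : (⟨y, hy'⟩ : K) ∈ zpowers ((⟨y, hy'⟩ : K) ^ i) := mem_zpowers_of_order (by
      rw [show ((⟨y, hy'⟩ : K) ^ i) = ⟨d * y * d⁻¹, by rw [hdy]; exact zpow_mem hy' i⟩ from
            Subtype.ext (by push_cast; exact hdy.symm),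
        Subgroup.orderOf_mk, Subgroup.orderOf_mk]
      exact ((MulAut.conj d).orderOf_eq y).symm)
    obtain ⟨j, hj⟩ := hmem'
    have hj' : (y ^ i) ^ j = y := congrArg Subtype.val hj
    exact hj' ▸ hcy.zpow_right j
  have hcE : c ∈ E₀ := mul_mem (mul_mem hd hy.aE) (inv_mem hd)
  have hyγ : γ.symm ⟨y, hyE⟩ ∈ K₁ := by
    rw [hcomm₁, MulEquiv.orderOf_eq, orderOf_mk]
    refine ⟨hyo, ?_⟩
    have : Commute (⟨y, hyE⟩ : E₀) (γ v₁) := Subtype.ext (by push_cast; rw [hγv]; exact hyv.eq)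
    simpa using this.map γ.symm.toMonoidHom
  have hy1' : γ.symm ⟨y, hyE⟩ ≠ 1 := fun e' => hy1 (by
    have := congrArg (fun u : E₀ => (γ u : G)) e'; simpa using this)
  obtain ⟨-, y', hy'', r⟩ := hcent₁ _ hyγ hy1' (γ.symm ⟨c, hcE⟩)
    ((show Commute (⟨c, hcE⟩ : E₀) ⟨y, hyE⟩ from Subtype.ext hcy'.eq).map γ.symm.toMonoidHom)
  have hco : orderOf c = 2 := ((MulAut.conj d).orderOf_eq a).trans hy.ao
  have hy''K : (γ y' : G) ∈ K := ⟨γ y', ⟨y', hy'', rfl⟩, rfl⟩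
  have hca : c = a := by
    rcases r with r | r <;> have e' := congrArg (fun u : E₀ => (γ u : G)) r <;>
      simp only [MulEquiv.apply_symm_apply, map_mul, Subgroup.coe_mul] at e'
    · exfalso
      have := hKodd _ hy''K
      rw [← e', hco] at this
      exact absurd this (by decide)
    · rw [hγv] at e'
      have h2 : orderOf (γ y' : G) ∣ 2 := orderOf_dvd_of_pow_eq_one (by
        rw [show (γ y' : G) = a * c by rw [e', ← mul_assoc, haa, one_mul]]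
        have hac : Commute a c := by
          rw [e']; exact (Commute.refl a).mul_right ((hKmem _).1 hy''K).2.2.symm
        have hcc : c * c = 1 := by rw [← pow_two, ← hco, pow_orderOf_eq_one]
        rw [hac.mul_pow, pow_two, pow_two, haa, hcc, one_mul])
      rw [e', orderOf_eq_one_iff.1 (Nat.Coprime.eq_one_of_dvd (Nat.coprime_two_right.2 (hKodd _ hy''K)) h2), mul_one]
  exact mul_inv_eq_iff_eq_mul.1 hca

end Build

/-! ### First consequences -/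

namespace TFrame

variable {t : G} {E E₀ : Subgroup G} {k : ℕ} (Φ : TFrame t E E₀ k)

include Φ in
theorem tt : t * t = 1 := sq_one_of_order Φ.t_ord
theorem vv : Φ.v * Φ.v = 1 := sq_one_of_order Φ.v_ord
theorem bb : Φ.b * Φ.b = 1 := sq_one_of_order Φ.b_ord
include Φ in
theorem t_ne : t ≠ 1 := ne_one_of_order (by norm_num) Φ.t_ord
theorem v_ne_one : Φ.v ≠ 1 := ne_one_of_order (by norm_num) Φ.v_ord
theorem tv : Commute t Φ.v := Φ.t_comm _ (Φ.le Φ.vE)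
theorem tb : Commute t Φ.b := Φ.t_comm _ (Φ.le Φ.bE)
theorem pt {p : G} (hp : p ∈ Φ.Phi) : Commute p t := (Φ.t_comm _ (Φ.Phi_le hp)).symm

theorem tv_ne : t * Φ.v ≠ 1 := fun e => Φ.v_ne (by
  rw [← one_mul Φ.v, ← Φ.tt, mul_assoc, e, mul_one])

/-- The four-group. -/
def V : Subgroup G where
  carrier := {w | InFour t Φ.v w}
  one_mem' := Or.inl rfl
  mul_mem' {x w} hx hw := by
    have e1 : t * (t * Φ.v) = Φ.v := by rw [← mul_assoc, Φ.tt, one_mul]
    have e2 : Φ.v * (t * Φ.v) = t := by rw [← mul_assoc, ← Φ.tv.eq, mul_assoc, Φ.vv, mul_one]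
    have e3 : t * Φ.v * t = Φ.v := by rw [mul_assoc, ← Φ.tv.eq, e1]
    have e4 : t * Φ.v * Φ.v = t := by rw [mul_assoc, Φ.vv, mul_one]
    have e5 : t * Φ.v * (t * Φ.v) = 1 := by rw [← mul_assoc, e3, Φ.vv]
    rcases hx with rfl | rfl | rfl | rfl <;> rcases hw with rfl | rfl | rfl | rfl <;>
      simp [InFour, Φ.tt, Φ.vv, Φ.tv.eq.symm, e1, e2, e3, e4, e5]
  inv_mem' {x} hx := by
    have h1 := inv_eq_of_mul_eq_one_right Φ.tt
    have h2 := inv_eq_of_mul_eq_one_right Φ.vv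
    rcases hx with rfl | rfl | rfl | rfl <;> simp [InFour, h1, h2, Φ.tv.eq.symm]

theorem t_mem : t ∈ Φ.V := Or.inr (Or.inl rfl)
theorem v_mem : Φ.v ∈ Φ.V := Or.inr (Or.inr (Or.inl rfl))
theorem tv_mem : t * Φ.v ∈ Φ.V := Or.inr (Or.inr (Or.inr rfl))

theorem V_sq {w : G} (hw : w ∈ Φ.V) : w * w = 1 := by
  rcases hw with rfl | rfl | rfl | rfl
  · exact one_mul 1
  · exact Φ.tt
  · exact Φ.vv
  · rw [mul_assoc, ← mul_assoc Φ.v, ← Φ.tv.eq, mul_assoc, Φ.vv, mul_one, Φ.tt]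

theorem K_E0 {y : G} (hy : y ∈ Φ.K) : y ∈ E₀ := ((Φ.mem_K y).1 hy).1
theorem K_E {y : G} (hy : y ∈ Φ.K) : y ∈ E := Φ.le (Φ.K_E0 hy)
theorem K_odd {y : G} (hy : y ∈ Φ.K) : Odd (orderOf y) := ((Φ.mem_K y).1 hy).2.1
theorem K_v {y : G} (hy : y ∈ Φ.K) : Commute y Φ.v := ((Φ.mem_K y).1 hy).2.2
theorem K_t {y : G} (hy : y ∈ Φ.K) : Commute y t := (Φ.t_comm _ (Φ.K_E hy)).symm

theorem K_comm {a c : G} (ha : a ∈ Φ.K) (hc : c ∈ Φ.K) : Commute a c := by
  haveI := Φ.cyclic_K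
  letI := IsCyclic.commGroup (α := Φ.K)
  exact congrArg Subtype.val (mul_comm (⟨a, ha⟩ : Φ.K) ⟨c, hc⟩)

theorem V_comm_K {w y : G} (hw : w ∈ Φ.V) (hy : y ∈ Φ.K) : Commute w y := by
  rcases hw with rfl | rfl | rfl | rfl
  exacts [Commute.one_left y, (Φ.K_t hy).symm, (Φ.K_v hy).symm, (Φ.K_t hy).symm.mul_left (Φ.K_v hy).symm]

theorem V_comm_Phi {w p : G} (hw : w ∈ Φ.V) (hp : p ∈ Φ.Phi) : Commute w p := by
  rcases hw with rfl | rfl | rfl | rfl
  exacts [Commute.one_left p, (Φ.pt hp).symm, (Φ.pv p hp).symm, (Φ.pt hp).symm.mul_left (Φ.pv p hp).symm]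

theorem V_comm_b {w : G} (hw : w ∈ Φ.V) : Commute w Φ.b := by
  rcases hw with rfl | rfl | rfl | rfl
  exacts [Commute.one_left _, Φ.tb, Φ.vb, Φ.tb.mul_left Φ.vb]

theorem Phi_comm {p p' : G} (hp : p ∈ Φ.Phi) (hp' : p' ∈ Φ.Phi) : Commute p p' := by
  haveI := Φ.Phi_cyclic
  letI := IsCyclic.commGroup (α := Φ.Phi)
  exact congrArg Subtype.val (mul_comm (⟨p, hp⟩ : Φ.Phi) ⟨p', hp'⟩)

theorem conj_K_Phi {y p : G} (hy : y ∈ Φ.K) (hp : p ∈ Φ.Phi) : p * y * p⁻¹ ∈ Φ.K :=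
  (Φ.mem_K _).2 ⟨Φ.norm₀ p (Φ.Phi_le hp) y (Φ.K_E0 hy),
    (show orderOf (p * y * p⁻¹) = orderOf y from (MulAut.conj p).orderOf_eq y).symm ▸ Φ.K_odd hy,
    ((Φ.pv p hp).mul_left (Φ.K_v hy)).mul_left (Φ.pv p hp).inv_left⟩

/-- An element of `E` of order prime to `|Phi|` lies in `E₀`. -/
theorem mem_E0_of_coprime [Finite G] {x : G} (hx : x ∈ E) (h : (orderOf x).Coprime (Nat.card Φ.Phi)) : x ∈ E₀ := by
  obtain ⟨g, hg, p, hp, rfl⟩ := Φ.exists_mul x hx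
  have hpow : ∀ i : ℕ, ∃ g' ∈ E₀, (g * p) ^ i = g' * p ^ i := by
    intro i
    induction i with
    | zero => exact ⟨1, one_mem _, by simp⟩
    | succ i ih =>
      obtain ⟨g', hg', e⟩ := ih
      refine ⟨g' * (p ^ i * g * (p ^ i)⁻¹), mul_mem hg' (Φ.norm₀ _ (pow_mem (Φ.Phi_le hp) i) g hg), ?_⟩
      rw [pow_succ (g * p), e, pow_succ p]; group
  obtain ⟨g', hg', e⟩ := hpow (orderOf (g * p))
  have hp1 : p ^ orderOf (g * p) = 1 := by
    refine Φ.Phi_inter _ (pow_mem hp _) ?_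
    rw [pow_orderOf_eq_one] at e
    rw [eq_inv_of_mul_eq_one_right e.symm]
    exact inv_mem hg'
  have hp0 : p = 1 := orderOf_eq_one_iff.1 (Nat.Coprime.eq_one_of_dvd
    (Nat.Coprime.coprime_dvd_left (Subgroup.orderOf_dvd_natCard _ hp) h.symm)
    (orderOf_dvd_of_pow_eq_one hp1))
  rw [hp0, mul_one]
  exact hg

end TFrame

end Cfsg.Lib.Ree.Three
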