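import Cfsg.Agent.Ree.Three.Points
import Cfsg.Agent.Ree.Torus.Func.Main

/-!
The multiplicities of the functions `sgn_l (θ - 1) ζ` of `V × K⟨z⟩`: integrality, scalar products, the conjugation
and Galois invariance.
-/

set_option autoImplicit false
set_option linter.style.haveILetI false
set_option linter.unusedSectionVars false

namespace Cfsg.Lib.Ree.Three

open Subgroup Cfsg Cfsg.Lib.Chars Cfsg.Lib.Ree
open scoped ComplexConjugate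

universe u

attribute [local instance 10] _root_.Classical.propDecidable

variable {G : Type u} [Group G] {t : G} {E E₀ : Subgroup G} {k : ℕ}

/-- A character of the four-group with values in `ℂˣ`. -/
def sgnC (l : Fin 4) : Four →* ℂˣ := (Units.map (Int.castRingHom ℂ).toMonoidHom).comp (sgnHom l)

theorem sgnC_val (l : Fin 4) (w : Four) : (sgnC l w : ℂ) = (sgn l w : ℂ) := rfl

theorem sgn_zero (w : Four) : sgn 0 w = 1 := rfl

/-- The index of the composite of a character of `V` with a power of the cycle. -/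
def rotL (a : ℕ) (l : Fin 4) : Fin 4 :=
  if l = 0 then 0 else ⟨((l : ℕ) + 2 + a) % 3 + 1, by omega⟩

theorem rotL_zero (a : ℕ) : rotL a 0 = 0 := rfl

theorem rotL_spec : ∀ (a : Fin 3) (l : Fin 4) (w : Four), sgn (rotL a l) (rot^[(a : ℕ)] w) = sgn l w := by
  decide +kernel

theorem rotL_bijective : ∀ a : Fin 3, Function.Bijective (rotL a) := by decide +kernel

namespace TFrame

variable (Φ : TFrame t E E₀ k)

/-- The character of `V × K`. -/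
def lam (l : Fin 4) (θ : Φ.K →* ℂˣ) : Four × Φ.K →* ℂˣ :=
  (sgnC l).comp (MonoidHom.fst Four Φ.K) * θ.comp (MonoidHom.snd Four Φ.K)

/-- `θ` is fixed by conjugation by `z`. -/
def Fixed (z : G) (θ : Φ.K →* ℂˣ) : Prop := ∀ y y' : Φ.K, z * (y : G) * z⁻¹ = (y' : G) → θ y' = θ y

theorem fixed_one (θ : Φ.K →* ℂˣ) : Φ.Fixed 1 θ := fun y y' h => by
  rw [one_mul, inv_one, mul_one] at h; rw [Subtype.ext h]

theorem fixed_triv (z : G) : Φ.Fixed z 1 := fun _ _ _ => rfl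

/-- The point of a triple. -/
def pnt (z : G) (a : (Four × Φ.K) × zpowers z) : G := Φ.emb a.1 * (a.2 : G)

/-- The value of the function. -/
def val {z : G} (l : Fin 4) (θ : Φ.K →* ℂˣ) (ζ : zpowers z →* ℂˣ) (a : (Four × Φ.K) × zpowers z) : ℂ :=
  (sgn l a.1.1 : ℂ) * ((θ a.1.2 : ℂ) - 1) * (ζ a.2 : ℂ)

theorem conj_val {z : G} (l : Fin 4) (θ : Φ.K →* ℂˣ) (ζ : zpowers z →* ℂˣ) (a : (Four × Φ.K) × zpowers z) :
    conj (Φ.val l θ ζ a) = (sgn l a.1.1 : ℂ) * conj ((θ a.1.2 : ℂ) - 1) * conj (ζ a.2 : ℂ) := by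
  rw [val, map_mul, map_mul, map_intCast]

/-- The restriction of a character of `Phi`. -/
def res {z : G} (hz : z ∈ Φ.Phi) (ν : Φ.Phi →* ℂˣ) : zpowers z →* ℂˣ :=
  ν.comp (Subgroup.inclusion (zpowers_le.2 hz))

theorem res_apply {z : G} (hz : z ∈ Φ.Phi) (ν : Φ.Phi →* ℂˣ) (q : zpowers z) :
    Φ.res hz ν q = ν ⟨q, zpowers_le.2 hz q.2⟩ := rfl

section Mult

variable [Fintype G]

/-- The multiplicity, as a complex number. -/
noncomputable def mC (z : G) (l : Fin 4) (θ : Φ.K →* ℂˣ) (ζ : zpowers z →* ℂˣ) (χ : IrrCharacter G) : ℂ :=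
  (Nat.card ((Four × Φ.K) × zpowers z) : ℂ)⁻¹ *
    ∑ a : (Four × Φ.K) × zpowers z, (χ : G → ℂ) (Φ.pnt z a) * conj (Φ.val l θ ζ a)

/-- The multiplicity. -/
noncomputable def mlt (z : G) (l : Fin 4) (θ : Φ.K →* ℂˣ) (ζ : zpowers z →* ℂˣ) (χ : IrrCharacter G) : ℤ :=
  if h : ∃ n : ℤ, Φ.mC z l θ ζ χ = n then h.choose else 0

theorem card_dom (z : G) : (Nat.card ((Four × Φ.K) × zpowers z) : ℂ) = 4 * (k : ℂ) * (orderOf z : ℂ) := by
  rw [Nat.card_prod, Nat.card_prod, card_four, Φ.card_K, Nat.card_zpowers]; push_cast; ring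

include Φ in
theorem k_ne : (k : ℂ) ≠ 0 := by
  have := Φ.k_three
  exact_mod_cast (show k ≠ 0 by omega)

include Φ in
theorem o_ne (z : G) : (orderOf z : ℂ) ≠ 0 := by exact_mod_cast (orderOf_pos z).ne'

theorem lam_inv {z : G} (X : Ext Φ.emb z) {l : Fin 4} {θ : Φ.K →* ℂˣ}
    (hl : ∀ w w' : Four, z * Φ.vel w * z⁻¹ = Φ.vel w' → sgn l w' = sgn l w) (hθ : Φ.Fixed z θ) :
    ∀ a a', z * Φ.emb a * z⁻¹ = Φ.emb a' → Φ.lam l θ a' = Φ.lam l θ a := by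
  rintro ⟨w, y⟩ ⟨w', y'⟩ h
  obtain ⟨⟨w₁, y₁⟩, h₁⟩ := X.norm (w, 1)
  have hy₁ : y₁ = 1 := by
    have hsq : Φ.emb (w₁, y₁) * Φ.emb (w₁, y₁) = 1 := by
      rw [h₁, _root_.conj_mul, ← map_mul, show ((w, (1 : Φ.K)) : Four × Φ.K) * (w, 1) = 1 from
        Prod.ext (four_sq w) (one_mul 1), map_one, mul_one, mul_inv_cancel]
    rw [← map_mul, map_eq_one_iff _ Φ.emb_injective] at hsq
    exact Subtype.ext (eq_one_of_odd_sq (Φ.K_odd y₁.2) (congrArg Subtype.val (congrArg Prod.snd hsq)))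
  subst hy₁
  obtain ⟨⟨w₂, y₂⟩, h₂⟩ := X.norm (1, y)
  have hw₂ : w₂ = 1 := by
    have hy2 : Φ.emb (w₂, y₂) ^ orderOf (y : G) = 1 := by
      rw [h₂, conj_pow, ← map_pow, show ((1 : Four), y) ^ orderOf (y : G) = 1 from
        Prod.ext (one_pow _) (Subtype.ext (pow_orderOf_eq_one (y : G))), map_one, mul_one, mul_inv_cancel]
    rw [← map_pow, map_eq_one_iff _ Φ.emb_injective] at hy2
    have h0 : w₂ ^ orderOf (y : G) = 1 := congrArg Prod.fst hy2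
    obtain ⟨j, hj⟩ := Φ.K_odd y.2
    rwa [hj, pow_succ, pow_mul, pow_two, four_sq, one_pow, one_mul] at h0
  subst hw₂
  have e : Φ.emb (w', y') = Φ.emb (w₁, y₂) := by
    rw [← h, show ((w₁, y₂) : Four × Φ.K) = (w₁, 1) * (1, y₂) from Prod.ext (mul_one _).symm (one_mul _).symm, map_mul,
      h₁, h₂, show ((w, y) : Four × Φ.K) = (w, 1) * (1, y) from Prod.ext (mul_one _).symm (one_mul _).symm, map_mul]
    group
  obtain ⟨rfl, rfl⟩ := Prod.ext_iff.1 (Φ.emb_injective e)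
  have hw' : sgnC l w' = sgnC l w := by
    refine Units.ext ?_
    rw [sgnC_val, sgnC_val, hl w w' (by simpa [emb_apply] using h₁.symm)]
  have hy' : θ y' = θ y := hθ y y' (by simpa [emb_apply] using h₂.symm)
  simp [lam, hw', hy']

theorem mC_int {z : G} (X : Ext Φ.emb z) {l : Fin 4} {θ : Φ.K →* ℂˣ} (ζ : zpowers z →* ℂˣ)
    (hl : ∀ w w' : Four, z * Φ.vel w * z⁻¹ = Φ.vel w' → sgn l w' = sgn l w) (hθ : Φ.Fixed z θ)
    (χ : IrrCharacter G) : ∃ n : ℤ, Φ.mC z l θ ζ χ = n := by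
  set L := X.lin _ (Φ.lam_inv X hl hθ) ζ
  set L₁ := X.lin _ (Φ.lam_inv X hl (Φ.fixed_triv z)) ζ
  have hc := IsCharacter.restrict (isCharacter_of_irr χ.2) X.grp
  obtain ⟨n, hn⟩ := IsCharacter.exists_mult hc (isIrrCharacter_linear L)
  obtain ⟨n', hn'⟩ := IsCharacter.exists_mult hc (isIrrCharacter_linear L₁)
  refine ⟨(n : ℤ) - n', ?_⟩
  rw [classInner_def] at hn hn'
  rw [Int.cast_sub, Int.cast_natCast, Int.cast_natCast, ← hn, ← hn', ← mul_sub, ← Finset.sum_sub_distrib]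
  unfold mC
  rw [← Nat.card_congr X.equiv]
  congr 1
  refine Fintype.sum_equiv X.equiv _ _ fun a => ?_
  rw [X.lin_apply, X.lin_apply]
  show (χ : G → ℂ) (Φ.pnt z a) * conj (Φ.val l θ ζ a) = _
  rw [Φ.conj_val]
  show _ = (χ : G → ℂ) (Φ.pnt z a) * conj (((sgnC l a.1.1 * θ a.1.2) * ζ a.2 : ℂˣ) : ℂ) -
    (χ : G → ℂ) (Φ.pnt z a) * conj (((sgnC l a.1.1 * (1 : Φ.K →* ℂˣ) a.1.2) * ζ a.2 : ℂˣ) : ℂ)
  simp only [Units.val_mul, MonoidHom.one_apply, mul_one, map_mul, map_sub, map_one, sgnC_val,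
    map_intCast]
  ring

theorem mlt_spec {z : G} (hz : z ∈ Φ.Phi) {l : Fin 4} {θ : Φ.K →* ℂˣ} (ζ : zpowers z →* ℂˣ) (hθ : Φ.Fixed z θ)
    (χ : IrrCharacter G) : (Φ.mlt z l θ ζ χ : ℂ) = Φ.mC z l θ ζ χ := by
  have h := Φ.mC_int (Φ.ext_Phi hz) (l := l) ζ (fun w w' e => ?_) hθ χ
  · rw [mlt, dif_pos h, ← h.choose_spec]
  · rw [← (Φ.V_comm_Phi (Φ.vel_mem w) hz).eq, mul_inv_cancel_right] at e
    rw [Φ.vel_injective e]

theorem pnt_injective {z : G} (hz : z ∈ Φ.Phi) : Function.Injective (Φ.pnt z) :=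
  (Φ.ext_Phi hz).pt_inj

/-- The function on `G`. -/
noncomputable def fG (z : G) (l : Fin 4) (θ : Φ.K →* ℂˣ) (ζ : zpowers z →* ℂˣ) : G → ℂ :=
  Function.extend (Φ.pnt z) (Φ.val l θ ζ) 0

theorem sum_fG {z : G} (hz : z ∈ Φ.Phi) (l : Fin 4) (θ : Φ.K →* ℂˣ) (ζ : zpowers z →* ℂˣ) (c : G → ℂ) :
    ∑ h, c h * conj (Φ.fG z l θ ζ h) = ∑ a, c (Φ.pnt z a) * conj (Φ.val l θ ζ a) := by
  refine (Fintype.sum_of_injective (Φ.pnt z) (Φ.pnt_injective hz) _ _ (fun h hh => ?_) fun a => ?_).symm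
  · rw [fG, Function.extend_apply' _ _ _ (fun ⟨a, ha⟩ => hh ⟨a, ha⟩), Pi.zero_apply, map_zero, mul_zero]
  · rw [fG, (Φ.pnt_injective hz).extend_apply]

theorem mC_eq {z : G} (hz : z ∈ Φ.Phi) (l : Fin 4) (θ : Φ.K →* ℂˣ) (ζ : zpowers z →* ℂˣ) (χ : IrrCharacter G) :
    Φ.mC z l θ ζ χ = (Nat.card ((Four × Φ.K) × zpowers z) : ℂ)⁻¹ *
      ∑ h, (χ : G → ℂ) h * conj (Φ.fG z l θ ζ h) := by
  rw [mC, Φ.sum_fG hz l θ ζ]

theorem fixed_pow {z : G} {θ : Φ.K →* ℂˣ} (hθ : Φ.Fixed z θ) (hz : z ∈ Φ.Phi) {q : G} (hq : q ∈ zpowers z) :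
    Φ.Fixed q θ := by
  obtain ⟨n, rfl⟩ := mem_powers_iff_mem_zpowers.2 hq
  simp only at *
  clear hq
  induction n with
  | zero => simpa using Φ.fixed_one θ
  | succ n ih =>
    intro y y' h
    set y₁ : Φ.K := ⟨z ^ n * (y : G) * (z ^ n)⁻¹, Φ.conj_K_Phi y.2 (pow_mem hz n)⟩
    rw [← ih y y₁ rfl]
    refine hθ y₁ y' ?_
    rw [← h, pow_succ']
    show z * (z ^ n * (y : G) * (z ^ n)⁻¹) * z⁻¹ = _
    group

theorem pow_pnt {z : G} (hz : z ∈ Φ.Phi) {θ : Φ.K →* ℂˣ} (hθ : Φ.Fixed z θ) (a : (Four × Φ.K) × zpowers z) :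
    ∀ n : ℕ, ∃ y : Φ.K, θ y = θ a.1.2 ^ n ∧
      Φ.pnt z a ^ n = Φ.vel (a.1.1 ^ n) * ((y : G) * (a.2 : G) ^ n) := by
  have hq : (a.2 : G) ∈ Φ.Phi := zpowers_le.2 hz a.2.2
  intro n
  induction n with
  | zero => exact ⟨1, by rw [map_one, pow_zero], by simp⟩
  | succ n ih =>
    obtain ⟨y, hy, he⟩ := ih
    set y' : Φ.K := ⟨(a.2 : G) ^ n * (a.1.2 : G) * ((a.2 : G) ^ n)⁻¹,
      Φ.conj_K_Phi a.1.2.2 (pow_mem hq n)⟩
    refine ⟨y * y', ?_, ?_⟩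
    · rw [map_mul, hy, Φ.fixed_pow hθ hz (q := (a.2 : G) ^ n) (pow_mem a.2.2 n) a.1.2 y' rfl, pow_succ]
    · rw [pow_succ, he, pow_succ a.1.1, map_mul, pow_succ (a.2 : G), pnt, emb_apply]
      show Φ.vel (a.1.1 ^ n) * ((y : G) * (a.2 : G) ^ n) * (Φ.vel a.1.1 * (a.1.2 : G) * (a.2 : G)) =
        Φ.vel (a.1.1 ^ n) * Φ.vel a.1.1 *
          ((y : G) * ((a.2 : G) ^ n * (a.1.2 : G) * ((a.2 : G) ^ n)⁻¹) * ((a.2 : G) ^ n * (a.2 : G)))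
      have hc : Commute ((y : G) * (a.2 : G) ^ n) (Φ.vel a.1.1) :=
        ((Φ.V_comm_K (Φ.vel_mem _) y.2).mul_right (Φ.V_comm_Phi (Φ.vel_mem _) (pow_mem hq n))).symm
      rw [show Φ.vel (a.1.1 ^ n) * ((y : G) * (a.2 : G) ^ n) * (Φ.vel a.1.1 * (a.1.2 : G) * (a.2 : G)) =
        Φ.vel (a.1.1 ^ n) * ((y : G) * (a.2 : G) ^ n * Φ.vel a.1.1) * ((a.1.2 : G) * (a.2 : G)) by group, hc.eq]
      group

/-- A point of the support has a power which is a nontrivial element of `K`. -/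
theorem pow_supp {z : G} (hz : z ∈ Φ.Phi) {θ : Φ.K →* ℂˣ} (hθ : Φ.Fixed z θ) (a : (Four × Φ.K) × zpowers z)
    (hy : θ a.1.2 ≠ 1) : Φ.pnt z a ^ (2 * orderOf z) ∈ Φ.K ∧ Φ.pnt z a ^ (2 * orderOf z) ≠ 1 := by
  obtain ⟨y, hθy, he⟩ := Φ.pow_pnt hz hθ a (2 * orderOf z)
  have hq : (a.2 : G) ^ (2 * orderOf z) = 1 :=
    orderOf_dvd_iff_pow_eq_one.1 (dvd_mul_of_dvd_right (orderOf_dvd_of_mem_zpowers a.2.2) 2)
  rw [pow_mul a.1.1, pow_two a.1.1, four_sq, one_pow, map_one, one_mul, hq, mul_one] at he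
  rw [he]
  refine ⟨y.2, fun e => hy ?_⟩
  rw [show y = 1 from Subtype.ext e, map_one] at hθy
  have h1 : orderOf (θ a.1.2) ∣ k := (orderOf_map_dvd θ a.1.2).trans
    (Φ.card_K.subst (motive := fun n => orderOf a.1.2 ∣ n) (orderOf_dvd_natCard a.1.2))
  have hcop : (2 * orderOf z).Coprime k :=
    Nat.Coprime.mul_left (Nat.coprime_two_left.2 Φ.k_odd)
      (Nat.Coprime.coprime_dvd_left (Subgroup.orderOf_dvd_natCard _ hz) Φ.k_cop.symm)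
  exact orderOf_eq_one_iff.1 (Nat.eq_one_of_dvd_coprimes hcop
    (orderOf_dvd_of_pow_eq_one hθy.symm) h1)

theorem val_ne {z : G} {l : Fin 4} {θ : Φ.K →* ℂˣ} {ζ : zpowers z →* ℂˣ} {a : (Four × Φ.K) × zpowers z}
    (h : Φ.val l θ ζ a ≠ 0) : θ a.1.2 ≠ 1 := fun e => h (by simp [val, e])

/-- Conjugations between the supports are by elements of `N(V)`. -/
theorem conj_supp (htame : ∀ y ∈ Φ.K, y ≠ 1 → ∀ g : G, Commute g y → ∀ w ∈ Φ.V, g * w * g⁻¹ ∈ Φ.V)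
    {z z' : G} (hz : z ∈ Φ.Phi) (hz' : z' ∈ Φ.Phi) (hdvd : orderOf z' ∣ orderOf z) {θ θ' : Φ.K →* ℂˣ}
    (hθ : Φ.Fixed z θ) (hθ' : Φ.Fixed z' θ') {l l' : Fin 4} {ζ : zpowers z →* ℂˣ} {ζ' : zpowers z' →* ℂˣ} {g h : G}
    (h1 : Φ.fG z l θ ζ h ≠ 0) (h2 : Φ.fG z' l' θ' ζ' (g * h * g⁻¹) ≠ 0) : g ∈ Φ.NV := by
  obtain ⟨a, rfl⟩ : ∃ a, Φ.pnt z a = h := by
    by_contra hc
    exact h1 (by rw [fG, Function.extend_apply' _ _ _ hc]; rfl)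
  obtain ⟨a', ha'⟩ : ∃ a', Φ.pnt z' a' = g * Φ.pnt z a * g⁻¹ := by
    by_contra hc
    exact h2 (by rw [fG, Function.extend_apply' _ _ _ hc]; rfl)
  rw [fG, (Φ.pnt_injective hz).extend_apply] at h1
  rw [← ha', fG, (Φ.pnt_injective hz').extend_apply] at h2
  obtain ⟨hK, hne⟩ := Φ.pow_supp hz hθ a (Φ.val_ne h1)
  obtain ⟨hK', -⟩ := Φ.pow_supp hz' hθ' a' (Φ.val_ne h2)
  refine Φ.norm_of_conj htame hK hne ?_
  rw [← conj_pow, ← ha']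
  obtain ⟨d, hd⟩ := hdvd
  rw [hd, ← mul_assoc, pow_mul]
  exact pow_mem hK' d

theorem sum_pair_sub {A : Type u} [Group A] [Fintype A] {θ μ : A →* ℂˣ} (hθ : θ ≠ 1) (hμ : μ ≠ 1) :
    ∑ y, conj ((θ y : ℂ) - 1) * ((μ y : ℂ) - 1) = (Nat.card A : ℂ) * ((if μ = θ then 1 else 0) + 1) := by
  rw [Finset.sum_congr rfl fun y _ => show conj ((θ y : ℂ) - 1) * ((μ y : ℂ) - 1) =
    conj (θ y : ℂ) * (μ y : ℂ) - (μ y : ℂ) - conj ((θ y : ℂ) - 1) by rw [map_sub, map_one]; ring,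
    Finset.sum_sub_distrib, Finset.sum_sub_distrib, sum_pair_lin, sum_lin, if_neg hμ, sum_sub_one hθ]
  split_ifs <;> ring

theorem comp_act_ne {θ : Φ.K →* ℂˣ} (hθ : θ ≠ 1) (c : Fin 3 × Bool × Φ.Phi) : θ.comp (Φ.act c) ≠ 1 := fun e =>
  hθ (MonoidHom.ext fun y => by
    obtain ⟨y', rfl⟩ := (Φ.act_bijective c).2 y
    exact DFunLike.congr_fun e y')

/-- The scalar products. -/
theorem inner_mC (htame : ∀ y ∈ Φ.K, y ≠ 1 → ∀ g : G, Commute g y → ∀ w ∈ Φ.V, g * w * g⁻¹ ∈ Φ.V)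
    {z z' : G} (hz : z ∈ Φ.Phi) (hz' : z' ∈ Φ.Phi) (hle : z' ∈ zpowers z) {θ θ' : Φ.K →* ℂˣ}
    (hθ : Φ.Fixed z θ) (hθ' : Φ.Fixed z' θ') (hθ1 : θ ≠ 1) (hθ'1 : θ' ≠ 1) (l l' : Fin 4)
    (ν ν' : Φ.Phi →* ℂˣ) :
    ∑ χ : IrrCharacter G, Φ.mC z l θ (Φ.res hz ν) χ * conj (Φ.mC z' l' θ' (Φ.res hz' ν') χ) =
      (if Φ.res hz' ν' = Φ.res hz' ν then 1 else 0) * (4 * (orderOf z : ℂ))⁻¹ *
        ∑ c : Fin 3 × Bool × Φ.Phi,
          (table l l' c.1 : ℂ) * ((if θ'.comp (Φ.act c) = θ then 1 else 0) + 1) := by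
  classical
  set ζ := Φ.res hz ν
  set ζ' := Φ.res hz' ν'
  set N : ℂ := (Nat.card ((Four × Φ.K) × zpowers z) : ℂ)
  set N' : ℂ := (Nat.card ((Four × Φ.K) × zpowers z') : ℂ)
  have hN : N = 4 * (k : ℂ) * (orderOf z : ℂ) := Φ.card_dom z
  have hN' : N' = 4 * (k : ℂ) * (orderOf z' : ℂ) := Φ.card_dom z'
  -- one element of the normalizer
  have hterm : ∀ n : (Fin 3 × Bool × Φ.Phi) × (Four × Φ.K),
      ∑ h, conj (Φ.fG z l θ ζ h) * Φ.fG z' l' θ' ζ' (Φ.nvPt n * h * (Φ.nvPt n)⁻¹) =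
        (table l l' n.1.1 : ℂ) * ((k : ℂ) * ((if θ'.comp (Φ.act n.1) = θ then 1 else 0) + 1)) *
          ((orderOf z' : ℂ) * if ζ' = Φ.res hz' ν then 1 else 0) := by
    intro n
    rw [Finset.sum_congr rfl fun h _ => mul_comm (conj (Φ.fG z l θ ζ h)) _,
      Φ.sum_fG hz l θ ζ (fun h => Φ.fG z' l' θ' ζ' (Φ.nvPt n * h * (Φ.nvPt n)⁻¹))]
    let ι : (Four × Φ.K) × zpowers z' → (Four × Φ.K) × zpowers z := fun a =>
      (a.1, ⟨a.2, zpowers_le.2 hle a.2.2⟩)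
    have hι : Function.Injective ι := fun a a' e =>
      Prod.ext (Prod.ext_iff.1 e).1 (Subtype.ext (congrArg (fun q : zpowers z => (q : G)) (Prod.ext_iff.1 e).2))
    have hcp := fun (a : (Four × Φ.K) × zpowers z) => Φ.conj_pt n a.1.1 a.1.2 (zpowers_le.2 hz a.2.2)
    rw [← Fintype.sum_of_injective ι hι (fun a =>
      ((sgn l' (rot^[(n.1.1 : ℕ)] a.1.1) : ℂ) * ((θ'.comp (Φ.act n.1) a.1.2 : ℂ) - 1) * (ζ' a.2 : ℂ)) *
        ((sgn l a.1.1 : ℂ) * conj ((θ a.1.2 : ℂ) - 1) * conj (Φ.res hz' ν a.2 : ℂ))) _ (fun a ha => ?_) fun a => ?_]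
    · rw [Fintype.sum_prod_type, Fintype.sum_prod_type]
      have hq : ∑ q : zpowers z', (ζ' q : ℂ) * conj (Φ.res hz' ν q : ℂ) =
          (orderOf z' : ℂ) * if ζ' = Φ.res hz' ν then 1 else 0 := by
        rw [Finset.sum_congr rfl fun q _ => mul_comm (ζ' q : ℂ) _, sum_pair_lin, Nat.card_zpowers]
        split_ifs <;> ring
      have hy := sum_pair_sub hθ1 (Φ.comp_act_ne hθ'1 n.1)
      rw [Φ.card_K] at hy
      rw [← hq, ← hy, table, Int.cast_sum, Finset.sum_mul_sum, Finset.sum_mul]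
      refine Finset.sum_congr rfl fun w _ => ?_
      rw [Finset.sum_mul]
      refine Finset.sum_congr rfl fun y _ => ?_
      rw [Finset.mul_sum]
      refine Finset.sum_congr rfl fun q _ => ?_
      push_cast
      ring
    · obtain ⟨Y, hY, -⟩ := hcp a
      rw [fG, Function.extend_apply' _ _ _ ?_, Pi.zero_apply, zero_mul]
      rintro ⟨⟨⟨w', y'⟩, q'⟩, e⟩
      refine ha ⟨(a.1, ⟨a.2, ?_⟩), rfl⟩
      rw [pnt, pnt, hY, emb_apply, emb_apply, mul_assoc, mul_assoc] at e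
      obtain ⟨-, -, e3⟩ := Φ.split_unique (Φ.vel_mem _) (Φ.vel_mem _) y'.2 Y.2 (zpowers_le.2 hz' q'.2)
        (zpowers_le.2 hz a.2.2) e
      exact e3 ▸ q'.2
    · obtain ⟨Y, hY, hθY⟩ := hcp (ι a)
      rw [show Φ.nvPt n * Φ.pnt z (ι a) * (Φ.nvPt n)⁻¹ = Φ.pnt z' ((rot^[(n.1.1 : ℕ)] a.1.1, Y), a.2) from hY, fG,
        (Φ.pnt_injective hz').extend_apply, val, conj_val]
      show _ = _ * ((θ' Y : ℂ) - 1) * _ * _
      rw [hθY θ' (Φ.fixed_pow hθ' hz' a.2.2)]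
      rfl
  have hNV : Finset.univ.filter (· ∈ Φ.NV) = Finset.univ.image Φ.nvPt := by
    ext g
    simp only [Finset.mem_filter, Finset.mem_univ, true_and, Finset.mem_image]
    exact ⟨Φ.exists_nvPt, by rintro ⟨a, rfl⟩; exact Φ.nvPt_NV a⟩
  have hdvd : orderOf z' ∣ orderOf z := orderOf_dvd_of_mem_zpowers hle
  rw [Finset.sum_congr rfl fun χ _ => show Φ.mC z l θ ζ χ * conj (Φ.mC z' l' θ' ζ' χ) =
    N⁻¹ * N'⁻¹ * ((∑ h, (χ : G → ℂ) h * conj (Φ.fG z l θ ζ h)) *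
      conj (∑ h, (χ : G → ℂ) h * conj (Φ.fG z' l' θ' ζ' h))) by
    rw [Φ.mC_eq hz, Φ.mC_eq hz', map_mul (starRingEnd ℂ), map_inv₀, map_natCast]; ring, ← Finset.mul_sum,
    orth_sum _ _ Φ.NV (fun g h h1 h2 => Φ.conj_supp htame hz hz' hdvd hθ hθ' h1 h2), hNV,
    Finset.sum_image Φ.nvPt_injective.injOn, Finset.sum_congr rfl fun n _ => hterm n, Fintype.sum_prod_type,
    Finset.sum_congr rfl fun c _ => (Finset.sum_const _ :
      ∑ _x : Four × Φ.K, (table l l' c.1 : ℂ) * ((k : ℂ) * ((if θ'.comp (Φ.act c) = θ then 1 else 0) + 1)) *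
        ((orderOf z' : ℂ) * if ζ' = Φ.res hz' ν then 1 else 0) = _), Finset.mul_sum, Finset.mul_sum]
  refine Finset.sum_congr rfl fun c _ => ?_
  have := Φ.k_ne
  have := Φ.o_ne z
  have := Φ.o_ne z'
  rw [Finset.card_univ, nsmul_eq_mul, ← Nat.card_eq_fintype_card, Nat.card_prod, card_four, Φ.card_K, hN, hN']
  push_cast
  field_simp

/-- The conjugation by `rep c`. -/
theorem mC_conj {z : G} (hz : z ∈ Φ.Phi) (c : Fin 3 × Bool × Φ.Phi) (l : Fin 4) (θ : Φ.K →* ℂˣ)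
    (ζ : zpowers z →* ℂˣ) (χ : IrrCharacter G) :
    Φ.mC z l (θ.comp (Φ.act c)) ζ χ = Φ.mC z (rotL c.1 l) θ ζ χ := by
  unfold mC
  congr 1
  let σ : (Four × Φ.K) × zpowers z → (Four × Φ.K) × zpowers z := fun a =>
    ((rot^[(c.1 : ℕ)] a.1.1, Φ.act c a.1.2), a.2)
  have hrot : ∀ i : Fin 3, Function.Injective (rot^[(i : ℕ)] : Four → Four) := by decide +kernel
  have hσ : Function.Injective σ := fun a a' e => by
    obtain ⟨e1, e2⟩ := Prod.ext_iff.1 e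
    obtain ⟨e3, e4⟩ := Prod.ext_iff.1 e1
    exact Prod.ext (Prod.ext (hrot _ e3) ((Φ.act_bijective c).1 e4)) e2
  refine Fintype.sum_bijective σ (Finite.injective_iff_bijective.1 hσ) _ _ fun a => ?_
  have hp : Φ.pnt z (σ a) = Φ.rep c * Φ.pnt z a * (Φ.rep c)⁻¹ := by
    rw [pnt, pnt, emb_apply, emb_apply]
    show Φ.vel (rot^[(c.1 : ℕ)] a.1.1) * (Φ.act c a.1.2 : G) * (a.2 : G) = _
    rw [← rep_vel, act_coe, show Φ.rep c * (Φ.vel a.1.1 * (a.1.2 : G) * (a.2 : G)) * (Φ.rep c)⁻¹ =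
      Φ.rep c * Φ.vel a.1.1 * (Φ.rep c)⁻¹ * (Φ.rep c * (a.1.2 : G) * (Φ.rep c)⁻¹) *
        (Φ.rep c * (a.2 : G) * (Φ.rep c)⁻¹) by group, (Φ.rep_comm (zpowers_le.2 hz a.2.2)).eq, mul_inv_cancel_right]
  rw [hp, isClassFunction_irr χ (Φ.pnt z a) (Φ.rep c), conj_val, conj_val]
  show _ = _ * ((sgn (rotL c.1 l) (rot^[(c.1 : ℕ)] a.1.1) : ℂ) * _ * _)
  rw [rotL_spec]
  rfl

/-- The Galois invariance. -/
theorem mC_pow {z : G} (X : Ext Φ.emb z) {l : Fin 4} {θ : Φ.K →* ℂˣ} (ζ ζ' : zpowers z →* ℂˣ)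
    (hl : ∀ w w' : Four, z * Φ.vel w * z⁻¹ = Φ.vel w' → sgn l w' = sgn l w) (hθ : Φ.Fixed z θ) {j : ℕ}
    (hj : j.Coprime (Nat.card G)) (hodd : Odd j) (hθj : ∀ y, θ y ^ j = θ y) (hζ : ∀ q, ζ' q = ζ q ^ j)
    (χ : IrrCharacter G) : Φ.mC z l θ ζ' (powPerm hj χ) = Φ.mC z l θ ζ χ := by
  have hsum : ∀ (θ₁ : Φ.K →* ℂˣ), Φ.Fixed z θ₁ → (∀ y, θ₁ y ^ j = θ₁ y) →
      ∑ a : (Four × Φ.K) × zpowers z, ((powPerm hj χ : IrrCharacter G) : G → ℂ) (Φ.pnt z a) *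
          conj ((Φ.lam l θ₁ a.1 * ζ' a.2 : ℂˣ) : ℂ) =
        ∑ a : (Four × Φ.K) × zpowers z, (χ : G → ℂ) (Φ.pnt z a) * conj ((Φ.lam l θ₁ a.1 * ζ a.2 : ℂˣ) : ℂ) := by
    intro θ₁ hθ₁ hθ₁j
    have hL := Φ.lam_inv X hl hθ₁
    rw [Fintype.sum_equiv X.equiv _
        (fun h : X.grp => ((powPerm hj χ : IrrCharacter G) : G → ℂ) h * conj (X.lin _ hL ζ' h : ℂ))
        (fun a => by rw [X.lin_apply]; rfl),
      Fintype.sum_equiv X.equiv _ (fun h : X.grp => (χ : G → ℂ) h * conj (X.lin _ hL ζ h : ℂ))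
        (fun a => by rw [X.lin_apply]; rfl)]
    refine sum_powPerm hj X.grp χ fun h => ?_
    obtain ⟨a, rfl⟩ := X.equiv.surjective h
    rw [X.lin_apply, X.lin_apply, mul_pow, hζ]
    congr 1
    have hs : sgnC l a.1.1 ^ j = sgnC l a.1.1 := by
      obtain ⟨i, rfl⟩ := hodd
      rw [pow_succ, pow_mul, ← map_pow, pow_two, four_sq, map_one, one_pow, one_mul]
    show sgnC l a.1.1 * θ₁ a.1.2 = (sgnC l a.1.1 * θ₁ a.1.2) ^ j
    rw [mul_pow, hθ₁j, hs]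
  have h1 := hsum θ hθ hθj
  have h2 := hsum 1 (Φ.fixed_triv z) fun y => one_pow j
  unfold mC
  congr 1
  have key : ∀ (ψ : IrrCharacter G) (η : zpowers z →* ℂˣ),
      ∑ a : (Four × Φ.K) × zpowers z, (ψ : G → ℂ) (Φ.pnt z a) * conj (Φ.val l θ η a) =
        (∑ a : (Four × Φ.K) × zpowers z, (ψ : G → ℂ) (Φ.pnt z a) * conj ((Φ.lam l θ a.1 * η a.2 : ℂˣ) : ℂ)) -
          ∑ a : (Four × Φ.K) × zpowers z, (ψ : G → ℂ) (Φ.pnt z a) * conj ((Φ.lam l 1 a.1 * η a.2 : ℂˣ) : ℂ) := by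
    intro ψ η
    rw [← Finset.sum_sub_distrib]
    refine Finset.sum_congr rfl fun a _ => ?_
    rw [conj_val]
    simp only [lam, MonoidHom.mul_apply, MonoidHom.coe_comp, Function.comp_apply, MonoidHom.coe_fst, MonoidHom.coe_snd,
      Units.val_mul, MonoidHom.one_apply, mul_one, map_mul, map_sub, map_one, sgnC_val, map_intCast]
    ring
  rw [key, key, h1, h2]

end Mult

end TFrame

end Cfsg.Lib.Ree.Three
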