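import Cfsg.Agent.Ree.Three.Func
import Cfsg.Agent.Ree.Twist.Steinberg
import Cfsg.Agent.Ree.Field.Spec

/-!
The linear characters of `E` trivial on `E₀` as characters of `Phi`, and the sums of `(θ - 1) ζ` against the twists
of the members of the principal block of `E` on `K⟨z⟩`: the second and the third member give the same sum, as
otherwise the norm of the function induced from `⟨v⟩ × K⟨z⟩` would be too large.
-/

set_option autoImplicit false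
set_option linter.style.haveILetI false
set_option linter.unusedSectionVars false

namespace Cfsg.Lib.Ree.Three

open Subgroup Cfsg Cfsg.Lib.Chars Cfsg.Lib.Ree
open scoped ComplexConjugate

universe u

attribute [local instance 10] _root_.Classical.propDecidable

variable {G : Type u} [Group G] {t : G} {E E₀ : Subgroup G} {k : ℕ}

namespace TFrame

variable (Φ : TFrame t E E₀ k)

/-! ### The characters of `E` trivial on `E₀` -/

theorem decomp (e : E) : ∃ p : Φ.Phi, (e : G) * (p : G)⁻¹ ∈ E₀ := by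
  obtain ⟨g, hg, p, hp, h⟩ := Φ.exists_mul e e.2
  exact ⟨⟨p, hp⟩, by rw [h, mul_inv_cancel_right]; exact hg⟩

theorem decomp_unique {g : G} {p p' : Φ.Phi} (h : g * (p : G)⁻¹ ∈ E₀) (h' : g * (p' : G)⁻¹ ∈ E₀) : p = p' := by
  have h1 := mul_mem (inv_mem h') h
  rw [show (g * (p' : G)⁻¹)⁻¹ * (g * (p : G)⁻¹) = (p' : G) * (p : G)⁻¹ by group] at h1
  exact Subtype.ext (mul_inv_eq_one.1 (Φ.Phi_inter _ (mul_mem p'.2 (inv_mem p.2)) h1)).symm

/-- The projection of `E` on `Phi`. -/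
noncomputable def proj : E →* Φ.Phi :=
  MonoidHom.mk' (fun e => (Φ.decomp e).choose) fun e e' =>
    Φ.decomp_unique (Φ.decomp (e * e')).choose_spec (by
      have h := mul_mem (Φ.decomp e).choose_spec
        (Φ.norm₀ _ (Φ.Phi_le (Φ.decomp e).choose.2) _ (Φ.decomp e').choose_spec)
      generalize (Φ.decomp e).choose = p at h ⊢
      generalize (Φ.decomp e').choose = p' at h ⊢
      rw [Subgroup.coe_mul, Subgroup.coe_mul]
      rwa [show (e : G) * (p : G)⁻¹ * ((p : G) * ((e' : G) * (p' : G)⁻¹) * (p : G)⁻¹) =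
        (e : G) * e' * ((p : G) * p')⁻¹ by group] at h)

theorem proj_eq {e : E} {p : Φ.Phi} (h : (e : G) * (p : G)⁻¹ ∈ E₀) : Φ.proj e = p :=
  Φ.decomp_unique (Φ.decomp e).choose_spec h

theorem proj_E0 {e : E} (h : (e : G) ∈ E₀) : Φ.proj e = 1 :=
  Φ.proj_eq (by rw [OneMemClass.coe_one, inv_one, mul_one]; exact h)

/-- The character of `E`. -/
noncomputable def mu (ν : Φ.Phi →* ℂˣ) : E →* ℂˣ := ν.comp Φ.proj

theorem mu_E0 (ν : Φ.Phi →* ℂˣ) (e : E) (h : (e : G) ∈ E₀) : Φ.mu ν e = 1 := by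
  rw [mu, MonoidHom.comp_apply, Φ.proj_E0 h, map_one]

theorem mu_mul (ν : Φ.Phi →* ℂˣ) {e : E} {g : G} {p : Φ.Phi} (hg : g ∈ E₀) (he : (e : G) = g * p) :
    Φ.mu ν e = ν p := by
  rw [mu, MonoidHom.comp_apply, Φ.proj_eq (p := p) (by rw [he, mul_inv_cancel_right]; exact hg)]

theorem mu_injective : Function.Injective Φ.mu := fun ν ν' h => MonoidHom.ext fun p => by
  have e := DFunLike.congr_fun h ⟨p, Φ.Phi_le p.2⟩
  rwa [Φ.mu_mul ν (g := 1) (p := p) (one_mem _) (one_mul _).symm,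
    Φ.mu_mul ν' (g := 1) (p := p) (one_mem _) (one_mul _).symm] at e

theorem exists_mu {μ : E →* ℂˣ} (hμ : ∀ y : E, (y : G) ∈ E₀ → μ y = 1) : ∃ ν, Φ.mu ν = μ := by
  refine ⟨μ.comp (Subgroup.inclusion Φ.Phi_le), MonoidHom.ext fun e => ?_⟩
  show μ (Subgroup.inclusion Φ.Phi_le (Φ.proj e)) = μ e
  have h := hμ (e * (Subgroup.inclusion Φ.Phi_le (Φ.proj e))⁻¹) (Φ.decomp e).choose_spec
  rw [map_mul, map_inv, mul_inv_eq_one] at h
  exact h.symm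

/-- The characters with a given restriction to `⟨z⟩`. -/
theorem fibre_card [Finite G] [Fintype (Φ.Phi →* ℂˣ)] {z : G} (hz : z ∈ Φ.Phi) (ν : Φ.Phi →* ℂˣ) :
    orderOf z * (Finset.univ.filter fun ρ => Φ.res hz ρ = Φ.res hz ν).card = Nat.card Φ.Phi := by
  haveI := Φ.Phi_cyclic
  letI : CommGroup Φ.Phi := IsCyclic.commGroup
  letI : Fintype (zpowers z) := Fintype.ofFinite _
  apply Nat.cast_injective (R := ℂ)
  have h1 : ∀ ρ : Φ.Phi →* ℂˣ, (if Φ.res hz ρ = Φ.res hz ν then (orderOf z : ℂ) else 0) =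
      ∑ q : zpowers z, conj (Φ.res hz ν q : ℂ) * (Φ.res hz ρ q : ℂ) := fun ρ => by
    rw [sum_pair_lin, Nat.card_zpowers]
  rw [Nat.cast_mul, mul_comm, ← nsmul_eq_mul, ← Finset.sum_const, Finset.sum_filter]
  refine (Finset.sum_congr rfl fun ρ _ => (by convert h1 ρ)).trans ?_
  rw [Finset.sum_comm,
    Finset.sum_congr rfl fun (q : zpowers z) _ => show _ = if q = 1 then (Nat.card Φ.Phi : ℂ) else 0 by
      rw [← Finset.mul_sum]
      simp only [res_apply]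
      rw [sum_dual_point]
      by_cases hq : q = 1
      · subst hq
        rw [show (⟨((1 : zpowers z) : G), zpowers_le.2 hz (1 : zpowers z).2⟩ : Φ.Phi) = 1 from rfl]
        simp
      · rw [if_neg hq, if_neg fun e => hq (Subtype.ext (congrArg Subtype.val e : (q : G) = 1)), mul_zero],
    Finset.sum_ite_eq', if_pos (Finset.mem_univ _)]

theorem dual_finite [Finite G] : Finite (Φ.Phi →* ℂˣ) := by
  haveI := Φ.Phi_cyclic
  letI : CommGroup Φ.Phi := IsCyclic.commGroup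
  exact Finite.of_equiv Φ.Phi (CommGroup.monoidHom_mulEquiv_of_hasEnoughRootsOfUnity Φ.Phi ℂ).some.toEquiv.symm

/-! ### The points in `E` -/

theorem W_vel_even [Finite G] {w : Four} (hw : w ≠ 1) {x : G} (hx : x ∈ Φ.W) : 2 ∣ orderOf (Φ.vel w * x) := by
  have h2 : orderOf (Φ.vel w) = 2 := orderOf_eq_prime (by rw [pow_two, Φ.V_sq (Φ.vel_mem w)]) fun e =>
    hw (Φ.vel_injective (e.trans (map_one _).symm))
  rw [(Φ.V_comm_W (Φ.vel_mem w) hx).orderOf_mul_eq_mul_orderOf_of_coprime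
    (by rw [h2]; exact Nat.coprime_two_left.2 (Φ.W_odd hx)), h2]
  exact dvd_mul_right _ _

theorem vel_snd_E (a : ℤˣ) : Φ.vel (1, a) ∈ E := by
  rcases Int.units_eq_one_or a with rfl | rfl
  · rw [show ((1 : ℤˣ), (1 : ℤˣ)) = (1 : Four) from rfl, map_one]; exact one_mem E
  · rw [vel_vee]; exact Φ.le Φ.vE

/-- The parametrization of `⟨v⟩ × K` inside `E`. -/
def embE : ℤˣ × Φ.K →* E :=
  (Φ.emb.comp (MonoidHom.prodMap (MonoidHom.inr ℤˣ ℤˣ) (MonoidHom.id Φ.K))).codRestrict E fun a => by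
    show Φ.emb ((1, a.1), a.2) ∈ E
    rw [emb_apply]
    exact mul_mem (Φ.vel_snd_E a.1) (Φ.K_E a.2.2)

theorem embE_coe (a : ℤˣ × Φ.K) : (Φ.embE a : G) = Φ.emb ((1, a.1), a.2) := rfl

theorem ext_E [Finite G] {z : G} (hz : z ∈ Φ.Phi) : Ext Φ.embE (⟨z, Φ.Phi_le hz⟩ : E) := by
  have X := Φ.ext_Phi hz
  refine ⟨fun a a' e => ?_, fun a => ⟨(a.1, ⟨_, Φ.conj_K_Phi a.2.2 hz⟩), Subtype.ext ?_⟩, fun a ha => ?_⟩
  · have h := Φ.emb_injective (congrArg Subtype.val e : Φ.emb ((1, a.1), a.2) = Φ.emb ((1, a'.1), a'.2))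
    exact Prod.ext (congrArg (fun b : Four × Φ.K => b.1.2) h) (congrArg Prod.snd h :)
  · show Φ.emb ((1, a.1), _) = z * Φ.emb ((1, a.1), a.2) * z⁻¹
    rw [emb_apply, emb_apply]
    show Φ.vel (1, a.1) * (z * a.2 * z⁻¹) = z * (Φ.vel (1, a.1) * a.2) * z⁻¹
    rw [← mul_assoc, ← mul_assoc, (Φ.V_comm_Phi (Φ.vel_mem _) hz).eq]
    group
  · obtain ⟨j, hj⟩ := ha
    exact Subtype.ext (X.disj _ ⟨j, (SubgroupClass.coe_zpow (⟨z, Φ.Phi_le hz⟩ : E) j).symm.trans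
      (congrArg Subtype.val hj)⟩)

variable [Fintype G]

/-- The element `y q` of `E`. -/
def eW {z : G} (hz : z ∈ Φ.Phi) (y : Φ.K) (q : zpowers z) : E :=
  ⟨(y : G) * q, mul_mem (Φ.K_E y.2) (Φ.Phi_le (zpowers_le.2 hz q.2))⟩

theorem eW_W {z : G} (hz : z ∈ Φ.Phi) (y : Φ.K) (q : zpowers z) : (y : G) * q ∈ Φ.W :=
  Φ.mul_mem_W y.2 (zpowers_le.2 hz q.2)

theorem eW_odd {z : G} (hz : z ∈ Φ.Phi) (y : Φ.K) (q : zpowers z) : Odd (orderOf (Φ.eW hz y q)) := by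
  rw [← Subgroup.orderOf_coe]; exact Φ.W_odd (Φ.eW_W hz y q)

theorem mu_eW {z : G} (hz : z ∈ Φ.Phi) (ρ : Φ.Phi →* ℂˣ) (y : Φ.K) (q : zpowers z) :
    Φ.mu ρ (Φ.eW hz y q) = Φ.res hz ρ q :=
  Φ.mu_mul ρ (p := ⟨q, zpowers_le.2 hz q.2⟩) (Φ.K_E0 y.2) rfl

/-- The point of `E`. -/
def ptE {z : G} (hz : z ∈ Φ.Phi) (a : (ℤˣ × Φ.K) × zpowers z) : E :=
  Φ.embE a.1 * ⟨a.2, Φ.Phi_le (zpowers_le.2 hz a.2.2)⟩

theorem ptE_coe {z : G} (hz : z ∈ Φ.Phi) (a : (ℤˣ × Φ.K) × zpowers z) :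
    (Φ.ptE hz a : G) = Φ.pnt z (((1, a.1.1), a.1.2), a.2) := rfl

theorem ptE_injective {z : G} (hz : z ∈ Φ.Phi) : Function.Injective (Φ.ptE hz) := fun a a' e => by
  have h := Φ.pnt_injective hz
    (((Φ.ptE_coe hz a).symm.trans (congrArg Subtype.val e)).trans (Φ.ptE_coe hz a'))
  obtain ⟨h1, h2⟩ := Prod.ext_iff.1 h
  exact Prod.ext (Prod.ext (congrArg (fun b : Four × Φ.K => b.1.2) h1) (congrArg Prod.snd h1 :)) h2

theorem ptE_one {z : G} (hz : z ∈ Φ.Phi) (y : Φ.K) (q : zpowers z) : Φ.ptE hz ((1, y), q) = Φ.eW hz y q := by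
  refine Subtype.ext ?_
  rw [ptE_coe, pnt, emb_apply]
  show Φ.vel ((1 : ℤˣ), (1 : ℤˣ)) * (y : G) * q = (y : G) * q
  rw [show ((1 : ℤˣ), (1 : ℤˣ)) = (1 : Four) from rfl, map_one, one_mul]

theorem ptE_even {z : G} (hz : z ∈ Φ.Phi) (y : Φ.K) (q : zpowers z) :
    2 ∣ orderOf (Φ.ptE hz ((-1, y), q)) := by
  rw [← Subgroup.orderOf_coe, ptE_coe, pnt, emb_apply, mul_assoc]
  exact Φ.W_vel_even (w := ((1, -1) : Four)) (by decide) (Φ.eW_W hz y q)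

theorem mu_ptE {z : G} (hz : z ∈ Φ.Phi) (ρ : Φ.Phi →* ℂˣ) (a : (ℤˣ × Φ.K) × zpowers z) :
    Φ.mu ρ (Φ.ptE hz a) = Φ.res hz ρ a.2 := by
  refine Φ.mu_mul ρ (g := (Φ.embE a.1 : G)) (p := ⟨a.2, zpowers_le.2 hz a.2.2⟩) ?_ rfl
  rw [embE_coe, emb_apply]
  refine mul_mem ?_ (Φ.K_E0 a.1.2.2)
  rcases Int.units_eq_one_or a.1.1 with h | h <;> rw [h]
  · rw [show ((1 : ℤˣ), (1 : ℤˣ)) = (1 : Four) from rfl, map_one]; exact one_mem _
  · rw [vel_vee]; exact Φ.vE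

/-! ### The multiplicities in `E` -/

/-- The value. -/
def valE {z : G} (hz : z ∈ Φ.Phi) (θ : Φ.K →* ℂˣ) (ν : Φ.Phi →* ℂˣ) (a : (ℤˣ × Φ.K) × zpowers z) : ℂ :=
  ((a.1.1 : ℤ) : ℂ) * ((θ a.1.2 : ℂ) - 1) * (Φ.res hz ν a.2 : ℂ)

/-- The multiplicity. -/
noncomputable def mE [Fintype E] {z : G} (hz : z ∈ Φ.Phi) (θ : Φ.K →* ℂˣ) (ν : Φ.Phi →* ℂˣ)
    (φ : IrrCharacter E) : ℂ :=
  (Nat.card ((ℤˣ × Φ.K) × zpowers z) : ℂ)⁻¹ *
    ∑ a : (ℤˣ × Φ.K) × zpowers z, (φ : E → ℂ) (Φ.ptE hz a) * conj (Φ.valE hz θ ν a)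

theorem card_domE (z : G) : (Nat.card ((ℤˣ × Φ.K) × zpowers z) : ℂ) = 2 * (k : ℂ) * (orderOf z : ℂ) := by
  rw [Nat.card_prod, Nat.card_prod, Φ.card_K, Nat.card_zpowers,
    Nat.card_eq_fintype_card (α := ℤˣ), Fintype.card_units_int]
  push_cast; ring

variable {z : G} (hz : z ∈ Φ.Phi) {θ : Φ.K →* ℂˣ} (hθ : Φ.Fixed z θ)

include hθ in
theorem mE_int [Fintype E] (ν : Φ.Phi →* ℂˣ) (φ : IrrCharacter E) : ∃ n : ℤ, Φ.mE hz θ ν φ = n := by
  have X := Φ.ext_E hz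
  let sgE : ℤˣ →* ℂˣ := Units.map (Int.castRingHom ℂ).toMonoidHom
  let lamE : (Φ.K →* ℂˣ) → (ℤˣ × Φ.K →* ℂˣ) := fun θ₁ =>
    sgE.comp (MonoidHom.fst ℤˣ Φ.K) * θ₁.comp (MonoidHom.snd ℤˣ Φ.K)
  have hinv : ∀ θ₁, Φ.Fixed z θ₁ → ∀ a a', (⟨z, Φ.Phi_le hz⟩ : E) * Φ.embE a * (⟨z, Φ.Phi_le hz⟩ : E)⁻¹ = Φ.embE a' →
      lamE θ₁ a' = lamE θ₁ a := by
    rintro θ₁ h₁ ⟨a, y⟩ ⟨a', y'⟩ h
    have h' : z * Φ.emb ((1, a), y) * z⁻¹ = Φ.emb ((1, a'), y') := congrArg Subtype.val h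
    rw [show z * Φ.emb ((1, a), y) * z⁻¹ = Φ.emb ((1, a), ⟨_, Φ.conj_K_Phi y.2 hz⟩) by
      rw [emb_apply, emb_apply]
      show z * (Φ.vel (1, a) * y) * z⁻¹ = Φ.vel (1, a) * (z * y * z⁻¹)
      rw [← mul_assoc z, ← (Φ.V_comm_Phi (Φ.vel_mem _) hz).eq]
      group] at h'
    obtain ⟨e1, e2⟩ := Prod.ext_iff.1 (Φ.emb_injective h')
    obtain rfl : a = a' := (Prod.ext_iff.1 e1).2
    show sgE a * θ₁ y' = sgE a * θ₁ y
    rw [h₁ y y' (congrArg Subtype.val e2)]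
  let qE : zpowers (⟨z, Φ.Phi_le hz⟩ : E) →* Φ.Phi :=
    (E.subtype.comp (zpowers (⟨z, Φ.Phi_le hz⟩ : E)).subtype).codRestrict Φ.Phi fun q => by
      obtain ⟨j, hj⟩ := q.2
      show ((q : E) : G) ∈ Φ.Phi
      rw [← hj]
      exact zpow_mem hz j
  let σ : (ℤˣ × Φ.K) × zpowers z → (ℤˣ × Φ.K) × zpowers (⟨z, Φ.Phi_le hz⟩ : E) := fun a =>
    (a.1, ⟨⟨a.2, Φ.Phi_le (zpowers_le.2 hz a.2.2)⟩, by
      obtain ⟨j, hj⟩ := a.2.2; exact ⟨j, Subtype.ext (by simpa using hj)⟩⟩)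
  have hσ : Function.Bijective σ := by
    refine ⟨fun a a' e => Prod.ext (Prod.ext_iff.1 e).1 (Subtype.ext ?_), fun b => ?_⟩
    · exact congrArg (fun q : zpowers (⟨z, Φ.Phi_le hz⟩ : E) => ((q : E) : G)) (Prod.ext_iff.1 e).2
    · obtain ⟨a₁, q, j, hj⟩ := b
      refine ⟨(a₁, ⟨(q : G), j, ?_⟩), rfl⟩
      show z ^ j = _
      rw [← hj]
      rfl
  set L := X.lin _ (hinv θ hθ) (ν.comp qE)
  set L₁ := X.lin _ (hinv 1 (Φ.fixed_triv z)) (ν.comp qE)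
  have hc := IsCharacter.restrict (isCharacter_of_irr φ.2) X.grp
  obtain ⟨n, hn⟩ := IsCharacter.exists_mult hc (isIrrCharacter_linear L)
  obtain ⟨n', hn'⟩ := IsCharacter.exists_mult hc (isIrrCharacter_linear L₁)
  refine ⟨(n : ℤ) - n', ?_⟩
  rw [classInner_def] at hn hn'
  rw [Int.cast_sub, Int.cast_natCast, Int.cast_natCast, ← hn, ← hn', ← mul_sub, ← Finset.sum_sub_distrib, mE,
    ← Nat.card_congr X.equiv, ← Nat.card_congr (Equiv.ofBijective σ hσ)]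
  congr 1
  refine Fintype.sum_bijective (fun a => X.equiv (σ a)) (X.equiv.bijective.comp hσ) _ _ fun a => ?_
  rw [X.lin_apply, X.lin_apply]
  show (φ : E → ℂ) (Φ.ptE hz a) * conj (Φ.valE hz θ ν a) =
    (φ : E → ℂ) (Φ.ptE hz a) * conj (((sgE a.1.1 * θ a.1.2) * Φ.res hz ν a.2 : ℂˣ) : ℂ) -
      (φ : E → ℂ) (Φ.ptE hz a) * conj (((sgE a.1.1 * (1 : Φ.K →* ℂˣ) a.1.2) * Φ.res hz ν a.2 : ℂˣ) : ℂ)
  simp only [valE, Units.val_mul, MonoidHom.one_apply, mul_one, map_mul, map_sub, map_one]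
  rw [show (sgE a.1.1 : ℂ) = ((a.1.1 : ℤ) : ℂ) from rfl]
  ring

include hθ in
/-- The norm of the induced function. -/
theorem mE_norm [Fintype E] (htame : ∀ y ∈ Φ.K, y ≠ 1 → ∀ g : G, Commute g y → ∀ w ∈ Φ.V, g * w * g⁻¹ ∈ Φ.V)
    (hθ1 : θ ≠ 1) (ν : Φ.Phi →* ℂˣ) :
    ∑ φ : IrrCharacter E, Φ.mE hz θ ν φ * conj (Φ.mE hz θ ν φ) =
      (orderOf z : ℂ)⁻¹ * ∑ c : Bool × Φ.Phi, ((if θ.comp (Φ.act (0, c)) = θ then 1 else 0) + 1) := by
  classical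
  set f : E → ℂ := Function.extend (Φ.ptE hz) (Φ.valE hz θ ν) 0 with hf
  have hsum : ∀ F : E → ℂ, ∑ a, F (Φ.ptE hz a) * conj (Φ.valE hz θ ν a) = ∑ u, F u * conj (f u) := fun F => by
    refine Fintype.sum_of_injective (Φ.ptE hz) (Φ.ptE_injective hz) _ _ (fun u hu => ?_) fun a => ?_
    · rw [hf, Function.extend_apply' _ _ _ (fun ⟨a, ha⟩ => hu ⟨a, ha⟩), Pi.zero_apply, map_zero, mul_zero]
    · rw [hf, (Φ.ptE_injective hz).extend_apply]
  set N : ℂ := (Nat.card ((ℤˣ × Φ.K) × zpowers z) : ℂ) with hNdef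
  let nE : (Bool × Φ.Phi) × (ℤˣ × Φ.K) → E := fun n =>
    ⟨Φ.nvPt ((0, n.1), ((1, n.2.1), n.2.2)), by
      rw [nvPt, emb_apply, rep]
      refine mul_mem ?_ (mul_mem (Φ.vel_snd_E _) (Φ.K_E n.2.2.2))
      rw [Fin.val_zero, pow_zero, one_mul]
      exact mul_mem (by split_ifs; exacts [Φ.le Φ.bE, one_mem E]) (Φ.Phi_le n.1.2.2)⟩
  have hnE : Function.Injective nE := fun n n' e => by
    obtain ⟨e1, e2⟩ := Prod.ext_iff.1 (Φ.nvPt_injective (congrArg Subtype.val e :))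
    obtain ⟨e3, e4⟩ := Prod.ext_iff.1 e2
    exact Prod.ext (congrArg Prod.snd e1 :) (Prod.ext (congrArg Prod.snd e3 :) e4)
  have hmem : Finset.univ.filter (· ∈ {g : E | (g : G) ∈ Φ.NV}) = Finset.univ.image nE := by
    ext g
    simp only [Finset.mem_filter, Finset.mem_univ, true_and, Finset.mem_image, Set.mem_ofPred_eq]
    refine ⟨fun hg => ?_, by rintro ⟨n, rfl⟩; exact Φ.nvPt_NV _⟩
    obtain ⟨⟨⟨i, cp⟩, ⟨⟨a, a'⟩, y⟩⟩, he⟩ := Φ.exists_nvPt hg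
    have hi : i = 0 := by
      have h1 : Φ.nvPt ((i, cp), ((a, a'), y)) * t * (Φ.nvPt ((i, cp), ((a, a'), y)))⁻¹ =
          Φ.vel (rot^[(i : ℕ)] (-1, 1)) := by
        rw [nvPt, emb_apply, show Φ.rep (i, cp) * (Φ.vel (a, a') * (y : G)) * t *
          (Φ.rep (i, cp) * (Φ.vel (a, a') * (y : G)))⁻¹ = Φ.rep (i, cp) * ((Φ.vel (a, a') * (y : G)) * t *
            (Φ.vel (a, a') * (y : G))⁻¹) * (Φ.rep (i, cp))⁻¹ by group,
          ((Φ.V_comm (Φ.vel_mem _) Φ.t_mem).mul_left (Φ.K_t y.2)).eq, mul_inv_cancel_right]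
        exact (congrArg (fun w => Φ.rep (i, cp) * w * (Φ.rep (i, cp))⁻¹) Φ.vel_tee.symm).trans (Φ.rep_vel _ _)
      rw [he, ← (Φ.t_comm _ g.2).eq, mul_inv_cancel_right] at h1
      have key : ∀ i : Fin 3, rot^[(i : ℕ)] ((-1, 1) : Four) = (-1, 1) → i = 0 := by decide
      exact key i (Φ.vel_injective (h1.symm.trans Φ.vel_tee.symm))
    subst hi
    have ha : a = 1 := by
      rcases Int.units_eq_one_or a with h | h
      · exact h
      · exfalso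
        subst h
        have hsplit : Φ.vel (-1, a') = t * Φ.vel (1, a') := by
          rw [show ((-1, a') : Four) = (-1, 1) * (1, a') by simp, map_mul, Φ.vel_tee]
        have hmem : Φ.rep (0, cp) ∈ E := by
          rw [rep, Fin.val_zero, pow_zero, one_mul]
          exact mul_mem (by split_ifs; exacts [Φ.le Φ.bE, one_mem E]) (Φ.Phi_le cp.2.2)
        refine Φ.t_not ?_
        have hg' := g.2
        rw [← he, nvPt, emb_apply] at hg'
        have h3 := mul_mem (inv_mem hmem) hg'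
        rw [inv_mul_cancel_left, hsplit] at h3
        have h4 := mul_mem h3 (inv_mem (mul_mem (Φ.vel_snd_E a') (Φ.K_E y.2)))
        rwa [mul_assoc t, mul_inv_cancel_right] at h4
    subst ha
    exact ⟨(cp, (a', y)), Subtype.ext he⟩
  have hN : ∀ g u, f u ≠ 0 → f (g * u * g⁻¹) ≠ 0 → g ∈ {g : E | (g : G) ∈ Φ.NV} := by
    intro g u h1 h2
    obtain ⟨a, rfl⟩ : ∃ a, Φ.ptE hz a = u := by
      by_contra hc; exact h1 (by rw [hf, Function.extend_apply' _ _ _ hc]; rfl)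
    obtain ⟨a', ha'⟩ : ∃ a', Φ.ptE hz a' = g * Φ.ptE hz a * g⁻¹ := by
      by_contra hc; exact h2 (by rw [hf, Function.extend_apply' _ _ _ hc]; rfl)
    rw [hf, (Φ.ptE_injective hz).extend_apply] at h1
    rw [← ha', hf, (Φ.ptE_injective hz).extend_apply] at h2
    have hne : ∀ a, Φ.valE hz θ ν a ≠ 0 → θ a.1.2 ≠ 1 := fun a h e => h (by simp [valE, e])
    obtain ⟨hK, hne1⟩ := Φ.pow_supp hz hθ (((1, a.1.1), a.1.2), a.2) (hne a h1)
    obtain ⟨hK', -⟩ := Φ.pow_supp hz hθ (((1, a'.1.1), a'.1.2), a'.2) (hne a' h2)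
    refine Φ.norm_of_conj htame hK hne1 ?_
    rw [← conj_pow, ← ptE_coe Φ hz a]
    rw [← ptE_coe Φ hz a', ha'] at hK'
    exact hK'
  have hterm : ∀ n, ∑ u, conj (f u) * f (nE n * u * (nE n)⁻¹) =
      2 * (k : ℂ) * (orderOf z : ℂ) * ((if θ.comp (Φ.act (0, n.1)) = θ then 1 else 0) + 1) := by
    intro n
    rw [Finset.sum_congr rfl fun u _ => mul_comm (conj (f u)) _, ← hsum (fun u => f (nE n * u * (nE n)⁻¹))]
    have hpt : ∀ a : (ℤˣ × Φ.K) × zpowers z, f (nE n * Φ.ptE hz a * (nE n)⁻¹) =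
        ((a.1.1 : ℤ) : ℂ) * ((θ.comp (Φ.act (0, n.1)) a.1.2 : ℂ) - 1) * (Φ.res hz ν a.2 : ℂ) := by
      intro a
      obtain ⟨Y, hY, hθY⟩ := Φ.conj_pt ((0, n.1), ((1, n.2.1), n.2.2)) (1, a.1.1) a.1.2 (zpowers_le.2 hz a.2.2)
      have e : nE n * Φ.ptE hz a * (nE n)⁻¹ = Φ.ptE hz ((a.1.1, Y), a.2) := by
        refine Subtype.ext ?_
        rw [ptE_coe]
        exact hY
      rw [e, hf, (Φ.ptE_injective hz).extend_apply, valE]
      rw [hθY θ (Φ.fixed_pow hθ hz a.2.2)]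
      rfl
    rw [Finset.sum_congr rfl fun a _ => show f (nE n * Φ.ptE hz a * (nE n)⁻¹) * conj (Φ.valE hz θ ν a) =
      (((a.1.1 : ℤ) : ℂ) * ((a.1.1 : ℤ) : ℂ)) *
        ((conj ((θ a.1.2 : ℂ) - 1) * ((θ.comp (Φ.act (0, n.1)) a.1.2 : ℂ) - 1)) *
          (conj (Φ.res hz ν a.2 : ℂ) * (Φ.res hz ν a.2 : ℂ))) by
      rw [hpt, valE, map_mul, map_mul, map_intCast]; ring, Fintype.sum_prod_type, Fintype.sum_prod_type]
    simp only [← Finset.mul_sum]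
    rw [sum_pair_lin, if_pos rfl, Nat.card_zpowers]
    simp only [← Finset.sum_mul, ← Finset.mul_sum]
    rw [sum_pair_sub hθ1 (Φ.comp_act_ne hθ1 _), Φ.card_K,
      show (∑ a : ℤˣ, ((a : ℤ) : ℂ) * ((a : ℤ) : ℂ)) = 2 by
        rw [show (Finset.univ : Finset ℤˣ) = {1, -1} by decide, Finset.sum_pair (by decide)]; norm_num]
    ring
  have hNc : N = 2 * (k : ℂ) * (orderOf z : ℂ) := Φ.card_domE z
  rw [Finset.sum_congr rfl fun φ _ => show Φ.mE hz θ ν φ * conj (Φ.mE hz θ ν φ) = N⁻¹ * N⁻¹ *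
    ((∑ u, (φ : E → ℂ) u * conj (f u)) * conj (∑ u, (φ : E → ℂ) u * conj (f u))) by
      rw [mE, hsum, map_mul (starRingEnd ℂ), map_inv₀, hNdef, map_natCast]; ring, ← Finset.mul_sum,
    orth_sum f f _ hN, hmem, Finset.sum_image hnE.injOn, Finset.sum_congr rfl fun n _ => hterm n,
    Fintype.sum_prod_type, Finset.mul_sum, Finset.mul_sum]
  refine Finset.sum_congr rfl fun c _ => ?_
  have := Φ.k_ne
  have := Φ.o_ne z
  show N⁻¹ * N⁻¹ * ∑ _x : ℤˣ × Φ.K,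
    2 * (k : ℂ) * (orderOf z : ℂ) * ((if θ.comp (Φ.act (0, c)) = θ then 1 else 0) + 1) = _
  rw [Finset.sum_const, Finset.card_univ, nsmul_eq_mul, ← Nat.card_eq_fintype_card, Nat.card_prod, Φ.card_K,
    Nat.card_eq_fintype_card (α := ℤˣ), Fintype.card_units_int, hNc]
  push_cast
  field_simp

/-- A character of `K` is fixed by at most one of two elements of one coset. -/
theorem stab_le {θ : Φ.K →* ℂˣ} (hθ1 : θ ≠ 1) :
    (Finset.univ.filter fun c : Bool × Φ.Phi => θ.comp (Φ.act (0, c)) = θ).card ≤ Nat.card Φ.Phi := by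
  rw [Nat.card_eq_fintype_card, ← Finset.card_univ]
  refine Finset.card_le_card_of_injOn Prod.snd (fun _ _ => Finset.mem_univ _) ?_
  have hno : ∀ p : Φ.Phi, θ.comp (Φ.act (0, true, p)) = θ → θ.comp (Φ.act (0, false, p)) ≠ θ := by
    intro p h h'
    apply hθ1
    refine MonoidHom.ext fun y => ?_
    obtain ⟨y', rfl⟩ := (Φ.act_bijective (0, false, p)).2 y
    have hinv : Φ.act (0, true, p) y' = (Φ.act (0, false, p) y')⁻¹ := by
      refine Subtype.ext ?_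
      rw [Subgroup.coe_inv, act_coe, act_coe]
      simp only [rep, Fin.val_zero, pow_zero, one_mul, if_true, Bool.false_eq_true, if_false]
      rw [← Φ.inv _ (Φ.conj_K_Phi y'.2 p.2)]
      group
    have e1 : θ (Φ.act (0, true, p) y') = θ y' := DFunLike.congr_fun h y'
    have e2 : θ (Φ.act (0, false, p) y') = θ y' := DFunLike.congr_fun h' y'
    rw [hinv, map_inv, e2] at e1
    have h2 : θ y' ^ 2 = 1 := by rw [pow_two]; exact inv_eq_iff_mul_eq_one.1 e1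
    rw [e2, MonoidHom.one_apply]
    refine orderOf_eq_one_iff.1 (Nat.eq_one_of_dvd_coprimes (Nat.coprime_two_left.2 Φ.k_odd)
      (orderOf_dvd_of_pow_eq_one h2) ((orderOf_map_dvd θ y').trans
      (Φ.card_K.subst (motive := fun n => orderOf y' ∣ n) (orderOf_dvd_natCard y'))))
  rintro ⟨a, p⟩ ha ⟨a', p'⟩ ha' (rfl : p = p')
  simp only [Finset.coe_filter, Finset.mem_univ, true_and, Set.mem_ofPred_eq] at ha ha'
  cases a <;> cases a' <;> first | rfl | exact absurd ‹θ.comp (Φ.act (0, false, p)) = θ› (hno p ‹_›)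

end TFrame

end Cfsg.Lib.Ree.Three
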