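import Cfsg.Agent.Ree.Three.Member
import Cfsg.Agent.Ree.Three.Model
import Cfsg.Agent.Blocks.DihedralOrder

/-!
The sums of the multiplicities against the functions of the section at `t`, against the values at the involution,
over the blocks of one class, and against the count of involutions.
-/

set_option autoImplicit false
set_option linter.style.haveILetI false
set_option linter.unusedSectionVars false

namespace Cfsg.Lib.Ree.Three

open Subgroup Cfsg Cfsg.Lib.Chars Cfsg.Lib.Ree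
open scoped ComplexConjugate

universe u

attribute [local instance 10] _root_.Classical.propDecidable

variable {G : Type u} [Group G] [Fintype G] {t : G} {E E₀ : Subgroup G} [Fintype E] {k : ℕ}

theorem univ_four : (Finset.univ : Finset Four) = {1, (-1, 1), (1, -1), (-1, -1)} := by decide

theorem sum_sgn_erase : ∀ l : Fin 4, ∑ w ∈ Finset.univ.erase (1 : Four), sgn l w = -tgt l := by decide +kernel

theorem sum_sgn_all : ∀ l : Fin 4, ∑ w : Four, sgn l w = if l = 0 then 4 else 0 := by decide +kernel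

namespace TFrame

variable (Φ : TFrame t E E₀ k)

/-- The character moved to the coset of `t`. -/
noncomputable def tw (θ : Φ.K →* ℂˣ) (w : Four) : Φ.K →* ℂˣ :=
  θ.comp (MulEquiv.ofBijective (Φ.act ((⟨back w, by unfold back; split_ifs <;> omega⟩ : Fin 3), false, 1))
    (Φ.act_bijective _)).symm.toMonoidHom

theorem tw_apply (θ : Φ.K →* ℂˣ) (w : Four) (y : Φ.K) :
    Φ.tw θ w (Φ.act ((⟨back w, by unfold back; split_ifs <;> omega⟩ : Fin 3), false, 1) y) = θ y :=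
  congrArg θ (MulEquiv.symm_apply_apply (MulEquiv.ofBijective (Φ.act _) (Φ.act_bijective _)) y)

theorem act_back (w : Four) (y : Φ.K) :
    (Φ.act ((⟨back w, by unfold back; split_ifs <;> omega⟩ : Fin 3), false, 1) y : G) =
      Φ.m ^ back w * y * (Φ.m ^ back w)⁻¹ := by
  rw [act_coe, rep]
  simp

theorem tw_ne {θ : Φ.K →* ℂˣ} (hθ : θ ≠ 1) (w : Four) : Φ.tw θ w ≠ 1 := fun e =>
  hθ (MonoidHom.ext fun y => by rw [← Φ.tw_apply θ w y, e]; rfl)

theorem fixed_tw {z : G} (hz : z ∈ Φ.Phi) {θ : Φ.K →* ℂˣ} (hθ : Φ.Fixed z θ) (w : Four) :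
    Φ.Fixed z (Φ.tw θ w) := by
  intro y y' h
  obtain ⟨u, rfl⟩ := (Φ.act_bijective ((⟨back w, by unfold back; split_ifs <;> omega⟩ : Fin 3), false, 1)).2 y
  obtain ⟨u', rfl⟩ := (Φ.act_bijective ((⟨back w, by unfold back; split_ifs <;> omega⟩ : Fin 3), false, 1)).2 y'
  rw [tw_apply, tw_apply]
  refine hθ u u' ?_
  rw [act_back, act_back] at h
  have hc : Commute z (Φ.m ^ back w) := (Φ.pm z hz).pow_right _
  apply (MulAut.conj (Φ.m ^ back w)).injective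
  show Φ.m ^ back w * (z * u * z⁻¹) * (Φ.m ^ back w)⁻¹ = Φ.m ^ back w * u' * (Φ.m ^ back w)⁻¹
  rw [← h, show Φ.m ^ back w * (z * u * z⁻¹) * (Φ.m ^ back w)⁻¹ =
    (Φ.m ^ back w * z) * u * (Φ.m ^ back w * z)⁻¹ by group, ← hc.eq]
  group

theorem tw_tee (θ : Φ.K →* ℂˣ) : Φ.tw θ (-1, 1) = θ := MonoidHom.ext fun y => by
  conv_rhs => rw [← Φ.tw_apply θ (-1, 1) y]
  congr 1
  refine Subtype.ext ?_
  rw [act_back, show back (-1, 1) = 0 by decide]
  simp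

variable {z : G} (hz : z ∈ Φ.Phi) {θ : Φ.K →* ℂˣ}

/-- The splitting of a sum over the points along `V`. -/
theorem sum_pnt (l : Fin 4) (ν : Φ.Phi →* ℂˣ) (c : G → ℂ) (hc : ∀ g a, c (g * a * g⁻¹) = c a) :
    ∑ a, c (Φ.pnt z a) * conj (Φ.val l θ (Φ.res hz ν) a) =
      Φ.secSum hz θ ν 1 (fun u => c u) +
        ∑ w ∈ Finset.univ.erase (1 : Four),
          (sgn l w : ℂ) * Φ.secSum hz (Φ.tw θ w) ν 1 (fun u => c (t * u)) := by
  rw [Fintype.sum_prod_type, Fintype.sum_prod_type, ← Finset.add_sum_erase _ _ (Finset.mem_univ (1 : Four))]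
  congr 1
  · refine Finset.sum_congr rfl fun y _ => Finset.sum_congr rfl fun q _ => ?_
    rw [pnt, emb_apply, map_one, one_mul, conj_val, show sgn l (1 : Four) = 1 by simp [sgn]]
    simp only [res_apply, MonoidHom.one_apply, Units.val_one, mul_one, eW, Int.cast_one, one_mul]
    ring
  · refine Finset.sum_congr rfl fun w hw => ?_
    rw [secSum, Finset.mul_sum]
    refine Fintype.sum_bijective _ (Φ.act_bijective ((⟨back w, by unfold back; split_ifs <;> omega⟩ : Fin 3), false, 1))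
      _ _ fun y => ?_
    rw [Finset.mul_sum]
    refine Finset.sum_congr rfl fun q _ => ?_
    rw [Φ.tw_apply θ w y, conj_val, pnt, emb_apply, ← hc (Φ.m ^ back w)]
    simp only [res_apply, MonoidHom.one_apply, Units.val_one, mul_one, eW]
    rw [show Φ.m ^ back w * (Φ.vel w * (y : G) * (q : G)) * (Φ.m ^ back w)⁻¹ =
      (Φ.m ^ back w * Φ.vel w * (Φ.m ^ back w)⁻¹) * ((Φ.m ^ back w * (y : G) * (Φ.m ^ back w)⁻¹) *
        (Φ.m ^ back w * (q : G) * (Φ.m ^ back w)⁻¹)) by group, Φ.vel_back (Finset.ne_of_mem_erase hw), ← act_back,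
      ((Φ.pm _ (zpowers_le.2 hz q.2)).pow_right (back w)).symm.eq, mul_inv_cancel_right]
    ring

theorem secSum_twist (ν ρ : Φ.Phi →* ℂˣ) (f : E → ℂ) :
    Φ.secSum hz θ ν 1 (fun u => (Φ.mu ρ u : ℂ) * f u) = Φ.secSum hz θ ν ρ f := by
  refine Finset.sum_congr rfl fun y _ => Finset.sum_congr rfl fun q _ => ?_
  dsimp only
  rw [mu_eW]
  simp only [res_apply, MonoidHom.one_apply, Units.val_one, mul_one]
  ring

theorem secSum_congr_odd (ν ρ : Φ.Phi →* ℂˣ) {g g' : E → ℂ} (h : ∀ u : E, Odd (orderOf u) → g u = g' u) :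
    Φ.secSum hz θ ν ρ g = Φ.secSum hz θ ν ρ g' :=
  Φ.secSum_congr hz ν ρ fun y q _ => h _ (Φ.eW_odd hz y q)

include hz in
/-- The sum against a value at an element of order at most two. -/
theorem sum_mC_invol (hθ : Φ.Fixed z θ) (l : Fin 4) (ζ : zpowers z →* ℂˣ) {g : G} (hg : g * g = 1) :
    ∑ χ : IrrCharacter G, Φ.mC z l θ ζ χ * (χ : G → ℂ) g = 0 := by
  classical
  simp only [mC, mul_assoc, ← Finset.mul_sum]
  refine mul_eq_zero_of_right _ ?_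
  simp only [Finset.sum_mul]
  rw [Finset.sum_comm]
  refine Finset.sum_eq_zero fun a _ => ?_
  by_cases ha : Φ.val l θ ζ a = 0
  · simp [ha]
  rw [Finset.sum_congr rfl fun (χ : IrrCharacter G) _ => show
    (χ : G → ℂ) (Φ.pnt z a) * conj (Φ.val l θ ζ a) * (χ : G → ℂ) g =
      conj (Φ.val l θ ζ a) * ((χ : G → ℂ) (Φ.pnt z a) * conj ((χ : G → ℂ) g⁻¹)) by
      rw [← IsCharacter.conj_inv (isCharacter_of_irr χ.2), inv_inv]; ring, ← Finset.mul_sum, sum_conj_eq_card]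
  haveI : IsEmpty {c : G // c * Φ.pnt z a * c⁻¹ = g⁻¹} := ⟨fun c => (Φ.pow_supp hz hθ a (Φ.val_ne ha)).2 (by
    obtain ⟨c, hc⟩ := c
    rw [show Φ.pnt z a = c⁻¹ * g⁻¹ * c⁻¹⁻¹ by rw [← hc]; group, conj_pow, pow_mul,
      show g⁻¹ ^ 2 = 1 by rw [pow_two, ← mul_inv_rev, hg, inv_one], one_pow, mul_one, mul_inv_cancel])⟩
  simp

variable {F : Type} [Field F] [Fintype F] (S : Twist.Setting t E E₀ F)
  (hq : ∃ n, Fintype.card F = 3 ^ n) (h8 : Fintype.card F % 8 = 3) (hk : 4 * k = Fintype.card F + 1)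
  (htame : ∀ y ∈ Φ.K, y ≠ 1 → ∀ g : G, Commute g y → ∀ w ∈ Φ.V, g * w * g⁻¹ ∈ Φ.V)
  {M : Ideal AlgInt} {T : Twist.KTable E M} (P : Field.TwistFacts t E E₀ F T) (hθ : Φ.Fixed z θ) (hθ1 : θ ≠ 1)

include S hq h8 hk P hθ hθ1 htame in
theorem secSum_comb (ν ρ : Φ.Phi →* ℂˣ) (a b c : ℂ) :
    Φ.secSum hz θ ν ρ (fun u => a * T.ps 1 u + b * T.A u + c * T.B u) =
      (a + b + c) * if Φ.res hz ρ = Φ.res hz ν then -((k : ℂ) * (orderOf z : ℂ)) else 0 := by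
  obtain ⟨hA, hB⟩ := Φ.secSum_members hz S hq h8 hk P hθ htame hθ1 ν ρ
  have h1 : Φ.secSum hz θ ν ρ (T.ps 1) = Φ.secSum hz θ ν ρ (fun _ => 1) :=
    Φ.secSum_congr hz _ _ fun y q hy => (Φ.ps_supp hz S hq h8 hk P hθ y q hy).1
  rw [Φ.secSum_add hz ν ρ (fun u => a * T.ps 1 u + b * T.A u) (fun u => c * T.B u), Φ.secSum_add hz,
    Φ.secSum_smul hz, Φ.secSum_smul hz, Φ.secSum_smul hz, hA, hB, h1, Φ.secSum_one hz hθ1]
  ring

include S hq h8 hk P hθ hθ1 htame in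
/-- **The sums against the functions of one twist.** -/
theorem sum_mC_coord (l : Fin 4) (ν ρ : Φ.Phi →* ℂˣ) :
    ∑ χ : IrrCharacter G, Φ.mC z l θ (Φ.res hz ν) χ * coord t E χ (Twist.twist (Φ.mu ρ) T.x) = 0 ∧
    ∑ χ : IrrCharacter G, Φ.mC z l θ (Φ.res hz ν) χ * coord t E χ (Twist.twist (Φ.mu ρ) T.al) =
      (if Φ.res hz ρ = Φ.res hz ν then (tgt l : ℂ) else 0) ∧
    ∑ χ : IrrCharacter G, Φ.mC z l θ (Φ.res hz ν) χ * coord t E χ (Twist.twist (Φ.mu ρ) T.be) =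
      (if Φ.res hz ρ = Φ.res hz ν then (tgt l : ℂ) else 0) := by
  have gen : ∀ (f : E → ℂ), IsSpecial f → ∀ a b c : ℂ,
      (∀ w, ∀ y q, Φ.tw θ w y ≠ 1 → f (Φ.eW hz y q) = a * T.ps 1 (Φ.eW hz y q) + b * T.A (Φ.eW hz y q) +
        c * T.B (Φ.eW hz y q)) →
      ∑ χ : IrrCharacter G, Φ.mC z l θ (Φ.res hz ν) χ * coord t E χ (Twist.twist (Φ.mu ρ) f) =
        (a + b + c) * ((if Φ.res hz ρ = Φ.res hz ν then (tgt l : ℂ) else 0) / 2) := by
    intro f hf a b c hfv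
    have hsp := Twist.special_twist (Φ.mu ρ) hf
    simp only [mC, mul_assoc, ← Finset.mul_sum, Finset.sum_mul]
    rw [Finset.sum_comm, Finset.sum_congr rfl fun x _ => show _ =
      (∑ χ : IrrCharacter G, coord t E χ (Twist.twist (Φ.mu ρ) f) * (χ : G → ℂ) (Φ.pnt z x)) *
        conj (Φ.val l θ (Φ.res hz ν) x) by
        rw [Finset.sum_mul]; exact Finset.sum_congr rfl fun χ _ => by ring,
      Φ.sum_pnt hz l ν (fun g => ∑ χ : IrrCharacter G, coord t E χ (Twist.twist (Φ.mu ρ) f) * (χ : G → ℂ) g)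
        (fun g x => Finset.sum_congr rfl fun χ _ => by rw [isClassFunction_irr χ x g])]
    rw [Φ.secSum_congr_odd hz ν 1 (g' := fun u => 0 * (Φ.mu ρ u : ℂ)) fun u hu => by
        rw [zero_mul]; exact S.odd_sum hsp (by rwa [Subgroup.orderOf_coe]),
      Φ.secSum_smul hz, zero_mul, zero_add,
      Finset.sum_congr rfl fun w _ => show _ = (sgn l w : ℂ) *
        (2 * ((a + b + c) * if Φ.res hz ρ = Φ.res hz ν then -((k : ℂ) * (orderOf z : ℂ)) else 0)) by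
        rw [Φ.secSum_congr_odd hz ν 1 (g' := fun u => 2 * ((Φ.mu ρ u : ℂ) * f u)) fun u hu =>
            S.section_sum hsp hu,
          Φ.secSum_smul hz, Φ.secSum_twist hz,
          Φ.secSum_congr hz ν ρ (g' := fun u => a * T.ps 1 u + b * T.A u + c * T.B u) (hfv w),
          Φ.secSum_comb hz S hq h8 hk htame P (Φ.fixed_tw hz hθ w) (Φ.tw_ne hθ1 w)],
      ← Finset.sum_mul, ← Int.cast_sum, sum_sgn_erase, Φ.card_dom]
    have := Φ.k_ne
    have := Φ.o_ne z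
    split_ifs <;> push_cast <;> field_simp <;> ring
  refine ⟨?_, ?_, ?_⟩
  · rw [gen T.x T.special_x 0 0 0 fun w y q hy => ?_]
    · ring
    · simp only [Twist.KTable.x, Pi.sub_apply, congrFun T.ps_zero,
        (Φ.ps_supp hz S hq h8 hk P (Φ.fixed_tw hz hθ w) y q hy).1]
      ring
  · rw [gen T.al T.special_al 1 1 0 fun w y q _ => ?_]
    · ring
    · simp only [Twist.KTable.al, Twist.KTable.A, Pi.sub_apply, Pi.neg_apply]
      ring
  · rw [gen T.be T.special_be 1 0 1 fun w y q _ => ?_]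
    · ring
    · simp only [Twist.KTable.be, Twist.KTable.B, Pi.sub_apply, Pi.neg_apply]
      ring

include S hq h8 hk P hθ hθ1 htame in
/-- **The difference at a member.** -/
theorem mC_diff {l : Fin 4} (hl : l ≠ 0) (ν ρ : Φ.Phi →* ℂˣ) (χ : IrrCharacter G)
    (hχ : coord t E χ (Twist.twist (Φ.mu ρ) T.x) ≠ 0 ∨ coord t E χ (Twist.twist (Φ.mu ρ) T.al) ≠ 0 ∨
      coord t E χ (Twist.twist (Φ.mu ρ) T.be) ≠ 0) :
    Φ.mC z l θ (Φ.res hz ν) χ = Φ.mC z 0 θ (Φ.res hz ν) χ +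
      if Φ.res hz ρ = Φ.res hz ν then -coord t E χ (Twist.twist (Φ.mu ρ) T.x) +
        coord t E χ (Twist.twist (Φ.mu ρ) T.al) + coord t E χ (Twist.twist (Φ.mu ρ) T.be) else 0 := by
  have hsep := (P.sep (Φ.mu ρ) (Φ.mu_E0 ρ) χ hχ).1
  generalize coord t E χ (Twist.twist (Φ.mu ρ) T.x) = cx at *
  generalize coord t E χ (Twist.twist (Φ.mu ρ) T.al) = cal at *
  generalize coord t E χ (Twist.twist (Φ.mu ρ) T.be) = cbe at *
  rw [mC, mC, Φ.sum_pnt hz l ν _ (fun g a => isClassFunction_irr χ a g),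
    Φ.sum_pnt hz 0 ν _ (fun g a => isClassFunction_irr χ a g)]
  have hw : ∀ w, Φ.secSum hz (Φ.tw θ w) ν 1 (fun u => (χ : G → ℂ) (t * u)) =
      (-cx + cal + cbe) * if Φ.res hz ρ = Φ.res hz ν then -((k : ℂ) * (orderOf z : ℂ)) else 0 := fun w => by
    rw [Φ.secSum_congr_odd hz ν 1 (g := fun u => (χ : G → ℂ) (t * u))
        (g' := fun u => (Φ.mu ρ u : ℂ) * (-cx + cal * T.A u + cbe * T.B u)) hsep,
      Φ.secSum_twist hz, Φ.secSum_congr hz ν ρ (g' := fun u => -cx * T.ps 1 u + cal * T.A u + cbe * T.B u) fun y q hy => by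
        rw [(Φ.ps_supp hz S hq h8 hk P (Φ.fixed_tw hz hθ w) y q hy).1, mul_one],
      Φ.secSum_comb hz S hq h8 hk htame P (Φ.fixed_tw hz hθ w) (Φ.tw_ne hθ1 w)]
  simp only [hw, ← Finset.sum_mul, ← Int.cast_sum, sum_sgn_erase, tgt, if_neg hl, Φ.card_dom]
  have := Φ.k_ne
  have := Φ.o_ne z
  split_ifs <;> push_cast <;> field_simp <;> ring

include hz htame hθ in
/-- The involutions inverting a point of the support. -/
theorem card_inverting (a : (Four × Φ.K) × zpowers z) (ha : θ a.1.2 ≠ 1) :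
    Nat.card {s : G // s * s = 1 ∧ s ≠ 1 ∧ (s * (Φ.pnt z a)⁻¹) * (s * (Φ.pnt z a)⁻¹) = 1 ∧
      s * (Φ.pnt z a)⁻¹ ≠ 1} = if a.2 = 1 then 4 * k else 0 := by
  classical
  obtain ⟨hH, hH1⟩ := Φ.pow_supp hz hθ a ha
  have hpnt : Φ.pnt z a = Φ.vel a.1.1 * ((a.1.2 : G) * a.2) := by rw [pnt, emb_apply, mul_assoc]
  set h := Φ.pnt z a with hh
  set H := h ^ (2 * orderOf z) with hHdef
  have hHH : H * H ≠ 1 := fun e => hH1 (eq_one_of_odd_sq (Φ.K_odd hH) e)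
  have hinvq : (a.2 : G) ∈ Φ.Phi := zpowers_le.2 hz a.2.2
  have hconj : ∀ s : G, s * s = 1 → (s * h⁻¹) * (s * h⁻¹) = 1 → s * h * s⁻¹ = h⁻¹ := fun s hs hsh => by
    rw [inv_eq_of_mul_eq_one_right hs]
    have h1 : s * h⁻¹ * s = h := by rw [← mul_left_inj h⁻¹, mul_inv_cancel, mul_assoc, hsh]
    calc s * h * s = (s * h⁻¹ * s)⁻¹ := by rw [mul_inv_rev, mul_inv_rev, inv_inv, inv_eq_of_mul_eq_one_right hs, mul_assoc]
      _ = h⁻¹ := by rw [h1]
  have hcases : ∀ s : G, s * s = 1 → s * h * s⁻¹ = h⁻¹ →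
      ∃ w : Four, ∃ y : Φ.K, s = Φ.vel w * (Φ.b * y) := by
    intro s hs hsh
    have hsH : s * H * s⁻¹ = H⁻¹ := by rw [hHdef, ← conj_pow, hsh, inv_pow]
    have hNV := Φ.norm_of_conj htame hH hH1 (hsH ▸ inv_mem hH)
    obtain ⟨hct, hcv⟩ := Φ.two_centralizes ⟨1, by rw [pow_one, pow_two]; exact hs⟩ hNV
    obtain ⟨w, hw, y, hy, p, hp, r⟩ := Φ.cen hct hcv
    obtain ⟨w', rfl⟩ := Φ.exists_vel hw
    have hd := Φ.mul_mem_W hy hp
    rcases r with r | r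
    · exfalso
      have hd1 : y * p = 1 := eq_one_of_odd_sq (Φ.W_odd hd) (by
        rw [r, (Φ.V_comm_W hw hd).symm.mul_mul_mul_comm, Φ.V_sq hw, one_mul] at hs
        exact hs)
      rw [r, hd1, mul_one, (Φ.V_comm_K hw hH).eq, mul_inv_cancel_right] at hsH
      exact hHH (eq_inv_iff_mul_eq_one.1 hsH)
    · refine ⟨w', ⟨y, hy⟩, ?_⟩
      have hcb : Commute (Φ.vel w') (Φ.b * (y * p)) := (Φ.V_comm_b hw).mul_right (Φ.V_comm_W hw hd)
      rw [r, hcb.symm.mul_mul_mul_comm, Φ.V_sq hw, one_mul] at hs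
      have e : (y : G)⁻¹ * p = p⁻¹ * (y : G)⁻¹ := by
        rw [← mul_inv_rev, ← Φ.inv y hy]
        refine (inv_eq_of_mul_eq_one_left ?_).symm
        rw [inv_eq_of_mul_eq_one_right Φ.bb, ← hs, show Φ.b * y * Φ.b * p * (y * p) = Φ.b * y * (Φ.b * p) * (y * p) by group,
          ← (Φ.pb p hp).eq]
        group
      obtain ⟨-, -, h3⟩ := Φ.split_unique (one_mem _) (one_mem _) (inv_mem hy)
        (show p⁻¹ * (y : G)⁻¹ * p ∈ Φ.K by
          have := Φ.conj_K_Phi (inv_mem hy) (inv_mem hp); rwa [inv_inv] at this) hp (inv_mem hp)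
        (show (1 : G) * ((y : G)⁻¹ * p) = 1 * (p⁻¹ * (y : G)⁻¹ * p * p⁻¹) by rw [mul_inv_cancel_right, e])
      rw [r, eq_one_of_odd_sq (Φ.Phi_odd p hp) (eq_inv_iff_mul_eq_one.1 h3), mul_one]
  have hconjb : ∀ (w : Four) (y : Φ.K), ∃ Y : Φ.K,
      Φ.vel w * (Φ.b * y) * h * (Φ.vel w * (Φ.b * y))⁻¹ = Φ.vel a.1.1 * ((Y : G) * a.2) ∧
      (a.2 = 1 → Y = a.1.2⁻¹) := by
    intro w y
    set Y₀ : Φ.K := y * a.1.2 * ⟨(a.2 : G) * (y : G)⁻¹ * (a.2 : G)⁻¹, Φ.conj_K_Phi (inv_mem y.2) hinvq⟩ with hY₀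
    refine ⟨Y₀⁻¹, ?_, fun e => ?_⟩
    · have e1 : (y : G) * h * (y : G)⁻¹ = Φ.vel a.1.1 * ((Y₀ : G) * a.2) := by
        rw [hpnt, ← mul_assoc (y : G), ← (Φ.V_comm_K (Φ.vel_mem a.1.1) y.2).eq, hY₀]
        simp only [Subgroup.coe_mul]
        group
      have e2 : Φ.b * (Φ.vel a.1.1 * ((Y₀ : G) * a.2)) * Φ.b⁻¹ = Φ.vel a.1.1 * ((Y₀ : G)⁻¹ * a.2) := by
        rw [← mul_assoc Φ.b, ← (Φ.V_comm_b (Φ.vel_mem a.1.1)).eq, show Φ.vel a.1.1 * Φ.b * ((Y₀ : G) * a.2) * Φ.b⁻¹ =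
          Φ.vel a.1.1 * ((Φ.b * Y₀ * Φ.b⁻¹) * (Φ.b * a.2 * Φ.b⁻¹)) by group, Φ.inv _ Y₀.2, ← (Φ.pb _ hinvq).eq,
          mul_inv_cancel_right]
      rw [show Φ.vel w * (Φ.b * y) * h * (Φ.vel w * (Φ.b * y))⁻¹ =
        Φ.vel w * (Φ.b * ((y : G) * h * (y : G)⁻¹) * Φ.b⁻¹) * (Φ.vel w)⁻¹ by group, e1, e2,
        ((Φ.V_comm (Φ.vel_mem w) (Φ.vel_mem a.1.1)).mul_right (Φ.V_comm_W (Φ.vel_mem w)
          (Φ.mul_mem_W (inv_mem Y₀.2) hinvq))).eq, mul_inv_cancel_right, Subgroup.coe_inv]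
    · refine inv_inj.2 (Subtype.ext ?_)
      rw [hY₀]
      simp only [Subgroup.coe_mul, e, OneMemClass.coe_one, one_mul, inv_one, mul_one]
      rw [mul_assoc, ((Φ.K_comm a.1.2.2 y.2).inv_right).eq, mul_inv_cancel_left]
  have hhinv : h⁻¹ = Φ.vel a.1.1 * (((a.2 : G)⁻¹ * (a.1.2 : G)⁻¹ * a.2) * (a.2 : G)⁻¹) := by
    have hVW : Commute (Φ.vel a.1.1) ((a.1.2 : G) * a.2)⁻¹ :=
      (Φ.V_comm_W (Φ.vel_mem _) (Φ.mul_mem_W a.1.2.2 hinvq)).inv_right
    rw [hpnt, mul_inv_rev, inv_eq_of_mul_eq_one_right (Φ.V_sq (Φ.vel_mem a.1.1)), ← hVW.eq]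
    group
  split_ifs with hq1
  · rw [← Φ.card_K, ← card_four, ← Nat.card_prod]
    symm
    refine Nat.card_congr (Equiv.ofBijective (fun x : Four × Φ.K =>
      (⟨Φ.vel x.1 * (Φ.b * x.2), ?_⟩ : {s : G // s * s = 1 ∧ s ≠ 1 ∧ (s * h⁻¹) * (s * h⁻¹) = 1 ∧ s * h⁻¹ ≠ 1})) ⟨?_, ?_⟩)
    · set s := Φ.vel x.1 * (Φ.b * x.2) with hs
      have hbz : Φ.b * (x.2 : G) * (Φ.b * x.2) = 1 := by
        rw [← mul_assoc, show Φ.b * (x.2 : G) * Φ.b = Φ.b * x.2 * Φ.b⁻¹ by rw [inv_eq_of_mul_eq_one_right Φ.bb],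
          Φ.inv _ x.2.2, inv_mul_cancel]
      have hss : s * s = 1 := by
        rw [hs, ((Φ.V_comm_b (Φ.vel_mem x.1)).mul_right (Φ.V_comm_K (Φ.vel_mem x.1) x.2.2)).symm.mul_mul_mul_comm,
          Φ.V_sq (Φ.vel_mem _), hbz, one_mul]
      obtain ⟨Y, hY, hY1⟩ := hconjb x.1 x.2
      have hsh : s * h * s⁻¹ = h⁻¹ := by
        rw [hY, hhinv, hY1 hq1, hq1]; simp
      refine ⟨hss, fun e => ?_, ?_, fun e => ?_⟩
      · rw [e, one_mul, inv_one, mul_one, eq_inv_iff_mul_eq_one] at hsh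
        exact hH1 (by rw [hHdef, pow_mul, pow_two, hsh, one_pow])
      · have e : (s * h * s⁻¹)⁻¹ = h := by rw [hsh, inv_inv]
        rw [show (s * h * s⁻¹)⁻¹ = s * h⁻¹ * s⁻¹ by group, inv_eq_of_mul_eq_one_right hss] at e
        rw [← mul_assoc, e, mul_inv_cancel]
      · rw [mul_inv_eq_one] at e
        rw [e] at hss
        exact hH1 (by rw [hHdef, pow_mul, pow_two, hss, one_pow])
    · intro x x' e
      have key : ∀ x : Four × Φ.K, Φ.vel x.1 * (Φ.b * x.2) = Φ.b * (Φ.vel x.1 * ((x.2 : G) * 1)) := fun x => by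
        rw [mul_one, ← mul_assoc, (Φ.V_comm_b (Φ.vel_mem x.1)).eq, mul_assoc]
      have e' := mul_left_cancel ((key x).symm.trans ((congrArg Subtype.val e).trans (key x')))
      obtain ⟨h1, h2, -⟩ := Φ.split_unique (Φ.vel_mem _) (Φ.vel_mem _) x.2.2 x'.2.2 (one_mem _) (one_mem _) e'
      exact Prod.ext (Φ.vel_injective h1) (Subtype.ext h2)
    · rintro ⟨s, hs, hs1, hsh, hsh1⟩
      obtain ⟨w, y, e⟩ := hcases s hs (hconj s hs hsh)
      exact ⟨(w, y), Subtype.ext e.symm⟩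
  · haveI : IsEmpty {s : G // s * s = 1 ∧ s ≠ 1 ∧ (s * h⁻¹) * (s * h⁻¹) = 1 ∧ s * h⁻¹ ≠ 1} := by
      refine ⟨fun ⟨s, hs, hs1, hsh, hsh1⟩ => hq1 ?_⟩
      have hc := hconj s hs hsh
      obtain ⟨w, y, rfl⟩ := hcases s hs hc
      obtain ⟨Y, hY, -⟩ := hconjb w y
      rw [hY, hhinv] at hc
      obtain ⟨-, -, h3⟩ := Φ.split_unique (Φ.vel_mem _) (Φ.vel_mem _) Y.2
        (show (a.2 : G)⁻¹ * (a.1.2 : G)⁻¹ * a.2 ∈ Φ.K by
          have := Φ.conj_K_Phi (inv_mem a.1.2.2) (inv_mem hinvq); rwa [inv_inv] at this)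
        hinvq (inv_mem hinvq) hc
      exact Subtype.ext (eq_one_of_odd_sq (Φ.Phi_odd _ hinvq) (eq_inv_iff_mul_eq_one.1 h3))
    exact Nat.card_of_isEmpty

include S htame hθ hθ1 in
/-- **The count.** -/
theorem sum_mC_count (l : Fin 4) (ν : Φ.Phi →* ℂˣ) :
    ∑ χ : IrrCharacter G, (χ : G → ℂ) t ^ 2 * Φ.mC z l θ (Φ.res hz ν) χ / (χ : G → ℂ) 1 =
      (Nat.card (Subgroup.centralizer ({t} : Set G)) : ℂ) ^ 2 / (Nat.card G : ℂ) *
        ((orderOf z : ℂ)⁻¹ * if l = 0 then -4 * (k : ℂ) else 0) := by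
  classical
  set γ : ℂ := (Nat.card (Subgroup.centralizer ({t} : Set G)) : ℂ) ^ 2 / (Nat.card G : ℂ) with hγ
  have hC0 : (Nat.card (Subgroup.centralizer ({t} : Set G)) : ℂ) ≠ 0 := by exact_mod_cast Nat.card_pos.ne'
  have hi0 : ((Subgroup.centralizer ({t} : Set G)).index : ℂ) ≠ 0 := by
    exact_mod_cast Subgroup.index_ne_zero_of_finite
  have hidx : (Nat.card G : ℂ) = (Subgroup.centralizer ({t} : Set G)).index *
      Nat.card (Subgroup.centralizer ({t} : Set G)) := by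
    rw [← Nat.cast_mul, Subgroup.index_mul_card]
  have hcol : ∀ a, θ a.1.2 ≠ 1 →
      ∑ χ : IrrCharacter G, (χ : G → ℂ) t ^ 2 / (χ : G → ℂ) 1 * (χ : G → ℂ) (Φ.pnt z a) =
        γ * if a.2 = 1 then 4 * (k : ℂ) else 0 := by
    intro a ha
    rw [show (if a.2 = 1 then 4 * (k : ℂ) else 0) = ((if a.2 = 1 then 4 * k else 0 : ℕ) : ℂ) by
        split_ifs <;> push_cast <;> rfl, ← Φ.card_inverting hz htame hθ a ha,
      ← Cfsg.Lib.Dihedral.card_pairs_eq S.hyp.ord (fun s hs => S.conj_all hs), class_mult_formula, card_isConj,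
      Finset.sum_congr rfl fun (χ : IrrCharacter G) _ => show
        (χ : G → ℂ) t ^ 2 / (χ : G → ℂ) 1 * (χ : G → ℂ) (Φ.pnt z a) =
        (χ : G → ℂ) t * (χ : G → ℂ) t * conj ((χ : G → ℂ) (Φ.pnt z a)⁻¹) / (χ : G → ℂ) 1 by
          rw [← IsCharacter.conj_inv (isCharacter_of_irr χ.2), inv_inv]; ring, hγ, hidx]
    field_simp
  rw [Finset.sum_congr rfl fun (χ : IrrCharacter G) _ => show
    (χ : G → ℂ) t ^ 2 * Φ.mC z l θ (Φ.res hz ν) χ / (χ : G → ℂ) 1 = (Nat.card ((Four × Φ.K) × zpowers z) : ℂ)⁻¹ *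
    ∑ a, ((χ : G → ℂ) t ^ 2 / (χ : G → ℂ) 1 * (χ : G → ℂ) (Φ.pnt z a)) * conj (Φ.val l θ (Φ.res hz ν) a) by
      rw [mC, Finset.mul_sum, Finset.mul_sum, Finset.mul_sum, Finset.sum_div]
      exact Finset.sum_congr rfl fun a _ => by ring, ← Finset.mul_sum, Finset.sum_comm,
    Finset.sum_congr rfl fun a _ => show _ =
      γ * ((if a.2 = 1 then 4 * (k : ℂ) else 0) * conj (Φ.val l θ (Φ.res hz ν) a)) by
      rw [← Finset.sum_mul]
      by_cases hv : Φ.val l θ (Φ.res hz ν) a = 0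
      · simp [hv]
      · rw [hcol a (Φ.val_ne hv), mul_assoc],
    ← Finset.mul_sum, Fintype.sum_prod_type,
    Finset.sum_congr rfl fun x _ => show _ = 4 * (k : ℂ) * ((sgn l x.1 : ℂ) * conj ((θ x.2 : ℂ) - 1)) by
      simp only [ite_mul, zero_mul, Finset.sum_ite_eq', Finset.mem_univ, if_true, conj_val, map_one, Units.val_one,
        mul_one],
    ← Finset.mul_sum, Fintype.sum_prod_type]
  dsimp only
  rw [← Finset.sum_mul_sum, sum_sub_one hθ1, Φ.card_K, ← Int.cast_sum, sum_sgn_all, Φ.card_dom]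
  have := Φ.k_ne
  have := Φ.o_ne z
  split_ifs <;> push_cast <;> field_simp <;> ring

/-- The sum over all the blocks. -/
theorem sum_mC_blk [Fintype (Φ.Phi →* ℂˣ)] (l : Fin 4) (χ : IrrCharacter G) :
    (orderOf z : ℂ) * ∑ ν : Φ.Phi →* ℂˣ, Φ.mC z l θ (Φ.res hz ν) χ =
      (Nat.card Φ.Phi : ℂ) * Φ.mC 1 l θ (Φ.res (one_mem _) 1) χ := by
  haveI := Φ.Phi_cyclic
  letI : CommGroup Φ.Phi := IsCyclic.commGroup
  have h1 : ∀ q : zpowers (1 : G), q = 1 := fun q => Subtype.ext (by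
    obtain ⟨j, hj⟩ := q.2
    rw [← hj]; exact one_zpow j)
  letI : Unique (zpowers (1 : G)) := ⟨⟨1⟩, h1⟩
  simp only [mC, ← Finset.mul_sum, Φ.card_dom, orderOf_one]
  rw [Finset.sum_comm, Fintype.sum_prod_type,
    Fintype.sum_prod_type (f := fun a : (Four × Φ.K) × zpowers (1 : G) => _)]
  rw [Finset.sum_congr rfl fun x _ => show _ = (χ : G → ℂ) (Φ.emb x) *
      ((sgn l x.1 : ℂ) * conj ((θ x.2 : ℂ) - 1)) * (Nat.card Φ.Phi : ℂ) by
      rw [Finset.sum_congr rfl fun (q : zpowers z) _ => show _ =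
        (χ : G → ℂ) (Φ.pnt z (x, q)) * ((sgn l x.1 : ℂ) * conj ((θ x.2 : ℂ) - 1)) *
          (if q = 1 then (Nat.card Φ.Phi : ℂ) else 0) by
        simp only [conj_val, res_apply]
        rw [← Finset.mul_sum, ← Finset.mul_sum, ← map_sum, sum_dual_point]
        by_cases hq : q = 1
        · subst hq
          rw [show (⟨((1 : zpowers z) : G), zpowers_le.2 hz (1 : zpowers z).2⟩ : Φ.Phi) = 1 from rfl]
          simp
          ring
        · rw [if_neg hq, if_neg fun e => hq (Subtype.ext (congrArg Subtype.val e : (q : G) = 1))]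
          simp]
      simp only [mul_ite, mul_zero, Finset.sum_ite_eq', Finset.mem_univ, if_true]
      simp [pnt]]
  simp only [Fintype.sum_unique, conj_val, res_apply, MonoidHom.one_apply, Units.val_one, map_one, mul_one,
    pnt, h1 default, OneMemClass.coe_one, ← Finset.sum_mul]
  have := Φ.k_ne
  have := Φ.o_ne z
  push_cast
  field_simp

end TFrame

end Cfsg.Lib.Ree.Three
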