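import Cfsg.Agent.Ree.Torus.Func.Sums
import Cfsg.Agent.Chars.GaloisOdd

/-!
Scalar products of induced class functions whose supports fuse inside one subgroup, linear characters of an
extension of a subgroup by a cyclic group, and the power maps on the characters.
-/

set_option autoImplicit false
set_option linter.style.haveILetI false
set_option linter.unusedSectionVars false

namespace Cfsg.Lib.Ree.Three

open Cfsg Cfsg.Lib.Chars Cfsg.Lib.Ree
open scoped ComplexConjugate

universe u v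

attribute [local instance 10] _root_.Classical.propDecidable

variable {G : Type u} [Group G] [Fintype G]

/-- The scalar product of two functions whose supports are conjugate only by elements of `N`. -/
theorem orth_sum (f f' : G → ℂ) (N : Set G) (hN : ∀ g h, f h ≠ 0 → f' (g * h * g⁻¹) ≠ 0 → g ∈ N) :
    ∑ χ : IrrCharacter G, (∑ h, (χ : G → ℂ) h * conj (f h)) * conj (∑ h, (χ : G → ℂ) h * conj (f' h)) =
      ∑ g ∈ Finset.univ.filter (· ∈ N), ∑ h, conj (f h) * f' (g * h * g⁻¹) := by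
  classical
  have key : ∀ h : G, ∑ χ : IrrCharacter G,
      (χ : G → ℂ) h * conj (∑ h', (χ : G → ℂ) h' * conj (f' h')) = ∑ g, f' (g * h * g⁻¹) := by
    intro h
    simp only [map_sum, map_mul, Complex.conj_conj, Finset.mul_sum]
    rw [Finset.sum_comm, ← Finset.sum_fiberwise' (s := Finset.univ) (fun g => g * h * g⁻¹) f']
    refine Finset.sum_congr rfl fun h' _ => ?_
    rw [Finset.sum_congr rfl fun (χ : IrrCharacter G) _ => show
      (χ : G → ℂ) h * (conj ((χ : G → ℂ) h') * f' h') = (χ : G → ℂ) h * conj ((χ : G → ℂ) h') * f' h' by ring,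
      ← Finset.sum_mul, sum_conj_eq_card, Finset.sum_const, nsmul_eq_mul, Nat.card_eq_fintype_card,
      Fintype.card_subtype]
  calc ∑ χ : IrrCharacter G, (∑ h, (χ : G → ℂ) h * conj (f h)) * conj (∑ h, (χ : G → ℂ) h * conj (f' h))
      = ∑ h, conj (f h) *
          ∑ χ : IrrCharacter G, (χ : G → ℂ) h * conj (∑ h', (χ : G → ℂ) h' * conj (f' h')) := by
        simp only [Finset.sum_mul, Finset.mul_sum]
        rw [Finset.sum_comm]
        exact Finset.sum_congr rfl fun h _ => Finset.sum_congr rfl fun χ _ => by ring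
    _ = ∑ h, ∑ g, conj (f h) * f' (g * h * g⁻¹) := by simp only [key, Finset.mul_sum]
    _ = ∑ g, ∑ h, conj (f h) * f' (g * h * g⁻¹) := Finset.sum_comm
    _ = _ := by
      refine (Finset.sum_subset (Finset.subset_univ _) fun g _ hg => Finset.sum_eq_zero fun h _ => ?_).symm
      by_contra hne
      obtain ⟨h1, h2⟩ := mul_ne_zero_iff.1 hne
      exact hg (Finset.mem_filter.2 ⟨Finset.mem_univ _, hN g h (fun e => h1 (by rw [e, map_zero])) h2⟩)

/-! ### The extension by a cyclic group -/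

section Ext

variable {A : Type u} [Group A] [Fintype A]

/-- `z` normalises the image of `i` and meets it trivially. -/
structure Ext (i : A →* G) (z : G) : Prop where
  inj : Function.Injective i
  norm : ∀ a, z * i a * z⁻¹ ∈ i.range
  disj : ∀ a, i a ∈ Subgroup.zpowers z → i a = 1

variable {i : A →* G} {z : G}

/-- The group generated. -/
def Ext.grp (_X : Ext i z) : Subgroup G := i.range ⊔ Subgroup.zpowers z

/-- Its elements. -/
def Ext.pt (_X : Ext i z) (p : A × Subgroup.zpowers z) : G := i p.1 * p.2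

variable (X : Ext i z)
include X

theorem Ext.norm_zpowers {q : G} (hq : q ∈ Subgroup.zpowers z) : q ∈ Subgroup.normalizer (i.range : Set G) := by
  refine Subgroup.zpowers_le.2 ?_ hq
  exact Cfsg.Lib.ZStarApps.mem_normalizer_of_maps fun w hw => by
    obtain ⟨a, rfl⟩ := MonoidHom.mem_range.1 hw
    exact X.norm a

theorem Ext.pt_mem (p : A × Subgroup.zpowers z) : X.pt p ∈ X.grp :=
  mul_mem (Subgroup.mem_sup_left (MonoidHom.mem_range.2 ⟨_, rfl⟩)) (Subgroup.mem_sup_right p.2.2)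

theorem Ext.pt_inj : Function.Injective X.pt := by
  rintro ⟨a, q⟩ ⟨a', q'⟩ h
  have e : i (a'⁻¹ * a) = (q' : G) * (q : G)⁻¹ := by
    rw [map_mul, map_inv, eq_mul_inv_iff_mul_eq, mul_assoc]
    exact inv_mul_eq_iff_eq_mul.2 h
  have h1 := X.disj _ (e ▸ mul_mem q'.2 (inv_mem q.2))
  have ha : a'⁻¹ * a = 1 := X.inj (h1.trans (map_one i).symm)
  rw [inv_mul_eq_one] at ha
  subst ha
  exact Prod.ext rfl (Subtype.ext (mul_left_cancel h))

theorem Ext.exists_pt {g : G} (hg : g ∈ X.grp) : ∃ p, X.pt p = g := by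
  rw [Ext.grp, ← SetLike.mem_coe, Subgroup.coe_mul_of_right_le_normalizer_left _ _ (fun q hq => X.norm_zpowers hq)] at hg
  obtain ⟨w, hw, q, hq, rfl⟩ := hg
  obtain ⟨a, rfl⟩ := MonoidHom.mem_range.1 hw
  exact ⟨(a, ⟨q, hq⟩), rfl⟩

/-- The parametrisation. -/
noncomputable def Ext.equiv : A × Subgroup.zpowers z ≃ X.grp :=
  Equiv.ofBijective (fun p => ⟨X.pt p, X.pt_mem p⟩)
    ⟨fun _ _ h => X.pt_inj (congrArg Subtype.val h),
      fun g => (X.exists_pt g.2).elim fun p hp => ⟨p, Subtype.ext hp⟩⟩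

theorem Ext.equiv_apply (p : A × Subgroup.zpowers z) : (X.equiv p : G) = X.pt p := rfl

theorem Ext.sum_grp (c : G → ℂ) : ∑ g : X.grp, c g = ∑ p : A × Subgroup.zpowers z, c (X.pt p) :=
  (Fintype.sum_equiv X.equiv _ _ fun _ => rfl).symm

theorem Ext.card_grp : Nat.card X.grp = Nat.card A * orderOf z := by
  rw [← Nat.card_congr X.equiv, Nat.card_prod, Nat.card_zpowers]

/-- A character of `A` fixed by `z` is fixed by its powers. -/
theorem Ext.invariant {M : Type v} [Group M] {lam : A →* M}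
    (hlam : ∀ a a', z * i a * z⁻¹ = i a' → lam a' = lam a)
    {q : G} (hq : q ∈ Subgroup.zpowers z) : ∀ a a', q * i a * q⁻¹ = i a' → lam a' = lam a := by
  obtain ⟨n, rfl⟩ := mem_powers_iff_mem_zpowers.2 hq
  simp only at *
  clear hq
  induction n with
  | zero => intro a a' h; rw [pow_zero, one_mul, inv_one, mul_one] at h; rw [X.inj h]
  | succ n ih =>
    intro a a' h
    obtain ⟨b, hb⟩ := MonoidHom.mem_range.1
      ((Subgroup.mem_normalizer_iff.1 (X.norm_zpowers (pow_mem (Subgroup.mem_zpowers z) n)) (i a)).1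
        (MonoidHom.mem_range.2 ⟨a, rfl⟩))
    rw [pow_succ', show z * z ^ n * i a * (z * z ^ n)⁻¹ = z * (z ^ n * i a * (z ^ n)⁻¹) * z⁻¹ by group,
      ← hb] at h
    rw [hlam b a' h, ih a b hb.symm]

/-- The linear character. -/
noncomputable def Ext.lin (lam : A →* ℂˣ) (hlam : ∀ a a', z * i a * z⁻¹ = i a' → lam a' = lam a)
    (ζ : Subgroup.zpowers z →* ℂˣ) : X.grp →* ℂˣ :=
  MonoidHom.mk' (fun g => lam (X.equiv.symm g).1 * ζ (X.equiv.symm g).2) fun g g' => by
    obtain ⟨⟨a, q⟩, rfl⟩ := X.equiv.surjective g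
    obtain ⟨⟨a', q'⟩, rfl⟩ := X.equiv.surjective g'
    obtain ⟨b, hb⟩ := MonoidHom.mem_range.1
      ((Subgroup.mem_normalizer_iff.1 (X.norm_zpowers q.2) (i a')).1 (MonoidHom.mem_range.2 ⟨a', rfl⟩))
    have hmul : X.equiv (a, q) * X.equiv (a', q') = X.equiv (a * b, q * q') := Subtype.ext (by
      show i a * (q : G) * (i a' * (q' : G)) = i (a * b) * ((q : G) * q')
      rw [map_mul, hb]; group)
    rw [hmul]
    simp only [Equiv.symm_apply_apply, map_mul]
    rw [X.invariant hlam q.2 a' b hb.symm]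
    exact mul_mul_mul_comm _ _ _ _

theorem Ext.lin_apply (lam : A →* ℂˣ) (hlam : ∀ a a', z * i a * z⁻¹ = i a' → lam a' = lam a)
    (ζ : Subgroup.zpowers z →* ℂˣ) (p : A × Subgroup.zpowers z) :
    X.lin lam hlam ζ (X.equiv p) = lam p.1 * ζ p.2 := by
  show lam (X.equiv.symm (X.equiv p)).1 * ζ (X.equiv.symm (X.equiv p)).2 = _
  rw [Equiv.symm_apply_apply]

end Ext

/-! ### Power maps -/

/-- The Galois conjugate of an irreducible character. -/
theorem isIrr_pow {j : ℕ} (hj : j.Coprime (Nat.card G)) {χ : G → ℂ} (hχ : IsIrrCharacter G χ) :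
    IsIrrCharacter G (fun g => χ (g ^ j)) := by
  haveI : NeZero (Nat.card G) := ⟨Nat.card_pos.ne'⟩
  obtain ⟨σ, hσ⟩ := exists_galConj_auto hj
  have := IsIrrCharacter.map_auto hχ σ
  rwa [show (fun g => σ (χ g)) = fun g => χ (g ^ j) from
    funext fun g => hσ.apply_character (isCharacter_of_irr hχ) (orderOf_dvd_natCard g)] at this

/-- The power map on the characters. -/
noncomputable def powPerm {j : ℕ} (hj : j.Coprime (Nat.card G)) : IrrCharacter G ≃ IrrCharacter G :=
  Equiv.ofBijective (fun χ => ⟨fun g => (χ : G → ℂ) (g ^ j), isIrr_pow hj χ.2⟩)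
    (Finite.injective_iff_bijective.1 fun χ χ' h => Subtype.ext (funext fun g => by
      obtain ⟨g', rfl⟩ := (powCoprime hj.symm).surjective g
      exact congrFun (congrArg Subtype.val h) g'))

theorem powPerm_apply {j : ℕ} (hj : j.Coprime (Nat.card G)) (χ : IrrCharacter G) (g : G) :
    ((powPerm hj χ : IrrCharacter G) : G → ℂ) g = (χ : G → ℂ) (g ^ j) := rfl

theorem powPerm_one {j : ℕ} (hj : j.Coprime (Nat.card G)) (χ : IrrCharacter G) :
    ((powPerm hj χ : IrrCharacter G) : G → ℂ) 1 = (χ : G → ℂ) 1 := by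
  rw [powPerm_apply, one_pow]

theorem powPerm_sq {j : ℕ} (hj : j.Coprime (Nat.card G)) (hodd : Odd j) (χ : IrrCharacter G) {g : G}
    (hg : g * g = 1) : ((powPerm hj χ : IrrCharacter G) : G → ℂ) g = (χ : G → ℂ) g := by
  obtain ⟨l, rfl⟩ := hodd
  rw [powPerm_apply, pow_succ, pow_mul, pow_two, hg, one_pow, one_mul]

/-- The sums over a subgroup follow the power map. -/
theorem sum_powPerm {j : ℕ} (hj : j.Coprime (Nat.card G)) (H : Subgroup G) [Fintype H] (χ : IrrCharacter G)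
    {L L' : H →* ℂˣ} (hL : ∀ h, L' h = L h ^ j) :
    ∑ h : H, ((powPerm hj χ : IrrCharacter G) : G → ℂ) h * conj (L' h : ℂ) =
      ∑ h : H, (χ : G → ℂ) h * conj (L h : ℂ) := by
  have hc : (Nat.card H).Coprime j :=
    (Nat.Coprime.coprime_dvd_right (Subgroup.card_subgroup_dvd_card H) hj).symm
  refine Fintype.sum_equiv (powCoprime hc) _ _ fun h => ?_
  rw [powPerm_apply, hL, ← map_pow]
  rfl

/-- An exponent prime to `n`, given modulo a power of 3, trivial on the rest. -/
theorem exists_exp {n A : ℕ} (hn : n ≠ 0) (c : ℕ) (hc : ¬ 3 ∣ c) (he : 3 ^ A ∣ n) (hodd : 2 ∣ n) :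
    ∃ j : ℕ, j.Coprime n ∧ Odd j ∧ j ≡ c [MOD 3 ^ A] ∧ (∀ m, m ∣ n → ¬ 3 ∣ m → j ≡ 1 [MOD m]) ∧
      (c ≡ 1 [MOD 3] → ∃ s, j ^ 3 ^ s ≡ 1 [MOD n]) := by
  obtain ⟨s, N, hN, hnN⟩ := Nat.exists_eq_pow_mul_and_not_dvd hn 3 (by norm_num)
  have hco : (3 ^ s).Coprime N := Nat.Coprime.pow_left _ ((Nat.prime_three.coprime_iff_not_dvd).2 hN)
  obtain ⟨j, hj3, hjN⟩ := Nat.chineseRemainder hco c 1
  have hAs : A ≤ s := by
    refine (Nat.pow_dvd_pow_iff_le_right (by norm_num : 1 < 3)).1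
      (Nat.Coprime.dvd_of_dvd_mul_right ?_ (hnN ▸ he))
    exact Nat.Coprime.pow_left _ ((Nat.prime_three.coprime_iff_not_dvd).2 hN)
  have hm : ∀ m, m ∣ n → ¬ 3 ∣ m → j ≡ 1 [MOD m] := fun m hmn h3 =>
    hjN.of_dvd (Nat.Coprime.dvd_of_dvd_mul_left
      ((Nat.Coprime.pow_left s ((Nat.prime_three.coprime_iff_not_dvd).2 h3)).symm) (hnN ▸ hmn))
  have hjcop : j.Coprime n := by
    rw [hnN]
    refine Nat.Coprime.mul_right ?_ ?_
    · rcases Nat.eq_zero_or_pos s with h0 | h0
      · rw [h0, pow_zero]; exact Nat.coprime_one_right j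
      · refine Nat.Coprime.pow_right _ ((Nat.prime_three.coprime_iff_not_dvd).2 fun hd => hc ?_).symm
        have := hj3.of_dvd (dvd_pow_self 3 h0.ne')
        exact (this.dvd_iff dvd_rfl).1 hd
    · show Nat.gcd j N = 1
      rw [hjN.gcd_eq, Nat.gcd_one_left]
  refine ⟨j, hjcop, ?_, hj3.of_dvd (pow_dvd_pow 3 hAs), hm, fun hc1 => ⟨s, ?_⟩⟩
  · refine Nat.odd_iff.2 ?_
    have := hm 2 hodd (by norm_num)
    exact this
  · rw [hnN]
    refine (Nat.modEq_and_modEq_iff_modEq_mul hco).1 ⟨?_, ?_⟩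
    · rcases Nat.eq_zero_or_pos s with h0 | h0
      · subst h0; simp [Nat.ModEq, Nat.mod_one]
      · have h1 : j ≡ 1 [MOD 3] := (hj3.of_dvd (dvd_pow_self 3 h0.ne')).trans hc1
        have key : ∀ i : ℕ, j ^ 3 ^ i ≡ 1 [MOD 3 ^ (i + 1)] := by
          intro i
          induction i with
          | zero => simpa using h1
          | succ i ih =>
            rw [Nat.modEq_iff_dvd] at ih ⊢
            push_cast at ih ⊢
            have hdiv := dvd_sub_pow_of_dvd_sub (R := ℤ) (p := 3) (a := (j : ℤ)) (b := 1)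
              ((Nat.modEq_iff_dvd.1 h1.symm) : ((3 : ℕ) : ℤ) ∣ (j : ℤ) - ((1 : ℕ) : ℤ)) (i + 1)
            rw [one_pow] at hdiv
            exact dvd_sub_comm.1 (by exact_mod_cast hdiv)
        exact (key s).of_dvd (pow_dvd_pow 3 (Nat.le_succ s))
    · simpa using hjN.pow (3 ^ s)

end Cfsg.Lib.Ree.Three
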