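import Cfsg.Agent.Ree.Three.Frame
import Cfsg.Agent.Ree.Three.Four

/-!
The centralizer and the normalizer of the four-group, and the centralizers of the elements of the torus.
-/

set_option autoImplicit false
set_option linter.style.haveILetI false
set_option linter.unusedSectionVars false

namespace Cfsg.Lib.Ree.Three

open Subgroup Cfsg.Lib.TwoTimesPSL Cfsg.Lib.Ree

universe u

variable {G : Type u} [Group G] {t : G} {E E₀ : Subgroup G} {k : ℕ}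

namespace TFrame

variable (Φ : TFrame t E E₀ k)

theorem V_comm {w w' : G} (hw : w ∈ Φ.V) (hw' : w' ∈ Φ.V) : Commute w w' := by
  have h := Φ.V_sq (mul_mem hw hw')
  show w * w' = w' * w
  rw [eq_inv_of_mul_eq_one_left h, mul_inv_rev, inv_eq_of_mul_eq_one_right (Φ.V_sq hw'),
    inv_eq_of_mul_eq_one_right (Φ.V_sq hw)]

theorem eq_one_of_mem_inf {x : G} (hV : x ∈ Φ.V) (hK : x ∈ Φ.K) : x = 1 :=
  eq_one_of_odd_sq (Φ.K_odd hK) (Φ.V_sq hV)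

/-- `K Phi`. -/
def W : Subgroup G where
  carrier := {x | ∃ y ∈ Φ.K, ∃ p ∈ Φ.Phi, x = y * p}
  one_mem' := ⟨1, one_mem _, 1, one_mem _, (one_mul 1).symm⟩
  inv_mem' := by
    rintro x ⟨y, hy, p, hp, rfl⟩
    exact ⟨p⁻¹ * y⁻¹ * (p⁻¹)⁻¹, Φ.conj_K_Phi (inv_mem hy) (inv_mem hp), p⁻¹, inv_mem hp, by group⟩
  mul_mem' := by
    rintro x x' ⟨y, hy, p, hp, rfl⟩ ⟨y', hy', p', hp', rfl⟩
    exact ⟨y * (p * y' * p⁻¹), mul_mem hy (Φ.conj_K_Phi hy' hp), p * p', mul_mem hp hp', by group⟩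

theorem mul_mem_W {y p : G} (hy : y ∈ Φ.K) (hp : p ∈ Φ.Phi) : y * p ∈ Φ.W := ⟨y, hy, p, hp, rfl⟩
theorem K_le_W : Φ.K ≤ Φ.W := fun y hy => ⟨y, hy, 1, one_mem _, (mul_one y).symm⟩
theorem Phi_le_W : Φ.Phi ≤ Φ.W := fun p hp => ⟨1, one_mem _, p, hp, (one_mul p).symm⟩

theorem W_E {x : G} (hx : x ∈ Φ.W) : x ∈ E := by
  obtain ⟨y, hy, p, hp, rfl⟩ := hx
  exact mul_mem (Φ.K_E hy) (Φ.Phi_le hp)

theorem W_t {x : G} (hx : x ∈ Φ.W) : Commute x t := (Φ.t_comm x (Φ.W_E hx)).symm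

theorem W_v {x : G} (hx : x ∈ Φ.W) : Commute x Φ.v := by
  obtain ⟨y, hy, p, hp, rfl⟩ := hx
  exact (Φ.K_v hy).mul_left (Φ.pv p hp)

theorem V_comm_W {w x : G} (hw : w ∈ Φ.V) (hx : x ∈ Φ.W) : Commute w x := by
  obtain ⟨y, hy, p, hp, rfl⟩ := hx
  exact (Φ.V_comm_K hw hy).mul_right (Φ.V_comm_Phi hw hp)

/-- The elements of `K Phi` in `E₀` lie in `K`. -/
theorem W_inter {x : G} (hx : x ∈ Φ.W) (h0 : x ∈ E₀) : x ∈ Φ.K := by
  obtain ⟨y, hy, p, hp, rfl⟩ := hx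
  rw [Φ.Phi_inter p hp (by simpa using mul_mem (inv_mem (Φ.K_E0 hy)) h0), mul_one]
  exact hy

theorem W_pow_Phi {x : G} (hx : x ∈ Φ.W) : x ^ Nat.card Φ.Phi ∈ Φ.K := by
  obtain ⟨y, hy, p, hp, rfl⟩ := hx
  have hpow : ∀ i : ℕ, ∃ y' ∈ Φ.K, (y * p) ^ i = y' * p ^ i := by
    intro i
    induction i with
    | zero => exact ⟨1, one_mem _, by simp⟩
    | succ i ih =>
      obtain ⟨y', hy', e⟩ := ih
      refine ⟨y' * (p ^ i * y * (p ^ i)⁻¹), mul_mem hy' (Φ.conj_K_Phi hy (pow_mem hp i)), ?_⟩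
      rw [pow_succ (y * p), e, pow_succ p]; group
  obtain ⟨y', hy', e⟩ := hpow (Nat.card Φ.Phi)
  rw [e, orderOf_dvd_iff_pow_eq_one.1 (Subgroup.orderOf_dvd_natCard _ hp), mul_one]
  exact hy'

theorem m3 : Φ.m * Φ.m * Φ.m = 1 := by
  rw [← pow_two, ← pow_succ, show 2 + 1 = orderOf Φ.m by rw [Φ.m_ord], pow_orderOf_eq_one]

theorem m_inv : Φ.m⁻¹ = Φ.m ^ 2 := inv_eq_of_mul_eq_one_right (by rw [pow_two, ← mul_assoc, Φ.m3])

theorem m_pow_mod (i : ℕ) : Φ.m ^ i = Φ.m ^ (i % 3) := by rw [← Φ.m_ord, pow_mod_orderOf]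

theorem m_pow_inv {i : ℕ} (hi : i < 3) : (Φ.m ^ i)⁻¹ = Φ.m ^ (3 - i) := by
  rw [inv_eq_iff_mul_eq_one, ← pow_add, show i + (3 - i) = orderOf Φ.m by rw [Φ.m_ord]; omega, pow_orderOf_eq_one]

theorem m_tv : Φ.m * (t * Φ.v) * Φ.m⁻¹ = t := by
  rw [show Φ.m * (t * Φ.v) * Φ.m⁻¹ = (Φ.m * t * Φ.m⁻¹) * (Φ.m * Φ.v * Φ.m⁻¹) by group, Φ.m_t, Φ.m_v,
    ← mul_assoc, ← Φ.tv.eq, mul_assoc, Φ.vv, mul_one]

theorem conj_V {w : G} (hw : w ∈ Φ.V) : Φ.m * w * Φ.m⁻¹ ∈ Φ.V := by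
  rcases hw with rfl | rfl | rfl | rfl
  · rw [mul_one, mul_inv_cancel]; exact one_mem _
  · rw [Φ.m_t]; exact Φ.v_mem
  · rw [Φ.m_v]; exact Φ.tv_mem
  · rw [Φ.m_tv]; exact Φ.t_mem

theorem conjPow_V {w : G} (hw : w ∈ Φ.V) : ∀ i : ℕ, Φ.m ^ i * w * (Φ.m ^ i)⁻¹ ∈ Φ.V
  | 0 => by simpa using hw
  | i + 1 => by
    rw [pow_succ', show Φ.m * Φ.m ^ i * w * (Φ.m * Φ.m ^ i)⁻¹ = Φ.m * (Φ.m ^ i * w * (Φ.m ^ i)⁻¹) * Φ.m⁻¹ by group]
    exact Φ.conj_V (conjPow_V hw i)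

/-- The nontrivial elements of `V` are the three conjugates of `t`. -/
theorem exists_pow_t {w : G} (hw : w ∈ Φ.V) (h1 : w ≠ 1) : ∃ i < 3, Φ.m ^ i * t * (Φ.m ^ i)⁻¹ = w := by
  rcases hw with rfl | rfl | rfl | rfl
  · exact absurd rfl h1
  · exact ⟨0, by norm_num, by simp⟩
  · exact ⟨1, by norm_num, by rw [pow_one, Φ.m_t]⟩
  · refine ⟨2, by norm_num, ?_⟩
    rw [pow_two, show Φ.m * Φ.m * t * (Φ.m * Φ.m)⁻¹ = Φ.m * (Φ.m * t * Φ.m⁻¹) * Φ.m⁻¹ by group, Φ.m_t, Φ.m_v]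

theorem m_not_fix (i : ℕ) (hi : Φ.m ^ i * t * (Φ.m ^ i)⁻¹ = t) : i % 3 = 0 := by
  rw [Φ.m_pow_mod] at hi
  have h3 : i % 3 < 3 := Nat.mod_lt _ (by norm_num)
  interval_cases hr : i % 3
  · rfl
  · exfalso; rw [pow_one, Φ.m_t] at hi; exact Φ.v_ne hi
  · exfalso
    rw [pow_two, show Φ.m * Φ.m * t * (Φ.m * Φ.m)⁻¹ = Φ.m * (Φ.m * t * Φ.m⁻¹) * Φ.m⁻¹ by group, Φ.m_t, Φ.m_v] at hi
    exact Φ.v_ne_one (mul_eq_left.1 hi)

theorem m_fix_one {i : ℕ} (hi3 : i < 3) (hi : Φ.m ^ i * t * (Φ.m ^ i)⁻¹ = Φ.v) : i = 1 := by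
  interval_cases i
  · exfalso; simp at hi; exact Φ.v_ne hi.symm
  · rfl
  · exfalso
    rw [pow_two, show Φ.m * Φ.m * t * (Φ.m * Φ.m)⁻¹ = Φ.m * (Φ.m * t * Φ.m⁻¹) * Φ.m⁻¹ by group, Φ.m_t, Φ.m_v] at hi
    exact Φ.t_ne (mul_eq_right.1 hi)

/-- `C(V) = V ⟨b⟩ K Phi`. -/
theorem cen {x : G} (ht : Commute x t) (hv : Commute x Φ.v) :
    ∃ w ∈ Φ.V, ∃ y ∈ Φ.K, ∃ p ∈ Φ.Phi, x = w * (y * p) ∨ x = w * (Φ.b * (y * p)) := by
  obtain ⟨e, he, r⟩ := Φ.split x ht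
  obtain ⟨w₀, hw₀, rfl⟩ : ∃ w ∈ Φ.V, x = w * e := by
    rcases r with r | r
    · exact ⟨1, one_mem _, by rw [one_mul]; exact r⟩
    · exact ⟨t, Φ.t_mem, r⟩
  have hev : Commute e Φ.v := by
    have := ((Φ.V_comm hw₀ Φ.v_mem).inv_left).mul_left hv
    rwa [inv_mul_cancel_left] at this
  obtain ⟨g, hg, p, hp, rfl⟩ := Φ.exists_mul e he
  have hgv : Commute g Φ.v := by
    have := hev.mul_left (Φ.pv p hp).inv_left
    rwa [mul_inv_cancel_right] at this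
  obtain ⟨y, hy, rfl | rfl | rfl | rfl⟩ := Φ.cen₀ g hg hgv
  · exact ⟨w₀, hw₀, _, hy, p, hp, Or.inl rfl⟩
  · exact ⟨w₀ * Φ.v, mul_mem hw₀ Φ.v_mem, y, hy, p, hp, Or.inl (by simp only [mul_assoc])⟩
  · exact ⟨w₀, hw₀, y, hy, p, hp, Or.inr (by simp only [mul_assoc])⟩
  · exact ⟨w₀ * Φ.v, mul_mem hw₀ Φ.v_mem, y, hy, p, hp, Or.inr (by simp only [mul_assoc])⟩

theorem conj_b_K {y : G} (hy : y ∈ Φ.K) : Φ.b * y * Φ.b⁻¹ ∈ Φ.K := Φ.inv y hy ▸ inv_mem hy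

/-- The square of an element of the nontrivial coset lies in `K Phi`. -/
theorem sq_b_W {y p : G} (hy : y ∈ Φ.K) (hp : p ∈ Φ.Phi) :
    Φ.b * (y * p) * (Φ.b * (y * p)) ∈ Φ.W := by
  have hbi := inv_eq_of_mul_eq_one_right Φ.bb
  have e : Φ.b * (y * p) * (Φ.b * (y * p)) = (Φ.b * y * Φ.b⁻¹) * (p * y * p⁻¹) * (p * p) := by
    rw [hbi, show Φ.b * (y * p) * (Φ.b * (y * p)) = Φ.b * y * (p * Φ.b) * y * p by group, (Φ.pb p hp).eq]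
    group
  rw [e]
  exact Φ.mul_mem_W (mul_mem (Φ.conj_b_K hy) (Φ.conj_K_Phi hy hp)) (mul_mem hp hp)

theorem W_b {x : G} (hx : x ∈ Φ.W) : Φ.b * x * Φ.b⁻¹ ∈ Φ.W := by
  obtain ⟨y, hy, p, hp, rfl⟩ := hx
  rw [show Φ.b * (y * p) * Φ.b⁻¹ = (Φ.b * y * Φ.b⁻¹) * (Φ.b * p * Φ.b⁻¹) by group, (Φ.pb p hp).symm.eq,
    mul_inv_cancel_right]
  exact Φ.mul_mem_W (Φ.conj_b_K hy) hp

/-- An element of odd order centralizing `V` lies in `K Phi`. -/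
theorem mem_W_of_odd {x : G} (ho : Odd (orderOf x)) (ht : Commute x t) (hv : Commute x Φ.v) : x ∈ Φ.W := by
  obtain ⟨w, hw, y, hy, p, hp, r⟩ := Φ.cen ht hv
  obtain ⟨j, hj⟩ := exists_sq_pow ho
  rw [hj]
  refine pow_mem ?_ j
  have hwb : Commute w Φ.b := Φ.V_comm_b hw
  rcases r with r | r <;> rw [r]
  · rw [show w * (y * p) * (w * (y * p)) = w * ((y * p) * w) * (y * p) by group, ← (Φ.V_comm_W hw (Φ.mul_mem_W hy hp)).eq,
      ← mul_assoc w w, Φ.V_sq hw, one_mul]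
    exact mul_mem (Φ.mul_mem_W hy hp) (Φ.mul_mem_W hy hp)
  · rw [show w * (Φ.b * (y * p)) * (w * (Φ.b * (y * p))) = w * ((Φ.b * (y * p)) * w) * (Φ.b * (y * p)) by group,
      ← (hwb.mul_right (Φ.V_comm_W hw (Φ.mul_mem_W hy hp))).eq, ← mul_assoc w w, Φ.V_sq hw, one_mul]
    exact Φ.sq_b_W hy hp

theorem b_not_W {y p : G} (hy : y ∈ Φ.K) (hp : p ∈ Φ.Phi) : ¬ Odd (orderOf Φ.b) ∧ Φ.b ≠ y * p := by
  have h : ¬ Odd (orderOf Φ.b) := by rw [Φ.b_ord]; decide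
  refine ⟨h, fun e => ?_⟩
  have hK : Φ.b ∈ Φ.K := Φ.W_inter ⟨y, hy, p, hp, e⟩ Φ.bE
  exact h (Φ.K_odd hK)

section Finite

variable [Finite G]

theorem W_odd {x : G} (hx : x ∈ Φ.W) : Odd (orderOf x) := by
  have hK := Φ.W_pow_Phi hx
  have hPhi : Odd (Nat.card Φ.Phi) := by
    haveI := Φ.Phi_cyclic
    obtain ⟨g, hg⟩ := IsCyclic.exists_ofOrder_eq_natCard (α := Φ.Phi)
    rw [← hg, ← Subgroup.orderOf_coe]
    exact Φ.Phi_odd g g.2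
  refine Odd.of_dvd_nat (hPhi.mul (Φ.K_odd hK)) (orderOf_dvd_of_pow_eq_one ?_)
  rw [pow_mul, pow_orderOf_eq_one]

theorem K_coprime {y : G} (hy : y ∈ Φ.K) : (orderOf y).Coprime (Nat.card Φ.Phi) :=
  Nat.Coprime.coprime_dvd_left (by simpa [Φ.card_K] using Subgroup.orderOf_dvd_natCard _ hy) Φ.k_cop

/-- `m` normalises `K`. -/
theorem conj_K {y : G} (hy : y ∈ Φ.K) : Φ.m * y * Φ.m⁻¹ ∈ Φ.K := by
  set z := Φ.m * y * Φ.m⁻¹ with hz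
  have ho : orderOf z = orderOf y := (MulAut.conj Φ.m).orderOf_eq y
  have hzv : Commute z Φ.v := by
    have h := (Φ.K_t hy).map (MulAut.conj Φ.m).toMonoidHom
    simpa [Φ.m_t] using h
  have hzt : Commute z t := by
    have h := ((Φ.K_t hy).mul_right (Φ.K_v hy)).map (MulAut.conj Φ.m).toMonoidHom
    simpa [Φ.m_tv] using h
  have hW := Φ.mem_W_of_odd (x := z) (ho.symm ▸ Φ.K_odd hy) hzt hzv
  exact Φ.W_inter hW (Φ.mem_E0_of_coprime (Φ.W_E hW) (ho.symm ▸ Φ.K_coprime hy))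

theorem conjPow_K {y : G} (hy : y ∈ Φ.K) : ∀ i : ℕ, Φ.m ^ i * y * (Φ.m ^ i)⁻¹ ∈ Φ.K
  | 0 => by simpa using hy
  | i + 1 => by
    rw [pow_succ', show Φ.m * Φ.m ^ i * y * (Φ.m * Φ.m ^ i)⁻¹ = Φ.m * (Φ.m ^ i * y * (Φ.m ^ i)⁻¹) * Φ.m⁻¹ by group]
    exact Φ.conj_K (conjPow_K hy i)

/-- The centralizer of a nontrivial element of `K` in `C(t)`. -/
theorem cen_K {y x : G} (hy : y ∈ Φ.K) (hy1 : y ≠ 1) (hxt : Commute x t) (hxy : Commute x y) :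
    ∃ w ∈ Φ.V, ∃ d ∈ Φ.W, Commute d y ∧ x = w * d := by
  have hxv : Commute x Φ.v := by
    obtain ⟨e, he, r | r⟩ := Φ.split x hxt
    · exact r ▸ Φ.cen_y y hy hy1 e he (r ▸ hxy)
    · have hey : Commute e y := by
        have := (Φ.K_t hy).symm.inv_left.mul_left (r ▸ hxy)
        rwa [inv_mul_cancel_left] at this
      exact r ▸ Φ.tv.mul_left (Φ.cen_y y hy hy1 e he hey)
  obtain ⟨w, hw, y', hy', p, hp, r⟩ := Φ.cen hxt hxv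
  rcases r with r | r
  · refine ⟨w, hw, y' * p, Φ.mul_mem_W hy' hp, ?_, r⟩
    have := (Φ.V_comm_K hw hy).inv_left.mul_left (r ▸ hxy)
    rwa [inv_mul_cancel_left] at this
  · exfalso
    have hc : Commute (Φ.b * (y' * p)) y := by
      have := (Φ.V_comm_K hw hy).inv_left.mul_left (r ▸ hxy)
      rwa [inv_mul_cancel_left] at this
    set z := p * y * p⁻¹ with hz
    have hzK : z ∈ Φ.K := Φ.conj_K_Phi hy hp
    have hzy : z⁻¹ = y := by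
      have h := mul_inv_eq_iff_eq_mul.2 hc.eq
      rw [show Φ.b * (y' * p) * y * (Φ.b * (y' * p))⁻¹ = Φ.b * (y' * z * y'⁻¹) * Φ.b⁻¹ by rw [hz]; group,
        (Φ.K_comm hy' hzK).eq, mul_inv_cancel_right, Φ.inv z hzK] at h
      exact h
    have hz' : z = y⁻¹ := by rw [← hzy, inv_inv]
    obtain ⟨j, hj⟩ := Φ.Phi_odd p hp
    have hj' : ∀ i : ℕ, p ^ (2 * i) * y * (p ^ (2 * i))⁻¹ = y := by
      intro i
      induction i with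
      | zero => simp
      | succ i ih =>
        rw [show 2 * (i + 1) = 2 + 2 * i by ring, pow_add,
          show p ^ 2 * p ^ (2 * i) * y * (p ^ 2 * p ^ (2 * i))⁻¹ =
            p ^ 2 * (p ^ (2 * i) * y * (p ^ (2 * i))⁻¹) * (p ^ 2)⁻¹ by group, ih,
          show p ^ 2 * y * (p ^ 2)⁻¹ = p * (p * y * p⁻¹) * p⁻¹ by rw [pow_two]; group, ← hz, hz', ← conj_inv, ← hz, hz', inv_inv]
    have h := hj' j
    have hp1 : p ^ (2 * j) = p⁻¹ := eq_inv_of_mul_eq_one_left (by rw [← pow_succ, ← hj, pow_orderOf_eq_one])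
    rw [hp1, inv_inv] at h
    have h2 : z = y := by
      rw [hz]
      nth_rw 1 [← h]
      group
    refine hy1 (eq_one_of_odd_sq (Φ.K_odd hy) ?_)
    nth_rw 2 [← h2]
    rw [hz', mul_inv_cancel]

/-- The centralizer of a nontrivial element of `V` and one of `K`. -/
theorem cen_four {y x w : G} (hy : y ∈ Φ.K) (hy1 : y ≠ 1) (hw : w ∈ Φ.V) (hw1 : w ≠ 1) (hxw : Commute x w)
    (hxy : Commute x y) : ∃ u ∈ Φ.V, ∃ d ∈ Φ.W, Commute d y ∧ x = u * d := by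
  obtain ⟨i, hi, rfl⟩ := Φ.exists_pow_t hw hw1
  set c := Φ.m ^ i with hc
  have hci : c⁻¹ = Φ.m ^ (3 - i) := Φ.m_pow_inv hi
  have hy' : c⁻¹ * y * c ∈ Φ.K := by
    have := Φ.conjPow_K hy (3 - i)
    rwa [← hci, inv_inv] at this
  obtain ⟨u, hu, d, hd, hdy, he⟩ := Φ.cen_K hy' (fun e => hy1 (by
    rw [show y = c * (c⁻¹ * y * c) * c⁻¹ by group, e]; group)) (x := c⁻¹ * x * c) (by
      have := hxw.map (MulAut.conj c⁻¹).toMonoidHom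
      simpa [mul_assoc] using this) (by
      have := hxy.map (MulAut.conj c⁻¹).toMonoidHom
      simpa [mul_assoc] using this)
  refine ⟨c * u * c⁻¹, Φ.conjPow_V hu i, c * d * c⁻¹, ?_, ?_, ?_⟩
  · have ho : orderOf (c * d * c⁻¹) = orderOf d := (MulAut.conj c).orderOf_eq d
    have h1 : ∀ z ∈ Φ.V, Commute (c * d * c⁻¹) z := fun z hz => by
      have hz' : c⁻¹ * z * c ∈ Φ.V := by
        have := Φ.conjPow_V hz (3 - i)
        rwa [← hci, inv_inv] at this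
      have := ((Φ.V_comm_W hz' hd).symm).map (MulAut.conj c).toMonoidHom
      simpa [mul_assoc] using this
    exact Φ.mem_W_of_odd (ho.symm ▸ Φ.W_odd hd) (h1 t Φ.t_mem) (h1 _ Φ.v_mem)
  · have := hdy.map (MulAut.conj c).toMonoidHom
    simpa [mul_assoc] using this
  · rw [show x = c * (c⁻¹ * x * c) * c⁻¹ by group, he]; group

/-- A 2-element normalising `V` centralizes it. -/
theorem two_centralizes {u : G} (hu : IsTwoEl u) (hn : ∀ w ∈ Φ.V, u * w * u⁻¹ ∈ Φ.V) :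
    Commute u t ∧ Commute u Φ.v := by
  haveI : Fact (Nat.Prime 2) := ⟨Nat.prime_two⟩
  have h2 : IsPGroup 2 Φ.V := fun w => ⟨1, Subtype.ext (by rw [pow_one, pow_two]; exact Φ.V_sq w.2)⟩
  have hn' : zpowers u ≤ normalizer (Φ.V : Set G) :=
    zpowers_le.2 (Cfsg.Lib.ZStarApps.mem_normalizer_of_maps hn)
  obtain ⟨S, hS⟩ := (hu.isPGroup.to_sup_of_normal_right' h2 hn').exists_le_sylow
  haveI := Φ.ab S
  have hc : ∀ w ∈ Φ.V, Commute u w := fun w hw =>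
    congrArg Subtype.val (mul_comm' (⟨u, hS (mem_sup_left (mem_zpowers u))⟩ : (S : Subgroup G))
      ⟨w, hS (mem_sup_right hw)⟩)
  exact ⟨hc t Φ.t_mem, hc _ Φ.v_mem⟩

/-- The normalizer of `V`. -/
theorem norm_V {g : G} (hg : ∀ w ∈ Φ.V, g * w * g⁻¹ ∈ Φ.V) :
    ∃ i < 3, ∃ w ∈ Φ.V, ∃ y ∈ Φ.K, ∃ p ∈ Φ.Phi,
      g = Φ.m ^ i * (w * (y * p)) ∨ g = Φ.m ^ i * (w * (Φ.b * (y * p))) := by
  obtain ⟨i, hi, e⟩ := Φ.exists_pow_t (hg t Φ.t_mem) (fun e => Φ.t_ne (by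
    rwa [mul_inv_eq_one, mul_eq_left] at e))
  set x := (Φ.m ^ i)⁻¹ * g with hx
  have hci := Φ.m_pow_inv hi
  have hxV : ∀ w ∈ Φ.V, x * w * x⁻¹ ∈ Φ.V := fun w hw => by
    have := Φ.conjPow_V (hg w hw) (3 - i)
    rw [← hci] at this
    rwa [hx, show (Φ.m ^ i)⁻¹ * g * w * ((Φ.m ^ i)⁻¹ * g)⁻¹ = (Φ.m ^ i)⁻¹ * (g * w * g⁻¹) * (Φ.m ^ i)⁻¹⁻¹ by group]
  have hxt : x * t * x⁻¹ = t := by
    rw [hx, show (Φ.m ^ i)⁻¹ * g * t * ((Φ.m ^ i)⁻¹ * g)⁻¹ = (Φ.m ^ i)⁻¹ * (g * t * g⁻¹) * Φ.m ^ i by group, ← e]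
    group
  have hct : Commute x t := mul_inv_eq_iff_eq_mul.1 hxt
  have hxE : x * Φ.v * x⁻¹ ∈ E₀ := by
    obtain ⟨e, he, r | r⟩ := Φ.split x hct
    · exact r ▸ Φ.norm₀ e he _ Φ.vE
    · rw [r, show t * e * Φ.v * (t * e)⁻¹ = t * (e * Φ.v * e⁻¹) * t⁻¹ by group,
        (Φ.t_comm _ (Φ.le (Φ.norm₀ e he _ Φ.vE))).eq, mul_inv_cancel_right]
      exact Φ.norm₀ e he _ Φ.vE
  have hcv : Commute x Φ.v := by
    refine mul_inv_eq_iff_eq_mul.1 ?_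
    rcases hxV _ Φ.v_mem with h | h | h | h
    · exact absurd (conj_eq_one_iff.1 h) Φ.v_ne_one
    · exact absurd ((MulAut.conj x).injective (h.trans hxt.symm)) Φ.v_ne
    · exact h
    · refine absurd ?_ Φ.t_not
      rw [show t = t * Φ.v * Φ.v⁻¹ by group, ← h]
      exact Φ.le (mul_mem hxE (inv_mem Φ.vE))
  obtain ⟨w, hw, y, hy, p, hp, r⟩ := Φ.cen hct hcv
  refine ⟨i, hi, w, hw, y, hy, p, hp, ?_⟩
  rcases r with r | r
  · exact Or.inl (by rw [← r, hx, mul_inv_cancel_left])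
  · exact Or.inr (by rw [← r, hx, mul_inv_cancel_left])

/-- The normalizer of `V` normalises `K`. -/
theorem norm_K {g y : G} (hg : ∀ w ∈ Φ.V, g * w * g⁻¹ ∈ Φ.V) (hy : y ∈ Φ.K) : g * y * g⁻¹ ∈ Φ.K := by
  obtain ⟨i, -, w, hw, y', hy', p, hp, r⟩ := Φ.norm_V hg
  have h1 : p * y * p⁻¹ ∈ Φ.K := Φ.conj_K_Phi hy hp
  have h2 : y' * p * y * (y' * p)⁻¹ ∈ Φ.K := by
    rw [show y' * p * y * (y' * p)⁻¹ = y' * (p * y * p⁻¹) * y'⁻¹ by group]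
    exact mul_mem (mul_mem hy' h1) (inv_mem hy')
  rcases r with r | r <;> rw [r]
  · rw [show Φ.m ^ i * (w * (y' * p)) * y * (Φ.m ^ i * (w * (y' * p)))⁻¹ =
      Φ.m ^ i * (w * (y' * p * y * (y' * p)⁻¹) * w⁻¹) * (Φ.m ^ i)⁻¹ by group, (Φ.V_comm_K hw h2).eq,
      mul_inv_cancel_right]
    exact Φ.conjPow_K h2 i
  · rw [show Φ.m ^ i * (w * (Φ.b * (y' * p))) * y * (Φ.m ^ i * (w * (Φ.b * (y' * p))))⁻¹ =
      Φ.m ^ i * (w * (Φ.b * (y' * p * y * (y' * p)⁻¹) * Φ.b⁻¹) * w⁻¹) * (Φ.m ^ i)⁻¹ by group,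
      (Φ.V_comm_K hw (Φ.conj_b_K h2)).eq, mul_inv_cancel_right]
    exact Φ.conjPow_K (Φ.conj_b_K h2) i

/-- The centralizers of the nontrivial elements of `K` normalise `V`. -/
theorem tame (hfaith : ∀ p ∈ Φ.Phi, (∀ y ∈ Φ.K, Commute p y) → p = 1)
    (hmov : ∀ p ∈ Φ.Phi, p ^ 3 = 1 → ∃ y ∈ Φ.K, Commute p y ∧ ¬ Commute Φ.m y) :
    ∀ y ∈ Φ.K, y ≠ 1 → ∀ x : G, Commute x y → ∀ w ∈ Φ.V, x * w * x⁻¹ ∈ Φ.V := by
  classical
  intro y hy hy1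
  haveI : Fact (Nat.Prime 2) := ⟨Nat.prime_two⟩
  set C := centralizer ({y} : Set G) with hC
  have hmemC : ∀ {x : G}, x ∈ C ↔ Commute x y := fun {x} => mem_centralizer_singleton_iff
  have hVC : ∀ {w : G}, w ∈ Φ.V → w ∈ C := fun hw => hmemC.2 (Φ.V_comm_K hw hy)
  have hKC : ∀ {z : G}, z ∈ Φ.K → z ∈ C := fun hz => hmemC.2 (Φ.K_comm hz hy)
  set a : C := ⟨t, hVC Φ.t_mem⟩ with ha
  set c : C := ⟨Φ.v, hVC Φ.v_mem⟩ with hc
  have hfour : ∀ w : C, InFour a c w ↔ (w : G) ∈ Φ.V := fun w => by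
    simp only [InFour, Subtype.ext_iff, Subgroup.coe_mul, Subgroup.coe_one]
    rfl
  have habC : ∀ S : Sylow 2 C, IsMulCommutative ↥(S : Subgroup C) := by
    intro S
    obtain ⟨P, hP⟩ := (S.isPGroup'.map C.subtype).exists_le_sylow
    haveI := Φ.ab P
    refine ⟨⟨fun u u' => ?_⟩⟩
    have h := congrArg Subtype.val (mul_comm' (⟨u.1.1, hP ⟨u.1, u.2, rfl⟩⟩ : (P : Subgroup G))
      ⟨u'.1.1, hP ⟨u'.1, u'.2, rfl⟩⟩)
    exact Subtype.ext (Subtype.ext h)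
  rcases four_cases (D := Φ.W.subgroupOf C) (a := a) (c := c) ((Subgroup.orderOf_mk _ _).trans Φ.t_ord)
      ((Subgroup.orderOf_mk _ _).trans Φ.v_ord) (fun e => Φ.v_ne (congrArg Subtype.val e)) (Subtype.ext Φ.tv.eq) habC
      (fun d hd => by rw [← Subgroup.orderOf_coe]; exact Φ.W_odd hd)
      (fun d hd => ⟨Subtype.ext (Φ.W_t hd).eq, Subtype.ext (Φ.W_v hd).eq⟩) (fun u hu hu1 x hx => by
        obtain ⟨w, hw, d, hd, hdy, he⟩ := Φ.cen_four hy hy1 ((hfour u).1 hu)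
          (fun e => hu1 (Subtype.ext e)) (congrArg Subtype.val hx) (hmemC.1 x.2)
        exact ⟨⟨w, hVC hw⟩, (hfour _).2 hw, ⟨d, hmemC.2 hdy⟩, hd, Subtype.ext he⟩)
    with h | ⟨hO, x, hxa, hxc, hM⟩
  · intro x hx w hw
    exact (hfour _).1 (h ⟨x, hmemC.2 hx⟩ ⟨w, hVC hw⟩ ((hfour _).2 hw))
  · exfalso
    haveI hOn : (Φ.W.subgroupOf C).Normal :=
      hO ▸ Cfsg.Lib.Components.normal_of_mem_sSup_normal fun _ h => h.1
    haveI : (Φ.K.subgroupOf C).Normal := ⟨fun z hz g => by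
      have hW : ((g * z * g⁻¹ : C) : G) ∈ Φ.W := hOn.conj_mem z (mem_subgroupOf.2 (Φ.K_le_W hz)) g
      refine mem_subgroupOf.2 (Φ.W_inter hW (Φ.mem_E0_of_coprime (Φ.W_E hW) ?_))
      rw [show orderOf ((g * z * g⁻¹ : C) : G) = orderOf (z : G) from (MulAut.conj (g : G)).orderOf_eq (z : G)]
      exact Φ.K_coprime hz⟩
    set M : Subgroup C := centralizer ((Φ.K.subgroupOf C : Subgroup C) : Set C) with hMdef
    have hxM := hM M Subgroup.normal_centralizer (mem_centralizer_iff.2 fun z hz => Subtype.ext (Φ.K_t hz).eq)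
    rw [← SetLike.mem_coe, mul_normal M (Φ.W.subgroupOf C)] at hxM
    obtain ⟨g, hg, d, hd, rfl⟩ := hxM
    have hdW : (d : G) ∈ Φ.W := hd
    have hd1 : ∀ w ∈ Φ.V, (d : G) * w * (d : G)⁻¹ = w := fun w hw => by
      rw [(Φ.V_comm_W hw hdW).symm.eq, mul_inv_cancel_right]
    have hgt : (g : G) * t * (g : G)⁻¹ = Φ.v := by
      have := congrArg Subtype.val hxa
      simp only [Subgroup.coe_mul, Subgroup.coe_inv, ha, hc] at this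
      rwa [show (g : G) * d * t * ((g : G) * d)⁻¹ = g * (d * t * (d : G)⁻¹) * (g : G)⁻¹ by group, hd1 t Φ.t_mem] at this
    have hgv : (g : G) * Φ.v * (g : G)⁻¹ = t * Φ.v := by
      have := congrArg Subtype.val hxc
      simp only [Subgroup.coe_mul, Subgroup.coe_inv, ha, hc] at this
      rwa [show (g : G) * d * Φ.v * ((g : G) * d)⁻¹ = g * (d * Φ.v * (d : G)⁻¹) * (g : G)⁻¹ by group,
        hd1 _ Φ.v_mem] at this
    have hgK : ∀ z ∈ Φ.K, (g : G) * z * (g : G)⁻¹ = z := fun z hz => by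
      have h := congrArg Subtype.val (mem_centralizer_iff.1 hg ⟨z, hKC hz⟩ (mem_subgroupOf.2 hz))
      simp only [Subgroup.coe_mul] at h
      rw [← h, mul_inv_cancel_right]
    have hgV : ∀ w ∈ Φ.V, (g : G) * w * (g : G)⁻¹ ∈ Φ.V := by
      rintro w (rfl | rfl | rfl | rfl)
      · simp
      · rw [hgt]; exact Φ.v_mem
      · rw [hgv]; exact Φ.tv_mem
      · rw [show (g : G) * (t * Φ.v) * (g : G)⁻¹ = (g * t * (g : G)⁻¹) * (g * Φ.v * (g : G)⁻¹) by group, hgt, hgv]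
        exact mul_mem Φ.v_mem Φ.tv_mem
    obtain ⟨i, hi, w, hw, y', hy', p, hp, r⟩ := Φ.norm_V hgV
    -- the action on `K`
    have hact : ∀ z ∈ Φ.K, (w * (y' * p)) * z * (w * (y' * p))⁻¹ = p * z * p⁻¹ := fun z hz => by
      have hz' := Φ.conj_K_Phi hz hp
      rw [show w * (y' * p) * z * (w * (y' * p))⁻¹ = w * (y' * (p * z * p⁻¹) * y'⁻¹) * w⁻¹ by group,
        (Φ.K_comm hy' hz').eq, mul_inv_cancel_right, (Φ.V_comm_K hw hz').eq, mul_inv_cancel_right]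
    have hfix : ∀ u : G, Commute u t → Φ.m ^ i * u * t * (Φ.m ^ i * u)⁻¹ = Φ.v → i = 1 := fun u hu h => by
      refine Φ.m_fix_one hi ?_
      rw [← h, show Φ.m ^ i * u * t * (Φ.m ^ i * u)⁻¹ = Φ.m ^ i * (u * t * u⁻¹) * (Φ.m ^ i)⁻¹ by group, hu.eq,
        mul_inv_cancel_right]
    have hwW : Commute (w * (y' * p)) t := (Φ.V_comm hw Φ.t_mem).mul_left (Φ.W_t (Φ.mul_mem_W hy' hp))
    have hmi : ∀ {u : G}, u ∈ Φ.K → Φ.m⁻¹ * u * Φ.m ∈ Φ.K := fun {u} hu => by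
      have := Φ.conjPow_K hu 2
      rwa [← Φ.m_inv, inv_inv] at this
    have hm3 := Φ.m3
    rcases r with r | r
    · have hi1 := hfix _ hwW (r ▸ hgt)
      subst hi1
      have hpm : ∀ z ∈ Φ.K, p * z * p⁻¹ = Φ.m⁻¹ * z * Φ.m := fun z hz => by
        have h := hgK z hz
        rw [r, pow_one, show Φ.m * (w * (y' * p)) * z * (Φ.m * (w * (y' * p)))⁻¹ =
          Φ.m * (w * (y' * p) * z * (w * (y' * p))⁻¹) * Φ.m⁻¹ by group, hact z hz] at h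
        rw [← congrArg (fun u => Φ.m⁻¹ * u * Φ.m) h]
        group
      have hp3 : p ^ 3 = 1 := hfaith _ (pow_mem hp 3) fun z hz => by
        refine mul_inv_eq_iff_eq_mul.1 ?_
        rw [show p ^ 3 * z * (p ^ 3)⁻¹ = p * (p * (p * z * p⁻¹) * p⁻¹) * p⁻¹ by rw [pow_succ, pow_two]; group, hpm z hz,
          hpm _ (hmi hz), hpm _ (hmi (hmi hz)),
          show Φ.m⁻¹ * (Φ.m⁻¹ * (Φ.m⁻¹ * z * Φ.m) * Φ.m) * Φ.m =
            (Φ.m * Φ.m * Φ.m)⁻¹ * z * (Φ.m * Φ.m * Φ.m) by group, hm3]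
        group
      obtain ⟨y₁, hy₁, hc1, hnc⟩ := hmov p hp hp3
      refine hnc (mul_inv_eq_iff_eq_mul.1 ?_)
      have h := hpm y₁ hy₁
      rw [hc1.eq, mul_inv_cancel_right] at h
      nth_rw 1 [h]
      group
    · have hwW' : Commute (w * (Φ.b * (y' * p))) t :=
        (Φ.V_comm hw Φ.t_mem).mul_left ((Φ.tb.symm).mul_left (Φ.W_t (Φ.mul_mem_W hy' hp)))
      have hi1 := hfix _ hwW' (r ▸ hgt)
      subst hi1
      have hpm : ∀ z ∈ Φ.K, p * z * p⁻¹ = Φ.m⁻¹ * z⁻¹ * Φ.m := fun z hz => by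
        have h := hgK z hz
        have hz' := Φ.conj_K_Phi hz hp
        have hact' : w * (Φ.b * (y' * p)) * z * (w * (Φ.b * (y' * p)))⁻¹ = (p * z * p⁻¹)⁻¹ := by
          rw [show w * (Φ.b * (y' * p)) * z * (w * (Φ.b * (y' * p)))⁻¹ =
            w * (Φ.b * (y' * (p * z * p⁻¹) * y'⁻¹) * Φ.b⁻¹) * w⁻¹ by group, (Φ.K_comm hy' hz').eq,
            mul_inv_cancel_right, Φ.inv _ hz', (Φ.V_comm_K hw (inv_mem hz')).eq, mul_inv_cancel_right]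
        rw [r, pow_one, show Φ.m * (w * (Φ.b * (y' * p))) * z * (Φ.m * (w * (Φ.b * (y' * p))))⁻¹ =
          Φ.m * (w * (Φ.b * (y' * p)) * z * (w * (Φ.b * (y' * p)))⁻¹) * Φ.m⁻¹ by group, hact'] at h
        rw [← congrArg (fun u => Φ.m⁻¹ * u⁻¹ * Φ.m) h]
        group
      have h3 : ∀ z ∈ Φ.K, p ^ 3 * z * (p ^ 3)⁻¹ = z⁻¹ := fun z hz => by
        rw [show p ^ 3 * z * (p ^ 3)⁻¹ = p * (p * (p * z * p⁻¹) * p⁻¹) * p⁻¹ by rw [pow_succ, pow_two]; group, hpm z hz,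
          hpm _ (hmi (inv_mem hz)),
          hpm _ (hmi (inv_mem (hmi (inv_mem hz)))),
          show Φ.m⁻¹ * (Φ.m⁻¹ * (Φ.m⁻¹ * z⁻¹ * Φ.m)⁻¹ * Φ.m)⁻¹ * Φ.m =
            (Φ.m * Φ.m * Φ.m)⁻¹ * z⁻¹ * (Φ.m * Φ.m * Φ.m) by simp only [mul_inv_rev, inv_inv, mul_assoc], hm3]
        group
      have hp6 : p ^ 3 * p ^ 3 = 1 := hfaith _ (mul_mem (pow_mem hp 3) (pow_mem hp 3)) fun z hz => by
        refine mul_inv_eq_iff_eq_mul.1 ?_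
        rw [show p ^ 3 * p ^ 3 * z * (p ^ 3 * p ^ 3)⁻¹ = p ^ 3 * (p ^ 3 * z * (p ^ 3)⁻¹) * (p ^ 3)⁻¹ by group,
          h3 z hz, h3 _ (inv_mem hz), inv_inv]
      have hp3 : p ^ 3 = 1 := eq_one_of_odd_sq (Φ.Phi_odd _ (pow_mem hp 3)) hp6
      have := h3 y hy
      rw [hp3, one_mul, inv_one, mul_one] at this
      exact hy1 (eq_one_of_odd_sq (Φ.K_odd hy) (eq_inv_iff_mul_eq_one.1 this))

/-- The involutions centralizing a nontrivial element of `K`. -/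
theorem mem_V_of_sq (htame : ∀ y ∈ Φ.K, y ≠ 1 → ∀ x : G, Commute x y → ∀ w ∈ Φ.V, x * w * x⁻¹ ∈ Φ.V)
    {y x : G} (hy : y ∈ Φ.K) (hy1 : y ≠ 1) (hxy : Commute x y) (hx : x * x = 1) : x ∈ Φ.V := by
  have h2 : IsTwoEl x := ⟨1, by rw [pow_one, pow_two]; exact hx⟩
  obtain ⟨ht, -⟩ := Φ.two_centralizes h2 (htame y hy hy1 x hxy)
  obtain ⟨w, hw, d, hd, -, rfl⟩ := Φ.cen_K hy hy1 ht hxy
  rw [show w * d * (w * d) = w * (d * w) * d by group, ← (Φ.V_comm_W hw hd).eq, ← mul_assoc, Φ.V_sq hw, one_mul] at hx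
  rw [eq_one_of_odd_sq (Φ.W_odd hd) hx, mul_one]
  exact hw

/-- An element taking a nontrivial element of `K` into `K` normalises `V`. -/
theorem norm_of_conj (htame : ∀ y ∈ Φ.K, y ≠ 1 → ∀ x : G, Commute x y → ∀ w ∈ Φ.V, x * w * x⁻¹ ∈ Φ.V)
    {y g : G} (hy : y ∈ Φ.K) (hy1 : y ≠ 1) (hg : g * y * g⁻¹ ∈ Φ.K) : ∀ w ∈ Φ.V, g * w * g⁻¹ ∈ Φ.V := by
  intro w hw
  refine Φ.mem_V_of_sq htame hg (fun e => hy1 (conj_eq_one_iff.1 e)) ?_ ?_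
  · exact (Φ.V_comm_K hw hy).map (MulAut.conj g).toMonoidHom
  · rw [_root_.conj_mul, Φ.V_sq hw, mul_one, mul_inv_cancel]

end Finite

end TFrame

end Cfsg.Lib.Ree.Three
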