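import Cfsg.Agent.Ree.Three.FuncE

/-!
The sums of `(θ - 1) ζ` against the twists of the functions of the principal block of `E`, on `K⟨z⟩`.
-/

set_option autoImplicit false
set_option linter.style.haveILetI false
set_option linter.unusedSectionVars false

namespace Cfsg.Lib.Ree.Three

open Subgroup Cfsg Cfsg.Lib.Chars Cfsg.Lib.Ree
open scoped ComplexConjugate

universe u

attribute [local instance 10] _root_.Classical.propDecidable

variable {G : Type u} [Group G] [Fintype G] {t : G} {E E₀ : Subgroup G} [Fintype E] {k : ℕ}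

namespace TFrame

variable (Φ : TFrame t E E₀ k)

/-- The sum against a function of `E`. -/
noncomputable def secSum {z : G} (hz : z ∈ Φ.Phi) (θ : Φ.K →* ℂˣ) (ν ρ : Φ.Phi →* ℂˣ) (g : E → ℂ) : ℂ :=
  ∑ y : Φ.K, ∑ q : zpowers z,
    conj ((θ y : ℂ) - 1) * (conj (Φ.res hz ν q : ℂ) * (Φ.res hz ρ q : ℂ)) * g (Φ.eW hz y q)

variable {z : G} (hz : z ∈ Φ.Phi) {θ : Φ.K →* ℂˣ}

theorem secSum_congr (ν ρ : Φ.Phi →* ℂˣ) {g g' : E → ℂ}
    (h : ∀ y q, θ y ≠ 1 → g (Φ.eW hz y q) = g' (Φ.eW hz y q)) :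
    Φ.secSum hz θ ν ρ g = Φ.secSum hz θ ν ρ g' := by
  refine Finset.sum_congr rfl fun y _ => Finset.sum_congr rfl fun q _ => ?_
  by_cases hy : θ y = 1
  · simp [hy]
  · rw [h y q hy]

theorem secSum_one (hθ1 : θ ≠ 1) (ν ρ : Φ.Phi →* ℂˣ) :
    Φ.secSum hz θ ν ρ (fun _ => 1) =
      if Φ.res hz ρ = Φ.res hz ν then -((k : ℂ) * (orderOf z : ℂ)) else 0 := by
  simp only [secSum, mul_one, ← Finset.mul_sum, ← Finset.sum_mul]
  rw [sum_sub_one hθ1, sum_pair_lin, Φ.card_K, Nat.card_zpowers]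
  split_ifs <;> ring

theorem secSum_add (ν ρ : Φ.Phi →* ℂˣ) (g g' : E → ℂ) :
    Φ.secSum hz θ ν ρ (fun u => g u + g' u) = Φ.secSum hz θ ν ρ g + Φ.secSum hz θ ν ρ g' := by
  simp only [secSum, mul_add, Finset.sum_add_distrib]

theorem secSum_smul (ν ρ : Φ.Phi →* ℂˣ) (a : ℂ) (g : E → ℂ) :
    Φ.secSum hz θ ν ρ (fun u => a * g u) = a * Φ.secSum hz θ ν ρ g := by
  simp only [secSum, Finset.mul_sum]
  exact Finset.sum_congr rfl fun _ _ => Finset.sum_congr rfl fun _ _ => by ring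

variable {F : Type} [Field F] [Fintype F] (S : Twist.Setting t E E₀ F)
  (hq : ∃ n, Fintype.card F = 3 ^ n) (h8 : Fintype.card F % 8 = 3) (hk : 4 * k = Fintype.card F + 1)

include S hq hk in
/-- A nontrivial element of `K` normalises no Sylow `3`-subgroup of `E₀`. -/
theorem not_normalize {y : G} (hy : y ∈ Φ.K) (hy1 : y ≠ 1) (P : Sylow 3 ↥E₀) :
    y ∉ normalizer ((((P : Subgroup ↥E₀).map E₀.subtype) : Subgroup G) : Set G) := by
  classical
  obtain ⟨n, hn⟩ := hq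
  haveI : Fact (Nat.Prime 3) := ⟨Nat.prime_three⟩
  letI := Fintype.ofFinite E₀
  intro h
  obtain ⟨f⟩ := S.hyp.iso
  have hv : orderOf (⟨Φ.v, Φ.vE⟩ : E₀) = 2 := (Subgroup.orderOf_mk _ _).trans Φ.v_ord
  obtain ⟨hcard, -⟩ := Twist.psl_points S.hyp.odd S.five f hn hv
  set y' : E₀ := ⟨y, Φ.K_E0 hy⟩
  have hmem : y' ∈ normalizer ((P : Subgroup E₀) : Set E₀) := by
    rw [mem_normalizer_iff]
    intro x
    have hx := (mem_normalizer_iff.1 h) (x : G)
    constructor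
    · intro hxP
      obtain ⟨w, hw, he⟩ := hx.1 ⟨x, hxP, rfl⟩
      rwa [show w = y' * x * y'⁻¹ from Subtype.ext (by simpa [y'] using he)] at hw
    · intro hxP
      obtain ⟨w, hw, he⟩ := hx.2 ⟨y' * x * y'⁻¹, hxP, by simp [y']⟩
      rwa [show w = x from Subtype.ext he] at hw
  have ho : orderOf y ∣ Nat.card ↥(normalizer ((P : Subgroup E₀) : Set E₀)) :=
    (Subgroup.orderOf_coe y').symm ▸ Subgroup.orderOf_dvd_natCard _ hmem
  have hN := Subgroup.card_mul_index (normalizer ((P : Subgroup E₀) : Set E₀))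
  rw [show (normalizer ((P : Subgroup E₀) : Set E₀)).index = Nat.card (Sylow 3 E₀) from
    (Sylow.card_eq_index_normalizer P).symm, hcard] at hN
  have h2 := (PSL.involution_centralizer S.hyp.odd
    (show orderOf (f ⟨Φ.v, Φ.vE⟩) = 2 by rw [f.orderOf_eq, hv])).1
  rw [← Nat.card_congr f.toEquiv, ← hN] at h2
  set q := Fintype.card F
  set c := Nat.card ↥(normalizer ((P : Subgroup E₀) : Set E₀))
  have hq2 : q * q - 1 = (q - 1) * (q + 1) := by
    obtain ⟨m, hm⟩ : ∃ m, q = m + 1 := ⟨q - 1, by omega⟩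
    rw [hm, Nat.add_sub_cancel, show (m + 1) * (m + 1) = m * (m + 1 + 1) + 1 by ring, Nat.add_sub_cancel]
  have h2c : 2 * c = q * (q - 1) :=
    Nat.eq_of_mul_eq_mul_right (by omega : 0 < q + 1) (by rw [mul_assoc, h2, hq2, mul_assoc])
  have hok : orderOf y ∣ k :=
    Φ.card_K.subst (motive := fun n => orderOf y ∣ n) (Subgroup.orderOf_dvd_natCard _ hy)
  have hk1 : 1 ≤ k := by have := Φ.k_three; omega
  have he : q * (q - 1) = k * (16 * k - 12) + 2 := by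
    obtain ⟨j, rfl⟩ : ∃ j, k = j + 1 := ⟨k - 1, by omega⟩
    rw [show q = 4 * j + 3 by omega, show 4 * j + 3 - 1 = 4 * j + 2 by omega,
      show 16 * (j + 1) - 12 = 16 * j + 4 by omega]
    ring
  have ho2 : orderOf y ∣ 2 :=
    (Nat.dvd_add_right (hok.mul_right (16 * k - 12))).1 (he ▸ h2c ▸ ho.mul_left 2)
  exact hy1 (orderOf_eq_one_iff.1 (Nat.eq_one_of_dvd_coprimes
    (Nat.coprime_two_left.2 Φ.k_odd) ho2 hok))

variable {M : Ideal AlgInt} {T : Twist.KTable E M} (P : Field.TwistFacts t E E₀ F T) (hθ : Φ.Fixed z θ)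

include S hq h8 hk P hθ in
/-- On the support the Steinberg member is `1`. -/
theorem ps_supp (y : Φ.K) (q : zpowers z) (hy : θ y ≠ 1) :
    T.ps 1 (Φ.eW hz y q) = 1 ∧ T.A (Φ.eW hz y q) + T.B (Φ.eW hz y q) = 2 := by
  have h1 : T.ps 1 (Φ.eW hz y q) = 1 := by
    obtain ⟨n, hn⟩ := hq
    rw [P.steinberg 3 n Nat.prime_three hn, Field.cardSign, if_neg (by omega)]
    obtain ⟨hK, hne⟩ := Φ.pow_supp hz hθ ((1, y), q) hy
    have h0 : Field.fixCount E₀ 3 (Φ.eW hz y q : G) = 0 := by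
      haveI : IsEmpty {P : Sylow 3 ↥E₀ //
          (Φ.eW hz y q : G) ∈ normalizer ((((P : Subgroup ↥E₀).map E₀.subtype) : Subgroup G) : Set G)} :=
        ⟨fun P => Φ.not_normalize S ⟨n, hn⟩ hk hK hne P.1 (pow_mem (by
          simpa [pnt, emb_apply, eW] using P.2) _)⟩
      exact Nat.card_of_isEmpty
    rw [h0]; norm_num
  refine ⟨h1, ?_⟩
  have hr := T.regular (Φ.eW hz y q) (Nat.two_dvd_ne_zero.2 (Nat.odd_iff.1 (Φ.eW_odd hz y q)))
  rw [Fin.sum_univ_four] at hr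
  change T.ps 0 _ + T.ps 1 _ + T.ps 2 _ + T.ps 3 _ = 0 at hr
  rw [congrFun T.ps_zero, h1] at hr
  simp only [Twist.KTable.A, Twist.KTable.B, Pi.neg_apply]
  linear_combination -hr

include hθ in
/-- The multiplicity at a twisted member. -/
theorem mE_member (ν ρ : Φ.Phi →* ℂˣ) (i : Fin 4) :
    (T.sg i : ℂ) * Φ.mE hz θ ν (Twist.twistIrr (Φ.mu ρ) (T.mem i)) =
      (2 * (k : ℂ) * (orderOf z : ℂ))⁻¹ *
        (Φ.secSum hz θ ν ρ (T.ps i) - Φ.secSum hz θ ν ρ (fun _ => 1)) := by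
  rw [mE, Φ.card_domE, mul_left_comm]
  congr 1
  rw [Finset.mul_sum, Fintype.sum_prod_type, Fintype.sum_prod_type,
    show (Finset.univ : Finset ℤˣ) = {1, -1} by decide, Finset.sum_pair (by decide), sub_eq_add_neg]
  congr 1
  · refine Finset.sum_congr rfl fun y _ => Finset.sum_congr rfl fun q _ => ?_
    show (T.sg i : ℂ) * ((Φ.mu ρ (Φ.ptE hz ((1, y), q)) : ℂ) * (T.mem i : E → ℂ) (Φ.ptE hz ((1, y), q)) *
      conj (Φ.valE hz θ ν ((1, y), q))) = _
    rw [mu_ptE, ptE_one, valE, show T.ps i (Φ.eW hz y q) = (T.sg i : ℂ) * (T.mem i : E → ℂ) (Φ.eW hz y q) from rfl]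
    simp only [map_mul, Units.val_one, Int.cast_one, map_one, one_mul]
    ring
  · rw [secSum, ← Finset.sum_neg_distrib]
    refine Finset.sum_congr rfl fun y _ => ?_
    rw [← Finset.sum_neg_distrib]
    refine Finset.sum_congr rfl fun q _ => ?_
    show (T.sg i : ℂ) * ((Φ.mu ρ (Φ.ptE hz ((-1, y), q)) : ℂ) * (T.mem i : E → ℂ) (Φ.ptE hz ((-1, y), q)) *
      conj (Φ.valE hz θ ν ((-1, y), q))) = _
    rw [mu_ptE, T.even i _ (Φ.ptE_even hz y q), valE]
    simp only [map_mul, Units.val_neg, Units.val_one, Int.cast_neg, Int.cast_one, map_neg, map_one]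
    have h : (T.sg i : ℂ) * (T.sg i : ℂ) = 1 := by exact_mod_cast T.sg_sq i
    linear_combination (-(conj ((θ y : ℂ) - 1) * (conj (Φ.res hz ν q : ℂ) * (Φ.res hz ρ q : ℂ)))) * h

include hz in
theorem twist_injective {ρ ρ' : Φ.Phi →* ℂˣ} {i j : Fin 4}
    (h : Twist.twistIrr (Φ.mu ρ) (T.mem i) = Twist.twistIrr (Φ.mu ρ') (T.mem j)) : ρ = ρ' ∧ i = j := by
  have key : ∀ p : Φ.Phi, (ρ p : ℂ) * (T.sg i : ℂ) = (ρ' p : ℂ) * (T.sg j : ℂ) := by
    intro p
    set g : E := ⟨Φ.v * p, mul_mem (Φ.le Φ.vE) (Φ.Phi_le p.2)⟩ with hg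
    have hev : 2 ∣ orderOf g := by
      rw [← Subgroup.orderOf_coe, hg]
      show 2 ∣ orderOf (Φ.v * p)
      rw [← vel_vee Φ]
      exact Φ.W_vel_even (by decide) (Φ.Phi_le_W p.2)
    have e : (Φ.mu ρ g : ℂ) * (T.mem i : E → ℂ) g = (Φ.mu ρ' g : ℂ) * (T.mem j : E → ℂ) g :=
      congrArg (fun φ : IrrCharacter E => (φ : E → ℂ) g) h
    rwa [T.even i g hev, T.even j g hev, Φ.mu_mul ρ (g := Φ.v) (p := p) Φ.vE rfl,
      Φ.mu_mul ρ' (g := Φ.v) (p := p) Φ.vE rfl] at e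
  have h1 := key 1
  rw [map_one, map_one, Units.val_one, one_mul, one_mul] at h1
  have hne : (T.sg j : ℂ) ≠ 0 := by
    intro e
    have := T.sg_sq j
    rw [show T.sg j = 0 by exact_mod_cast e] at this
    norm_num at this
  have hρ : ρ = ρ' := MonoidHom.ext fun p => Units.ext (mul_right_cancel₀ hne (by rw [← key p, h1]))
  subst hρ
  exact ⟨rfl, T.inj ((Twist.twistEquiv (Φ.mu ρ)).injective h)⟩

include S hq h8 hk P hθ in
/-- **The second and the third member give the same sum.** -/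
theorem secSum_members (htame : ∀ y ∈ Φ.K, y ≠ 1 → ∀ g : G, Commute g y → ∀ w ∈ Φ.V, g * w * g⁻¹ ∈ Φ.V)
    (hθ1 : θ ≠ 1) (ν ρ : Φ.Phi →* ℂˣ) :
    Φ.secSum hz θ ν ρ T.A = Φ.secSum hz θ ν ρ (fun _ => 1) ∧
      Φ.secSum hz θ ν ρ T.B = Φ.secSum hz θ ν ρ (fun _ => 1) := by
  haveI := Φ.dual_finite
  letI : Fintype (Φ.Phi →* ℂˣ) := Fintype.ofFinite _
  have hAB : ∀ ρ', Φ.secSum hz θ ν ρ' T.A + Φ.secSum hz θ ν ρ' T.B = 2 * Φ.secSum hz θ ν ρ' (fun _ => 1) := by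
    intro ρ'
    rw [← Φ.secSum_add hz, ← Φ.secSum_smul hz]
    exact Φ.secSum_congr hz _ _ fun y q hy => by rw [mul_one]; exact (Φ.ps_supp hz S hq h8 hk P hθ y q hy).2
  suffices hAeqB : Φ.secSum hz θ ν ρ T.A = Φ.secSum hz θ ν ρ T.B by
    have h := hAB ρ
    constructor
    · linear_combination (1 / 2 : ℂ) * h + (1 / 2 : ℂ) * hAeqB
    · linear_combination (1 / 2 : ℂ) * h - (1 / 2 : ℂ) * hAeqB
  by_contra hne
  have hneg : ∀ ρ', Φ.secSum hz θ ν ρ' (T.ps 2) = -Φ.secSum hz θ ν ρ' T.A ∧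
      Φ.secSum hz θ ν ρ' (T.ps 3) = -Φ.secSum hz θ ν ρ' T.B := fun ρ' => by
    simp only [secSum, ← Finset.sum_neg_distrib, Twist.KTable.A, Twist.KTable.B, Pi.neg_apply]
    exact ⟨Finset.sum_congr rfl fun _ _ => Finset.sum_congr rfl fun _ _ => by ring,
      Finset.sum_congr rfl fun _ _ => Finset.sum_congr rfl fun _ _ => by ring⟩
  choose n hn using fun φ => Φ.mE_int hz hθ ν φ
  set m : (Φ.Phi →* ℂˣ) → Fin 4 → ℤ := fun ρ' i => T.sg i * n (Twist.twistIrr (Φ.mu ρ') (T.mem i))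
  have hm : ∀ ρ' i, (m ρ' i : ℂ) = (2 * (k : ℂ) * (orderOf z : ℂ))⁻¹ *
      (Φ.secSum hz θ ν ρ' (T.ps i) - Φ.secSum hz θ ν ρ' (fun _ => 1)) := fun ρ' i => by
    rw [← Φ.mE_member hz hθ, hn]
    exact Int.cast_mul _ _
  have hk0 := Φ.k_ne
  have ho0 := Φ.o_ne z
  have hsum : ∀ ρ', m ρ' 2 + m ρ' 3 = if Φ.res hz ρ' = Φ.res hz ν then 2 else 0 := by
    intro ρ'
    apply Int.cast_injective (α := ℂ)
    have h := hAB ρ'
    rw [Int.cast_add, hm, hm, (hneg ρ').1, (hneg ρ').2]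
    rw [Φ.secSum_one hz hθ1] at h ⊢
    split_ifs at h ⊢ with hc <;> push_cast <;> field_simp <;> linear_combination -h
  have hdiff : ∀ ρ', Φ.res hz ρ' = Φ.res hz ρ → m ρ' 2 ≠ m ρ' 3 := by
    intro ρ' hρ' e
    apply hne
    have e' := congrArg (fun x : ℤ => (x : ℂ)) e
    simp only [hm, (hneg ρ').1, (hneg ρ').2] at e'
    have e2 : ∀ g, Φ.secSum hz θ ν ρ' g = Φ.secSum hz θ ν ρ g := fun g => by simp only [secSum, hρ']
    simp only [e2] at e'
    field_simp at e'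
    linear_combination -e'
  have hfc : ∀ ρ₀ : Φ.Phi →* ℂˣ,
      orderOf z * (Finset.univ.filter fun ρ' => Φ.res hz ρ' = Φ.res hz ρ₀).card = Nat.card Φ.Phi := fun ρ₀ => by
    convert Φ.fibre_card hz ρ₀
  set R1 := Finset.univ.filter fun ρ' : Φ.Phi →* ℂˣ => Φ.res hz ρ' = Φ.res hz ρ
  set R2 := Finset.univ.filter fun ρ' : Φ.Phi →* ℂˣ => Φ.res hz ρ' = Φ.res hz ν
  have hlow : 4 * (R1.card : ℤ) ≤ ∑ φ, n φ ^ 2 := by
    have h1 : ∀ R : Finset (Φ.Phi →* ℂˣ), ∑ ρ' ∈ R, (m ρ' 2 ^ 2 + m ρ' 3 ^ 2) ≤ ∑ φ, n φ ^ 2 := by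
      intro R
      let ι : (Φ.Phi →* ℂˣ) × Bool → IrrCharacter E := fun a =>
        Twist.twistIrr (Φ.mu a.1) (T.mem (if a.2 then 2 else 3))
      have hι : Function.Injective ι := fun a b e => by
        obtain ⟨e1, e2⟩ := Φ.twist_injective hz e
        refine Prod.ext e1 ?_
        cases ha : a.2 <;> cases hb : b.2 <;> simp [ha, hb] at e2 <;> rfl
      have hsq : ∀ ρ' i, m ρ' i ^ 2 = n (Twist.twistIrr (Φ.mu ρ') (T.mem i)) ^ 2 := fun ρ' i => by
        simp only [m, mul_pow, pow_two (T.sg i), T.sg_sq, one_mul]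
      refine le_trans (le_of_eq ?_) (Finset.sum_le_sum_of_subset_of_nonneg
        (Finset.subset_univ ((R ×ˢ (Finset.univ : Finset Bool)).image ι)) fun _ _ _ => sq_nonneg _)
      rw [Finset.sum_image hι.injOn, Finset.sum_product]
      refine Finset.sum_congr rfl fun ρ' _ => ?_
      rw [Fintype.sum_bool, hsq, hsq]
      rfl
    have hcard : R1.card = R2.card :=
      Nat.eq_of_mul_eq_mul_left (orderOf_pos z) ((hfc ρ).trans (hfc ν).symm)
    by_cases hs : Φ.res hz ρ = Φ.res hz ν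
    · refine le_trans ?_ (h1 R1)
      rw [mul_comm, ← nsmul_eq_mul, ← Finset.sum_const]
      refine Finset.sum_le_sum fun ρ' hρ' => ?_
      have hr := (Finset.mem_filter.1 hρ').2
      have h2 := hsum ρ'
      rw [if_pos (hr.trans hs)] at h2
      have h3 := hdiff ρ' hr
      have h4 : m ρ' 3 = 2 - m ρ' 2 := by omega
      rw [h4] at h3 ⊢
      have h5 : m ρ' 2 ≤ 0 ∨ 2 ≤ m ρ' 2 := by omega
      rcases h5 with h5 | h5 <;> nlinarith
    · refine le_trans ?_ (h1 (R1 ∪ R2))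
      rw [Finset.sum_union (Finset.disjoint_filter.2 fun ρ' _ h h' => hs (h.symm.trans h'))]
      calc 4 * (R1.card : ℤ) = ∑ _ρ' ∈ R1, (2 : ℤ) + ∑ _ρ' ∈ R2, (2 : ℤ) := by
            simp only [Finset.sum_const, nsmul_eq_mul, hcard]; ring
        _ ≤ _ := by
          refine add_le_add (Finset.sum_le_sum fun ρ' hρ' => ?_) (Finset.sum_le_sum fun ρ' hρ' => ?_)
          · have h2 := hsum ρ'
            have hr := (Finset.mem_filter.1 hρ').2
            rw [if_neg fun e => hs (hr.symm.trans e)] at h2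
            have h3 := hdiff ρ' hr
            have h4 : m ρ' 3 = -m ρ' 2 := by omega
            rw [h4] at h3 ⊢
            have h5 : m ρ' 2 ≤ -1 ∨ 1 ≤ m ρ' 2 := by omega
            rcases h5 with h5 | h5 <;> nlinarith
          · have h2 := hsum ρ'
            rw [if_pos (Finset.mem_filter.1 hρ').2] at h2
            have h4 : m ρ' 3 = 2 - m ρ' 2 := by omega
            rw [h4]
            nlinarith [sq_nonneg (m ρ' 2 - 1)]
  have hnorm : (orderOf z : ℤ) * ∑ φ, n φ ^ 2 ≤ 3 * (Nat.card Φ.Phi : ℤ) := by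
    have h := Φ.mE_norm hz hθ htame hθ1 ν
    simp only [hn, map_intCast, ← pow_two] at h
    set s := (Finset.univ.filter fun c : Bool × Φ.Phi => θ.comp (Φ.act (0, c)) = θ).card with hs
    have h' : (orderOf z : ℤ) * ∑ φ, n φ ^ 2 = (s : ℤ) + 2 * Nat.card Φ.Phi := by
      apply Int.cast_injective (α := ℂ)
      push_cast
      rw [h, ← mul_assoc, mul_inv_cancel₀ ho0, one_mul, Finset.sum_add_distrib, Finset.sum_boole, ← hs,
        Finset.sum_const, Finset.card_univ, nsmul_eq_mul, mul_one, ← Nat.card_eq_fintype_card, Nat.card_prod,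
        Nat.card_eq_fintype_card (α := Bool), Fintype.card_bool]
      push_cast
      rfl
    rw [h']
    have := Φ.stab_le hθ1
    rw [← hs] at this
    omega
  have hfib : (orderOf z : ℤ) * R1.card = Nat.card Φ.Phi := by exact_mod_cast hfc ρ
  have hpos : (0 : ℤ) < Nat.card Φ.Phi := by exact_mod_cast Nat.card_pos
  nlinarith [mul_le_mul_of_nonneg_left hlow (Int.natCast_nonneg (orderOf z))]

end TFrame

end Cfsg.Lib.Ree.Three
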