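import Cfsg.Agent.Ree.Three.Model

/-!
The outcome of the first three steps of `ModelSpec` (`notes/ree_three_model_h4.md`): in every primitive block
the functions with `l ≠ 0` are the single row `(0, 1, 1)`; the fourth step refutes it.
-/

set_option autoImplicit false

namespace Cfsg.Lib.Ree.Three

universe v

attribute [local instance 10] _root_.Classical.propDecidable

/-- Seven rows, and the functions with `l ≠ 0` have the single row `(0, 1, 1)` in the primitive blocks. -/
structure Model.TopW (m : Model.{v}) : Prop where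
  seven : ∀ ν, m.Prim ν → (m.L ν).map (m.row ν) = Cfsg.Lib.Ree.Three.seven
  exists_prim : ∃ ν, m.Prim ν
  F_block : ∀ θ (l : Fin 4) ν χ, l ≠ 0 → m.Prim ν → χ ∈ m.L ν →
    m.F θ l ν χ = if m.row ν χ = (0, 1, 1) then m.sg ν χ else 0
  B_block : ∀ θ (l : Fin 4) ν χ, l ≠ 0 → m.Prim ν → χ ∈ m.L ν →
    m.B θ l χ = if m.row ν χ = (0, 1, 1) then m.sg ν χ else 0
  off : ∀ θ (l : Fin 4) ν ν', ¬ m.Same ν ν' → (m.r = 1 ∨ m.Prim ν') → ∀ χ ∈ m.L ν', m.F θ l ν χ = 0

/-- The fourth step. -/
def SevenWSpec : Prop :=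
  ∀ m : Model.{v}, m.TopW → False

end Cfsg.Lib.Ree.Three
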