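import Cfsg.Agent.Ree.Three.Bottom

/-!
`ModelSpec`: the members of a block named by their rows, and the facts on their signed degrees that the arithmetic
systems of `Three/Spec.lean` need.
-/

set_option autoImplicit false
set_option linter.unusedSectionVars false

namespace Cfsg.Lib.Ree.Three

universe v w

/-- The rows of a block with eight members. -/
def rows8 : Fin 8 → ℤ × ℤ × ℤ :=
  ![(1, 0, 0), (1, 0, 0), (0, 1, 0), (0, 1, 0), (0, 0, 1), (0, 0, 1), (1, 1, 1), (1, 1, 1)]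

/-- The rows of a block with seven members. -/
def rows7 : Fin 7 → ℤ × ℤ × ℤ :=
  ![(1, 0, 0), (0, 0, 1), (0, 1, 0), (0, 1, 1), (1, 0, 1), (1, 1, 0), (1, 1, 1)]

theorem rows8_val :
    rows8 0 = (1, 0, 0) ∧ rows8 1 = (1, 0, 0) ∧ rows8 2 = (0, 1, 0) ∧ rows8 3 = (0, 1, 0) ∧
    rows8 4 = (0, 0, 1) ∧ rows8 5 = (0, 0, 1) ∧ rows8 6 = (1, 1, 1) ∧ rows8 7 = (1, 1, 1) := by
  decide

theorem rows7_val :
    rows7 0 = (1, 0, 0) ∧ rows7 1 = (0, 0, 1) ∧ rows7 2 = (0, 1, 0) ∧ rows7 3 = (0, 1, 1) ∧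
    rows7 4 = (1, 0, 1) ∧ rows7 5 = (1, 1, 0) ∧ rows7 6 = (1, 1, 1) := by
  decide

theorem eight_eq : eight = List.ofFn rows8 := by decide

theorem seven_eq : seven = List.ofFn rows7 := by decide

theorem rowW_x (Q : ℤ) : rowW Q (1, 0, 0) = -1 := by simp [rowW]

theorem rowW_al (Q : ℤ) : rowW Q (0, 1, 0) = midVal Q := by simp [rowW]

theorem rowW_be (Q : ℤ) : rowW Q (0, 0, 1) = midVal Q := by simp [rowW]

theorem rowW_xbe (Q : ℤ) : rowW Q (1, 0, 1) = midVal Q - 1 := by simp [rowW]; ring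

theorem rowW_xal (Q : ℤ) : rowW Q (1, 1, 0) = midVal Q - 1 := by simp [rowW]; ring

attribute [local instance 10] _root_.Classical.propDecidable

namespace Model

variable {m : Model.{v}}

theorem rowW_albe : rowW m.Q (0, 1, 1) = m.Q + 1 := by
  have := m.base.two_mid
  simp only [rowW]; linarith

theorem rowW_all : rowW m.Q (1, 1, 1) = m.Q := by
  have := m.base.two_mid
  simp only [rowW]; linarith

/-- The members of a block, in the order of their rows. -/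
structure Names (ν : m.Blk) {n : ℕ} (R : Fin n → ℤ × ℤ × ℤ) where
  c : Fin n → m.Irr
  inj : Function.Injective c
  image : m.mem ν = Finset.univ.image c
  row_c : ∀ i, m.row ν (c i) = R i

namespace Names

variable {ν : m.Blk} {n : ℕ} {R : Fin n → ℤ × ℤ × ℤ}

theorem nonempty_of (h : (m.L ν).map (m.row ν) = List.ofFn R) : Nonempty (Names ν R) := by
  have hlen : (m.L ν).length = n := by
    have := congrArg List.length h
    rwa [List.length_map, List.length_ofFn] at this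
  refine ⟨⟨fun i => (m.L ν).get (i.cast hlen.symm), fun i j e => ?_, ?_, fun i => ?_⟩⟩
  · exact Fin.cast_injective _ ((m.nodup ν).injective_get e)
  · ext χ
    simp only [mem_mem, Finset.mem_image, Finset.mem_univ, true_and]
    constructor
    · intro hχ
      obtain ⟨j, hj⟩ := List.get_of_mem hχ
      exact ⟨j.cast hlen, by simpa using hj⟩
    · rintro ⟨i, rfl⟩
      exact List.get_mem _ _
  · have h1 : ((m.L ν).map (m.row ν))[(i : ℕ)]? = (List.ofFn R)[(i : ℕ)]? := by rw [h]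
    simpa [hlen, i.isLt] using h1

variable (N : Names ν R)

theorem mem_c (i : Fin n) : N.c i ∈ m.mem ν := by
  rw [N.image]; exact Finset.mem_image.2 ⟨i, Finset.mem_univ _, rfl⟩

theorem exists_index {χ : m.Irr} (h : χ ∈ m.mem ν) : ∃ i, N.c i = χ := by
  rw [N.image] at h
  obtain ⟨i, -, hi⟩ := Finset.mem_image.1 h
  exact ⟨i, hi⟩

theorem sum {M : Type w} [AddCommMonoid M] (g : m.Irr → M) : ∑ χ ∈ m.mem ν, g χ = ∑ i, g (N.c i) := by
  rw [N.image, Finset.sum_image fun i _ j _ e => N.inj e]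

/-- A member can be moved to any place with the same row; places with other rows stay. -/
theorem move {X : m.Irr} (hX : X ∈ m.mem ν) (i : Fin n) (h : m.row ν X = R i) :
    ∃ N' : Names ν R, N'.c i = X ∧ ∀ j, R j ≠ R i → N'.c j = N.c j := by
  obtain ⟨i₀, rfl⟩ := N.exists_index hX
  rw [N.row_c] at h
  refine ⟨⟨N.c ∘ Equiv.swap i i₀, N.inj.comp (Equiv.injective _), ?_, fun j => ?_⟩, by simp, fun j hj => ?_⟩
  · rw [N.image, ← Finset.image_image, Finset.image_univ_equiv]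
  · show m.row ν (N.c (Equiv.swap i i₀ j)) = R j
    rw [N.row_c, Equiv.swap_apply_def]
    split_ifs with h1 h2
    · rw [h1, h]
    · rw [h2, h]
    · rfl
  · show N.c (Equiv.swap i i₀ j) = _
    rw [Equiv.swap_apply_of_ne_of_ne (fun e => hj (by rw [e])) (fun e => hj (by rw [e, h]))]

/-- The signed degree at a place. -/
def D (i : Fin n) : ℤ := m.sg ν (N.c i) * (m.d (N.c i))

/-- The values of a vector at two places, the others being zero. -/
theorem values_pair {f : m.Irr → ℤ} {i j : Fin n} (hij : i ≠ j) {x y : ℤ}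
    (hi : f (N.c i) = m.sg ν (N.c i) * x) (hj : f (N.c j) = m.sg ν (N.c j) * y)
    (h0 : ∀ χ ∈ m.mem ν, χ ≠ N.c i → χ ≠ N.c j → f χ = 0) :
    ∀ t, f (N.c t) = m.sg ν (N.c t) * (if t = i then x else if t = j then y else 0) := by
  intro t
  by_cases h1 : t = i
  · rw [if_pos h1, h1, hi]
  · rw [if_neg h1]
    by_cases h2 : t = j
    · rw [if_pos h2, h2, hj]
    · rw [if_neg h2, h0 _ (N.mem_c t) (fun e => h1 (N.inj e)) (fun e => h2 (N.inj e)), mul_zero]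

theorem sg_ne (χ : m.Irr) : m.sg ν χ ≠ 0 := fun e => by
  have := m.sg_sq ν χ
  rw [e] at this
  norm_num at this

theorem D_ne (i : Fin n) : N.D i ≠ 0 := mul_ne_zero (sg_ne _) (m.d_pos _).ne'

theorem d_eq_abs (i : Fin n) : m.d (N.c i) = |N.D i| := by
  have := m.d_pos (N.c i)
  rcases sg_cases ν (N.c i) with e | e <;> simp only [D, e] <;> simp [abs_of_pos this]

theorem congr_eight (i : Fin n) : (8 : ℤ) ∣ N.D i - rowW m.Q (R i) := by
  rw [← N.row_c i]; exact m.congr ν _ (mem_mem.1 (N.mem_c i))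

theorem dvd_h (i : Fin n) : N.D i ∣ m.h * rowW m.Q (R i) := by
  rw [← N.row_c i]; exact m.dvd ν _ (mem_mem.1 (N.mem_c i))

theorem col (π : ℤ × ℤ × ℤ → ℤ) (h : ((m.L ν).map fun χ => π (m.row ν χ) * (m.sg ν χ * m.d χ)).sum = 0) :
    ∑ i, π (R i) * N.D i = 0 := by
  rw [sum_list, N.sum] at h
  simpa only [N.row_c, D] using h

theorem count (π : ℤ × ℤ × ℤ → ℤ) {c : ℚ}
    (h : (m.h : ℚ) * ((m.L ν).map fun χ =>
        (π (m.row ν χ) : ℚ) * (rowW m.Q (m.row ν χ) : ℚ) ^ 2 / ((m.sg ν χ * m.d χ : ℤ) : ℚ)).sum = c) :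
    (m.h : ℚ) * ∑ i, (π (R i) : ℚ) * (rowW m.Q (R i) : ℚ) ^ 2 / (N.D i : ℚ) = c := by
  rw [sum_list, N.sum] at h
  simpa only [N.row_c, D] using h

theorem u_c (i : Fin n) : m.u (N.c i) = m.sg ν (N.c i) * rowW m.Q (R i) := by
  rw [m.at_t ν _ (mem_mem.1 (N.mem_c i)), N.row_c]

section Values

variable {f : m.Irr → ℤ} {v : Fin n → ℤ}

theorem sum_count (hv : ∀ i, f (N.c i) = m.sg ν (N.c i) * v i) :
    ∑ χ ∈ m.mem ν, (f χ : ℚ) * (m.u χ : ℚ) ^ 2 / (m.d χ : ℚ) =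
      ∑ i, (v i : ℚ) * (rowW m.Q (R i) : ℚ) ^ 2 / (N.D i : ℚ) := by
  rw [N.sum]
  refine Finset.sum_congr rfl fun i _ => ?_
  have hd := d_cast_ne (m := m) (N.c i)
  rw [hv, N.u_c, D]
  rcases sg_cases ν (N.c i) with e | e <;> rw [e] <;> push_cast <;> field_simp

theorem sum_deg (hv : ∀ i, f (N.c i) = m.sg ν (N.c i) * v i) :
    ∑ χ ∈ m.mem ν, (f χ : ℚ) * (m.d χ : ℚ) = ∑ i, (v i : ℚ) * (N.D i : ℚ) := by
  rw [N.sum]
  exact Finset.sum_congr rfl fun i _ => by rw [hv, D]; push_cast; ring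

theorem sum_norm (hv : ∀ i, f (N.c i) = m.sg ν (N.c i) * v i) : ∑ χ ∈ m.mem ν, f χ ^ 2 = ∑ i, v i ^ 2 := by
  rw [N.sum]
  exact Finset.sum_congr rfl fun i _ => by rw [hv, mul_pow, pow_two (m.sg ν _), m.sg_sq, one_mul]

end Values

/-- The values at `l = 0` from those at `l = 1`. -/
theorem values_zero {v : Fin n → ℤ} (hv : ∀ i, m.F m.θ₀ 1 ν (N.c i) = m.sg ν (N.c i) * v i) (i : Fin n) :
    m.F m.θ₀ 0 ν (N.c i) = m.sg ν (N.c i) * (v i - rowUs (R i)) := by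
  have h := m.F_diff m.θ₀ 1 ν ν (by decide) _ (mem_mem.1 (N.mem_c i))
  rw [if_pos (m.same_equiv.refl ν), N.row_c, hv] at h
  rw [mul_sub]
  linarith

/-- The equation of the pattern. -/
theorem eq_one (hν : m.Prim ν) {v : Fin n → ℤ} (hv : ∀ i, m.F m.θ₀ 1 ν (N.c i) = m.sg ν (N.c i) * v i)
    (h2 : ∑ i, v i ^ 2 = 2) :
    (∑ i, (v i : ℚ) * (rowW m.Q (R i) : ℚ) ^ 2 / (N.D i : ℚ)) * (∑ i, (v i : ℚ) * (N.D i : ℚ)) =
      ((m.Q : ℚ) + 1) ^ 2 := by
  rw [← N.sum_count hv, ← N.sum_deg hv]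
  exact top_eq _ (by decide) hν ((N.sum_norm hv).trans h2)

/-- The equation at `l = 0`. -/
theorem eq_zero (hν : m.Prim ν) {v : Fin n → ℤ} (hv : ∀ i, m.F m.θ₀ 1 ν (N.c i) = m.sg ν (N.c i) * v i)
    (h6 : ∑ i, (v i - rowUs (R i)) ^ 2 = 6) :
    ((∑ i, ((v i - rowUs (R i) : ℤ) : ℚ) * (rowW m.Q (R i) : ℚ) ^ 2 / (N.D i : ℚ)) +
        ((m.Q : ℚ) - 1) * m.Q * ((m.Q : ℚ) ^ 2 - 1) / (m.h : ℚ)) *
      (∑ i, ((v i - rowUs (R i) : ℤ) : ℚ) * (N.D i : ℚ)) = 9 * ((m.Q : ℚ) + 1) ^ 2 := by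
  rw [← N.sum_count (N.values_zero hv), ← N.sum_deg (N.values_zero hv)]
  exact top_eq_zero hν ((N.sum_norm (N.values_zero hv)).trans h6)

/-- The congruence of a member. -/
theorem congr_k (hν : m.Prim ν) {v : Fin n → ℤ} (hv : ∀ i, m.F m.θ₀ 1 ν (N.c i) = m.sg ν (N.c i) * v i)
    (i : Fin n) : (m.Q - 1) / 4 ∣ N.D i + 4 * v i - rowUs (R i) := by
  obtain ⟨θ₁⟩ := m.free_ne
  set χ := N.c i with hχd
  set α := m.F m.θ₀ 1 ν χ with hα
  have hB : ∀ θ, m.B θ 1 χ = α := fun θ => bottom θ m.θ₀ (by decide) hν χ (N.mem_c i)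
  have hF : ∀ θ, ∑ ν', m.F θ 1 ν' χ = (m.r : ℤ) * α := fun θ => by
    rw [← hB θ₁, bottom θ₁ θ (by decide) hν χ (N.mem_c i),
      ← Finset.sum_subset (Finset.subset_univ (m.cls ν)) (fun μ _ hμ =>
        off θ 1 (fun h => hμ (mem_cls.2 (m.same_equiv.symm h))) (Or.inr hν) (N.mem_c i)),
      Finset.sum_congr rfl (g := fun _ => m.F θ 1 ν χ) (fun μ hμ => by rw [m.F_same θ 1 ν μ (mem_cls.1 hμ)]),
      Finset.sum_const, card_cls, nsmul_eq_mul]
  have h := (m.congr_member ν χ (mem_mem.1 (N.mem_c i)) α hB hF).mul_left (m.sg ν χ)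
  rw [N.row_c, show α = m.sg ν χ * v i from hv i] at h
  have hk : (m.Q - 1) / 4 = -(m.k : ℤ) := by
    have := m.k_eq
    omega
  rw [hk, neg_dvd, D]
  convert h using 1
  linear_combination (rowUs (R i) - 4 * v i) * m.sg_sq ν χ

end Names

/-- The order bounds the squares of the degrees in the primitive blocks. -/
theorem prims_bound {ν : m.Blk} (hν : m.Prim ν) {χ : m.Irr} (hχ : χ ∈ m.mem ν) :
    (m.prims.card : ℤ) * m.d χ ^ 2 ≤ m.h * (m.e : ℤ) * (-m.Q) * (m.Q ^ 2 - 1) := by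
  have h1 : ∀ μ ∈ m.prims, m.d χ ^ 2 ≤ ∑ ψ ∈ m.mem μ, m.d ψ ^ 2 := fun μ hμ => by
    obtain ⟨g, rfl⟩ := m.gal_trans ν μ hν (mem_prims.1 hμ)
    rw [sum_gal]
    simp only [m.gal_d]
    exact Finset.single_le_sum (fun ψ _ => sq_nonneg (m.d ψ)) hχ
  rw [← m.order, sum_split m.prims]
  refine le_add_of_le_of_nonneg ?_ (Finset.sum_nonneg fun ψ _ => sq_nonneg _)
  calc (m.prims.card : ℤ) * m.d χ ^ 2 = ∑ _μ ∈ m.prims, m.d χ ^ 2 := by rw [Finset.sum_const, nsmul_eq_mul]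
    _ ≤ _ := Finset.sum_le_sum h1

end Model

end Cfsg.Lib.Ree.Three
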