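import Cfsg.Agent.Ree.Three.Local
import Cfsg.Agent.Ree.Three.Induced

/-!
The parametrizations of `V × K`, of `V × K⟨z⟩` and of the normalizer of `V`, and the action of the latter on `K`.
-/

set_option autoImplicit false
set_option linter.style.haveILetI false
set_option linter.unusedSectionVars false

namespace Cfsg.Lib.Ree.Three

open Subgroup Cfsg.Lib.Ree Cfsg.Lib.TwoTimesPSL

universe u

variable {G : Type u} [Group G] {t : G} {E E₀ : Subgroup G} {k : ℕ}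

namespace TFrame

variable (Φ : TFrame t E E₀ k)

include Φ in
/-- The homomorphism sending `-1` to `t`. -/
def homT : ℤˣ →* G where
  toFun a := if a = 1 then 1 else t
  map_one' := by simp
  map_mul' a b := by
    rcases Int.units_eq_one_or a with rfl | rfl <;> rcases Int.units_eq_one_or b with rfl | rfl <;> simp [Φ.tt]

/-- The homomorphism sending `-1` to `v`. -/
def homv : ℤˣ →* G where
  toFun a := if a = 1 then 1 else Φ.v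
  map_one' := by simp
  map_mul' a b := by
    rcases Int.units_eq_one_or a with rfl | rfl <;> rcases Int.units_eq_one_or b with rfl | rfl <;> simp [Φ.vv]

/-- The parametrization of `V`. -/
def vel : Four →* G :=
  MonoidHom.noncommCoprod Φ.homT Φ.homv fun a b => by
    show Commute (if a = 1 then (1 : G) else t) (if b = 1 then 1 else Φ.v)
    split_ifs
    exacts [Commute.one_left _, Commute.one_left _, Commute.one_right _, Φ.tv]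

theorem vel_tee : Φ.vel (-1, 1) = t := by simp [vel, homT, homv]

theorem vel_vee : Φ.vel (1, -1) = Φ.v := by simp [vel, homT, homv]

theorem vel_tv : Φ.vel (-1, -1) = t * Φ.v := by simp [vel, homT, homv]

theorem vel_mem (w : Four) : Φ.vel w ∈ Φ.V := by
  rcases Cfsg.Lib.Ree.four_cases w with rfl | rfl | rfl | rfl
  · rw [map_one]; exact one_mem _
  · rw [vel_tee]; exact Φ.t_mem
  · rw [vel_vee]; exact Φ.v_mem
  · rw [vel_tv]; exact Φ.tv_mem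

theorem exists_vel {x : G} (hx : x ∈ Φ.V) : ∃ w, Φ.vel w = x := by
  rcases hx with rfl | rfl | rfl | rfl
  exacts [⟨1, map_one _⟩, ⟨_, Φ.vel_tee⟩, ⟨_, Φ.vel_vee⟩, ⟨_, Φ.vel_tv⟩]

theorem vel_injective : Function.Injective Φ.vel := by
  rw [injective_iff_map_eq_one]
  intro w h
  rcases Cfsg.Lib.Ree.four_cases w with rfl | rfl | rfl | rfl
  · rfl
  · rw [vel_tee] at h; exact absurd h Φ.t_ne
  · rw [vel_vee] at h; exact absurd h Φ.v_ne_one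
  · rw [vel_tv] at h; exact absurd h Φ.tv_ne

theorem vel_rot (w : Four) : Φ.vel (rot w) = Φ.m * Φ.vel w * Φ.m⁻¹ := by
  rcases Cfsg.Lib.Ree.four_cases w with rfl | rfl | rfl | rfl
  · simp [rot, show ((1, 1) : Four) = 1 from rfl]
  · rw [vel_tee, Φ.m_t]; exact Φ.vel_vee
  · rw [vel_vee, Φ.m_v]; exact Φ.vel_tv
  · rw [vel_tv, Φ.m_tv]; exact Φ.vel_tee

theorem vel_rot_iter (i : ℕ) (w : Four) : Φ.vel (rot^[i] w) = Φ.m ^ i * Φ.vel w * (Φ.m ^ i)⁻¹ := by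
  induction i with
  | zero => simp
  | succ i ih => rw [Function.iterate_succ_apply', vel_rot, ih, pow_succ']; group

theorem vel_back {w : Four} (hw : w ≠ 1) : Φ.m ^ back w * Φ.vel w * (Φ.m ^ back w)⁻¹ = t := by
  rcases Cfsg.Lib.Ree.four_cases w with rfl | rfl | rfl | rfl
  · exact absurd rfl hw
  · rw [vel_tee]; simp [back]
  · rw [vel_vee, show back (1, -1) = 2 by decide, pow_two,
      show Φ.m * Φ.m * Φ.v * (Φ.m * Φ.m)⁻¹ = Φ.m * (Φ.m * Φ.v * Φ.m⁻¹) * Φ.m⁻¹ by group, Φ.m_v, Φ.m_tv]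
  · rw [vel_tv, show back (-1, -1) = 1 by decide, pow_one, Φ.m_tv]

/-- The parametrization of `V × K`. -/
def emb : Four × Φ.K →* G :=
  MonoidHom.noncommCoprod Φ.vel Φ.K.subtype fun w y => Φ.V_comm_K (Φ.vel_mem w) y.2

theorem emb_apply (a : Four × Φ.K) : Φ.emb a = Φ.vel a.1 * a.2 := rfl

theorem emb_injective : Function.Injective Φ.emb := by
  rw [injective_iff_map_eq_one]
  rintro ⟨w, y⟩ h
  rw [emb_apply] at h
  have h1 : Φ.vel w = (y : G)⁻¹ := eq_inv_of_mul_eq_one_left h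
  have h2 := Φ.eq_one_of_mem_inf (Φ.vel_mem w) (h1 ▸ inv_mem y.2)
  refine Prod.ext (Φ.vel_injective (h2.trans (map_one _).symm)) (Subtype.ext ?_)
  rw [h2] at h1
  exact inv_eq_one.1 h1.symm

variable [Finite G]

theorem V_inter_W {w : G} (hw : w ∈ Φ.V) (hW : w ∈ Φ.W) : w = 1 := eq_one_of_odd_sq (Φ.W_odd hW) (Φ.V_sq hw)

theorem split_unique {w w' y y' p p' : G} (hw : w ∈ Φ.V) (hw' : w' ∈ Φ.V) (hy : y ∈ Φ.K) (hy' : y' ∈ Φ.K)
    (hp : p ∈ Φ.Phi) (hp' : p' ∈ Φ.Phi) (h : w * (y * p) = w' * (y' * p')) : w = w' ∧ y = y' ∧ p = p' := by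
  have e : w'⁻¹ * w = (y' * p') * (y * p)⁻¹ := by
    rw [eq_mul_inv_iff_mul_eq, mul_assoc]
    exact inv_mul_eq_iff_eq_mul.2 h
  have h1 := Φ.V_inter_W (mul_mem (inv_mem hw') hw)
    (e ▸ mul_mem (Φ.mul_mem_W hy' hp') (inv_mem (Φ.mul_mem_W hy hp)))
  rw [inv_mul_eq_one] at h1
  subst h1
  have h2 : y * p = y' * p' := mul_left_cancel h
  have e' : p' * p⁻¹ = y'⁻¹ * y := by
    rw [eq_inv_mul_iff_mul_eq, ← mul_assoc, ← h2, mul_inv_cancel_right]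
  have h3 := Φ.Phi_inter _ (mul_mem hp' (inv_mem hp)) (e' ▸ mul_mem (inv_mem (Φ.K_E0 hy')) (Φ.K_E0 hy))
  rw [mul_inv_eq_one] at h3
  subst h3
  exact ⟨rfl, mul_right_cancel h2, rfl⟩

/-- The extension of `V × K` by an element of `Phi`. -/
theorem ext_Phi {z : G} (hz : z ∈ Φ.Phi) : Ext Φ.emb z := by
  refine ⟨Φ.emb_injective, fun a => ⟨(a.1, ⟨_, Φ.conj_K_Phi a.2.2 hz⟩), ?_⟩, fun a ha => ?_⟩
  · rw [emb_apply, emb_apply]
    show Φ.vel a.1 * (z * a.2 * z⁻¹) = z * (Φ.vel a.1 * a.2) * z⁻¹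
    rw [← mul_assoc, ← mul_assoc, (Φ.V_comm_Phi (Φ.vel_mem _) hz).eq]
    group
  · have hp : Φ.emb a ∈ Φ.Phi := zpowers_le.2 hz ha
    obtain ⟨h1, h2, -⟩ := Φ.split_unique (Φ.vel_mem a.1) (one_mem _) a.2.2 (one_mem _) (one_mem _) hp
      (show Φ.vel a.1 * ((a.2 : G) * 1) = 1 * (1 * Φ.emb a) by rw [mul_one, one_mul, one_mul, emb_apply])
    rw [emb_apply, h1, h2, one_mul]

/-! ### The normalizer of `V` -/

/-- The normalizer of `V`. -/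
def NV : Set G := {g | ∀ w ∈ Φ.V, g * w * g⁻¹ ∈ Φ.V}

theorem NV_mul {g h : G} (hg : g ∈ Φ.NV) (hh : h ∈ Φ.NV) : g * h ∈ Φ.NV := fun w hw => by
  rw [show g * h * w * (g * h)⁻¹ = g * (h * w * h⁻¹) * g⁻¹ by group]
  exact hg _ (hh w hw)

theorem m_NV (i : ℕ) : Φ.m ^ i ∈ Φ.NV := fun w hw => Φ.conjPow_V hw i

theorem cent_NV {g : G} (h : ∀ w ∈ Φ.V, Commute g w) : g ∈ Φ.NV := fun w hw => by
  rw [(h w hw).eq, mul_inv_cancel_right]; exact hw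

theorem b_NV : Φ.b ∈ Φ.NV := Φ.cent_NV fun _ hw => (Φ.V_comm_b hw).symm

theorem Phi_NV {p : G} (hp : p ∈ Φ.Phi) : p ∈ Φ.NV := Φ.cent_NV fun _ hw => (Φ.V_comm_Phi hw hp).symm

theorem K_NV {y : G} (hy : y ∈ Φ.K) : y ∈ Φ.NV := Φ.cent_NV fun _ hw => (Φ.V_comm_K hw hy).symm

/-- The coset representatives of `V K` in `N(V)`. -/
def rep (a : Fin 3 × Bool × Φ.Phi) : G := Φ.m ^ (a.1 : ℕ) * ((if a.2.1 then Φ.b else 1) * (a.2.2 : G))

theorem rep_NV (a : Fin 3 × Bool × Φ.Phi) : Φ.rep a ∈ Φ.NV := by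
  refine Φ.NV_mul (Φ.m_NV _) (Φ.NV_mul ?_ (Φ.Phi_NV a.2.2.2))
  cases a.2.1
  · exact Φ.cent_NV fun w _ => Commute.one_left w
  · exact Φ.b_NV

theorem rep_comm {a : Fin 3 × Bool × Φ.Phi} {q : G} (hq : q ∈ Φ.Phi) : Commute (Φ.rep a) q := by
  refine Commute.mul_left ((Φ.pm q hq).symm.pow_left _) (Commute.mul_left ?_ (Φ.Phi_comm a.2.2.2 hq))
  cases a.2.1
  · exact Commute.one_left q
  · exact (Φ.pb q hq).symm

/-- The action on `K`. -/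
def act (a : Fin 3 × Bool × Φ.Phi) : Φ.K →* Φ.K where
  toFun y := ⟨Φ.rep a * y * (Φ.rep a)⁻¹, Φ.norm_K (Φ.rep_NV a) y.2⟩
  map_one' := Subtype.ext (by simp)
  map_mul' y y' := Subtype.ext (by push_cast; group)

theorem act_coe (a : Fin 3 × Bool × Φ.Phi) (y : Φ.K) : (Φ.act a y : G) = Φ.rep a * y * (Φ.rep a)⁻¹ := rfl

theorem act_bijective (a : Fin 3 × Bool × Φ.Phi) : Function.Bijective (Φ.act a) := by
  have h : Function.Injective (Φ.act a) := fun y y' e =>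
    Subtype.ext ((MulAut.conj (Φ.rep a)).injective (congrArg Subtype.val e))
  exact ⟨h, (Finite.injective_iff_surjective).1 h⟩

theorem rep_vel (a : Fin 3 × Bool × Φ.Phi) (w : Four) :
    Φ.rep a * Φ.vel w * (Φ.rep a)⁻¹ = Φ.vel (rot^[(a.1 : ℕ)] w) := by
  have hc : Commute ((if a.2.1 then Φ.b else 1) * (a.2.2 : G)) (Φ.vel w) := by
    refine Commute.mul_left ?_ (Φ.V_comm_Phi (Φ.vel_mem w) a.2.2.2).symm
    cases a.2.1
    · exact Commute.one_left _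
    · exact (Φ.V_comm_b (Φ.vel_mem w)).symm
  rw [vel_rot_iter, rep, show Φ.m ^ (a.1 : ℕ) * ((if a.2.1 then Φ.b else 1) * (a.2.2 : G)) * Φ.vel w *
    (Φ.m ^ (a.1 : ℕ) * ((if a.2.1 then Φ.b else 1) * (a.2.2 : G)))⁻¹ =
    Φ.m ^ (a.1 : ℕ) * (((if a.2.1 then Φ.b else 1) * (a.2.2 : G)) * Φ.vel w *
      ((if a.2.1 then Φ.b else 1) * (a.2.2 : G))⁻¹) * (Φ.m ^ (a.1 : ℕ))⁻¹ by group, hc.eq, mul_inv_cancel_right]

/-- The elements of `N(V)`, with the representatives on the left. -/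
def nvPt (a : (Fin 3 × Bool × Φ.Phi) × (Four × Φ.K)) : G := Φ.rep a.1 * Φ.emb a.2

theorem nvPt_NV (a : (Fin 3 × Bool × Φ.Phi) × (Four × Φ.K)) : Φ.nvPt a ∈ Φ.NV := by
  refine Φ.NV_mul (Φ.rep_NV _) ?_
  rw [emb_apply]
  exact Φ.NV_mul (Φ.cent_NV fun w hw => Φ.V_comm (Φ.vel_mem _) hw) (Φ.K_NV a.2.2.2)

theorem nvPt_injective : Function.Injective Φ.nvPt := by
  rintro ⟨⟨i, c, p⟩, w, y⟩ ⟨⟨i', c', p'⟩, w', y'⟩ h
  have hfix : ∀ (i : Fin 3) (c : Bool) (p : Φ.Phi) (w : Four) (y : Φ.K),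
      Φ.nvPt ((i, c, p), (w, y)) * t * (Φ.nvPt ((i, c, p), (w, y)))⁻¹ =
        Φ.vel (rot^[(i : ℕ)] (-1, 1)) := fun i c p w y => by
    rw [nvPt, emb_apply, show Φ.rep (i, c, p) * (Φ.vel w * (y : G)) * t * (Φ.rep (i, c, p) * (Φ.vel w * (y : G)))⁻¹ =
      Φ.rep (i, c, p) * ((Φ.vel w * (y : G)) * t * (Φ.vel w * (y : G))⁻¹) * (Φ.rep (i, c, p))⁻¹ by group,
      ((Φ.V_comm (Φ.vel_mem w) Φ.t_mem).mul_left (Φ.K_t y.2)).eq, mul_inv_cancel_right]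
    exact (congrArg (fun z => Φ.rep (i, c, p) * z * (Φ.rep (i, c, p))⁻¹) Φ.vel_tee.symm).trans (Φ.rep_vel _ _)
  have hi : i = i' := by
    have key : ∀ i i' : Fin 3, rot^[(i : ℕ)] ((-1, 1) : Four) = rot^[(i' : ℕ)] (-1, 1) → i = i' := by decide
    exact key i i' (Φ.vel_injective ((hfix i c p w y).symm.trans (by rw [h, hfix])))
  subst hi
  -- move the representatives to the right of `V`
  have hform : ∀ (i : Fin 3) (c : Bool) (p : Φ.Phi) (w : Four) (y : Φ.K), Φ.nvPt ((i, c, p), (w, y)) =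
      Φ.m ^ (i : ℕ) * ((if c then Φ.b else 1) * (Φ.vel w * (((p : G) * y * (p : G)⁻¹) * p))) := fun i c p w y => by
    rw [nvPt, emb_apply]
    show Φ.m ^ (i : ℕ) * ((if c then Φ.b else 1) * (p : G)) * (Φ.vel w * (y : G)) = _
    rw [inv_mul_cancel_right, ← mul_assoc (Φ.vel w) (p : G) (y : G), (Φ.V_comm_Phi (Φ.vel_mem w) p.2).eq]
    group
  rw [hform, hform] at h
  have h1 := mul_left_cancel h
  have hK : ∀ (p : Φ.Phi) (y : Φ.K), (p : G) * y * (p : G)⁻¹ ∈ Φ.K := fun p y => Φ.conj_K_Phi y.2 p.2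
  -- the two cosets are different
  have hne : ∀ (w w' : Four) (p p' : Φ.Phi) (y y' : Φ.K),
      Φ.b * (Φ.vel w * (((p : G) * y * (p : G)⁻¹) * p)) ≠ Φ.vel w' * (((p' : G) * y' * (p' : G)⁻¹) * p') := by
    intro w w' p p' y y' e
    set d := ((p : G) * y * (p : G)⁻¹) * p
    set d' := ((p' : G) * y' * (p' : G)⁻¹) * p'
    have hd : d ∈ Φ.W := Φ.mul_mem_W (hK p y) p.2
    have hd' : d' ∈ Φ.W := Φ.mul_mem_W (hK p' y') p'.2
    set u := (Φ.vel w')⁻¹ * Φ.vel w with hu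
    have huV : u ∈ Φ.V := mul_mem (inv_mem (Φ.vel_mem w')) (Φ.vel_mem w)
    have e' : Φ.b * u = d' * d⁻¹ := by
      rw [eq_mul_inv_iff_mul_eq, hu, ← mul_assoc Φ.b, ← (Φ.V_comm_b (inv_mem (Φ.vel_mem w'))).eq, mul_assoc,
        mul_assoc, e, inv_mul_cancel_left]
    have hsq : Φ.b * u * (Φ.b * u) = 1 := by
      rw [(Φ.V_comm_b huV).mul_mul_mul_comm, Φ.bb, Φ.V_sq huV, one_mul]
    have h1 := eq_one_of_odd_sq (e' ▸ Φ.W_odd (mul_mem hd' (inv_mem hd))) hsq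
    refine Φ.b_not ?_
    rw [eq_inv_of_mul_eq_one_left h1, inv_eq_of_mul_eq_one_right (Φ.V_sq huV)]
    exact huV
  cases c <;> cases c' <;> simp only [Bool.false_eq_true, if_false, if_true, one_mul] at h1
  · obtain ⟨e1, e2, e3⟩ := Φ.split_unique (Φ.vel_mem w) (Φ.vel_mem w') (hK p y) (hK p' y') p.2 p'.2 h1
    obtain rfl := Subtype.ext e3
    obtain rfl := Φ.vel_injective e1
    obtain rfl : y = y' := Subtype.ext ((MulAut.conj (p : G)).injective e2)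
    rfl
  · exact absurd h1.symm (hne _ _ _ _ _ _)
  · exact absurd h1 (hne _ _ _ _ _ _)
  · obtain ⟨e1, e2, e3⟩ := Φ.split_unique (Φ.vel_mem w) (Φ.vel_mem w') (hK p y) (hK p' y') p.2 p'.2
      (mul_left_cancel h1)
    obtain rfl := Subtype.ext e3
    obtain rfl := Φ.vel_injective e1
    obtain rfl : y = y' := Subtype.ext ((MulAut.conj (p : G)).injective e2)
    rfl

theorem exists_nvPt {g : G} (hg : g ∈ Φ.NV) : ∃ a, Φ.nvPt a = g := by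
  obtain ⟨i, hi, w, hw, y, hy, p, hp, r⟩ := Φ.norm_V hg
  obtain ⟨w', rfl⟩ := Φ.exists_vel hw
  have hy' : p⁻¹ * y * p ∈ Φ.K := by
    have := Φ.conj_K_Phi hy (inv_mem hp)
    rwa [inv_inv] at this
  have hwp : Φ.vel w' * p = p * Φ.vel w' := (Φ.V_comm_Phi (Φ.vel_mem w') hp).eq
  rcases r with r | r
  · refine ⟨((⟨i, hi⟩, false, ⟨p, hp⟩), (w', ⟨_, hy'⟩)), ?_⟩
    rw [r, nvPt, emb_apply]
    show Φ.m ^ i * (1 * p) * (Φ.vel w' * (p⁻¹ * y * p)) = _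
    rw [one_mul, mul_assoc (Φ.m ^ i), ← mul_assoc p, ← hwp]
    group
  · refine ⟨((⟨i, hi⟩, true, ⟨p, hp⟩), (w', ⟨_, hy'⟩)), ?_⟩
    rw [r, nvPt, emb_apply]
    show Φ.m ^ i * (Φ.b * p) * (Φ.vel w' * (p⁻¹ * y * p)) = _
    rw [← mul_assoc (Φ.vel w') Φ.b, (Φ.V_comm_b (Φ.vel_mem w')).eq,
      show Φ.m ^ i * (Φ.b * p) * (Φ.vel w' * (p⁻¹ * y * p)) =
        Φ.m ^ i * (Φ.b * ((p * Φ.vel w') * (p⁻¹ * y * p))) by group, ← hwp]
    group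

/-- The conjugate of a point. -/
theorem conj_pt (a : (Fin 3 × Bool × Φ.Phi) × (Four × Φ.K)) (w₀ : Four) (y₀ : Φ.K) {q : G} (hq : q ∈ Φ.Phi) :
    ∃ Y : Φ.K, Φ.nvPt a * (Φ.emb (w₀, y₀) * q) * (Φ.nvPt a)⁻¹ = Φ.emb (rot^[(a.1.1 : ℕ)] w₀, Y) * q ∧
      ∀ θ : Φ.K →* ℂˣ, (∀ y y' : Φ.K, q * (y : G) * q⁻¹ = (y' : G) → θ y' = θ y) → θ Y = θ (Φ.act a.1 y₀) := by
  obtain ⟨⟨i, c, p⟩, w, y⟩ := a
  set y₁ : Φ.K := ⟨q * (y : G)⁻¹ * q⁻¹, Φ.conj_K_Phi (inv_mem y.2) hq⟩ with hy₁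
  refine ⟨Φ.act (i, c, p) (y * y₀ * y₁), ?_, fun θ hθ => ?_⟩
  · have hinner : Φ.emb (w, y) * (Φ.emb (w₀, y₀) * q) * (Φ.emb (w, y))⁻¹ =
        Φ.vel w₀ * (((y * y₀ * y₁ : Φ.K) : G) * q) := by
      rw [emb_apply, emb_apply]
      simp only [Subgroup.coe_mul, hy₁]
      have h1 : Φ.vel w * (y : G) * (Φ.vel w₀ * (y₀ : G) * q) * (Φ.vel w * (y : G))⁻¹ =
          Φ.vel w * ((y : G) * Φ.vel w₀) * ((y₀ : G) * (q * (y : G)⁻¹ * q⁻¹) * q) * (Φ.vel w)⁻¹ := by group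
      have h2 : ∀ u ∈ Φ.K, Commute (u * q) (Φ.vel w)⁻¹ := fun u hu =>
        ((Φ.V_comm_K (inv_mem (Φ.vel_mem w)) hu).symm).mul_left (Φ.V_comm_Phi (inv_mem (Φ.vel_mem w)) hq).symm
      rw [h1, ← (Φ.V_comm_K (Φ.vel_mem w₀) y.2).eq, mul_assoc (_ * (Φ.vel w₀ * (y : G))),
        (h2 _ (mul_mem y₀.2 (Φ.conj_K_Phi (inv_mem y.2) hq))).eq,
        show Φ.vel w * (Φ.vel w₀ * (y : G)) * ((Φ.vel w)⁻¹ * ((y₀ : G) * (q * (y : G)⁻¹ * q⁻¹) * q)) =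
          Φ.vel w * Φ.vel w₀ * ((y : G) * (Φ.vel w)⁻¹) * ((y₀ : G) * (q * (y : G)⁻¹ * q⁻¹) * q) by group,
        ← (Φ.V_comm_K (inv_mem (Φ.vel_mem w)) y.2).eq, (Φ.V_comm (Φ.vel_mem w) (Φ.vel_mem w₀)).eq]
      group
    show Φ.rep (i, c, p) * Φ.emb (w, y) * (Φ.emb (w₀, y₀) * q) * (Φ.rep (i, c, p) * Φ.emb (w, y))⁻¹ = _
    rw [show Φ.rep (i, c, p) * Φ.emb (w, y) * (Φ.emb (w₀, y₀) * q) * (Φ.rep (i, c, p) * Φ.emb (w, y))⁻¹ =
      Φ.rep (i, c, p) * (Φ.emb (w, y) * (Φ.emb (w₀, y₀) * q) * (Φ.emb (w, y))⁻¹) * (Φ.rep (i, c, p))⁻¹ by group,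
      hinner, emb_apply, act_coe, ← rep_vel Φ (i, c, p) w₀,
      show Φ.rep (i, c, p) * (Φ.vel w₀ * (((y * y₀ * y₁ : Φ.K) : G) * q)) * (Φ.rep (i, c, p))⁻¹ =
        Φ.rep (i, c, p) * Φ.vel w₀ * (Φ.rep (i, c, p))⁻¹ *
          (Φ.rep (i, c, p) * ((y * y₀ * y₁ : Φ.K) : G) * (Φ.rep (i, c, p))⁻¹) *
          (Φ.rep (i, c, p) * q * (Φ.rep (i, c, p))⁻¹) by group, (Φ.rep_comm hq).eq, mul_inv_cancel_right]
  · rw [map_mul, map_mul, map_mul, map_mul]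
    show θ (Φ.act (i, c, p) y) * θ (Φ.act (i, c, p) y₀) * θ (Φ.act (i, c, p) y₁) = _
    rw [hθ (Φ.act (i, c, p) y⁻¹) (Φ.act (i, c, p) y₁) ?_, map_inv, map_inv]
    · simp [mul_comm]
    · rw [act_coe, act_coe]
      show q * (Φ.rep (i, c, p) * (y : G)⁻¹ * (Φ.rep (i, c, p))⁻¹) * q⁻¹ =
        Φ.rep (i, c, p) * (q * (y : G)⁻¹ * q⁻¹) * (Φ.rep (i, c, p))⁻¹
      rw [show q * (Φ.rep (i, c, p) * (y : G)⁻¹ * (Φ.rep (i, c, p))⁻¹) * q⁻¹ =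
        (q * Φ.rep (i, c, p)) * (y : G)⁻¹ * (q * Φ.rep (i, c, p))⁻¹ by group, ← (Φ.rep_comm hq).eq]
      group

end TFrame

end Cfsg.Lib.Ree.Three
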