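import Cfsg.Agent.Ree.Field.Spec

/-!
The index of `E₀` in `E` is a power of 3: the arithmetic and the rows of the blocks over the twists of the
principal block of `E`; see `notes/ree_three_h4.md`.

`Q = -q`, `h` is the number of involutions; the letters are signed degrees of the members of one block. The
congruences modulo `(Q - 1) / 4` come from the multiplicities in the functions of the torus.
-/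

set_option autoImplicit false

namespace Cfsg.Lib.Ree.Three

open Cfsg

universe u

/-! ### The systems -/

/-- Two rows of each of the kinds `x`, `al`, `be` and two with all three. -/
def eight : List (ℤ × ℤ × ℤ) :=
  [(1, 0, 0), (1, 0, 0), (0, 1, 0), (0, 1, 0), (0, 0, 1), (0, 0, 1), (1, 1, 1), (1, 1, 1)]

/-- One row of each nonzero combination. -/
def seven : List (ℤ × ℤ × ℤ) :=
  [(1, 0, 0), (0, 0, 1), (0, 1, 0), (0, 1, 1), (1, 0, 1), (1, 1, 0), (1, 1, 1)]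

/-- The value at the involution of a row. -/
def rowW (Q : ℤ) (r : ℤ × ℤ × ℤ) : ℤ := -r.1 + (r.2.1 + r.2.2) * midVal Q

section Rows

variable {G : Type u} [Group G] [Fintype G] (t : G) (E : Subgroup G) [Fintype E]

/-- The members with nonzero coordinates at the twist by `μ` of `x`, `al`, `be`; `d` is the signed degree. -/
structure RowData {M : Ideal AlgInt} (T : Twist.KTable E M) (Q : ℤ) (μ : E →* ℂˣ) where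
  L : List (IrrCharacter G)
  row : IrrCharacter G → ℤ × ℤ × ℤ
  sg : IrrCharacter G → ℤ
  nodup : L.Nodup
  kind : L.map row = eight ∨ L.map row = seven
  sg_sq : ∀ χ, sg χ * sg χ = 1
  coords : ∀ χ ∈ L, coord t E χ (Twist.twist μ T.x) = ((sg χ * (row χ).1 : ℤ) : ℂ) ∧
    coord t E χ (Twist.twist μ T.al) = ((sg χ * (row χ).2.1 : ℤ) : ℂ) ∧
    coord t E χ (Twist.twist μ T.be) = ((sg χ * (row χ).2.2 : ℤ) : ℂ)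
  rest : ∀ χ, χ ∉ L → coord t E χ (Twist.twist μ T.x) = 0 ∧ coord t E χ (Twist.twist μ T.al) = 0 ∧
    coord t E χ (Twist.twist μ T.be) = 0
  at_t : ∀ χ ∈ L, (χ : G → ℂ) t = ((sg χ * rowW Q (row χ) : ℤ) : ℂ)
  congr : ∀ χ ∈ L, (8 : ℤ) ∣ sg χ * (Chars.deg (χ : G → ℂ) : ℤ) - rowW Q (row χ)
  dvd : ∀ χ ∈ L, sg χ * (Chars.deg (χ : G → ℂ) : ℤ) ∣
    ((Subgroup.centralizer ({t} : Set G)).index : ℤ) * rowW Q (row χ)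
  cols : (L.map fun χ => (row χ).1 * (sg χ * (Chars.deg (χ : G → ℂ) : ℤ))).sum = 0 ∧
    (L.map fun χ => (row χ).2.1 * (sg χ * (Chars.deg (χ : G → ℂ) : ℤ))).sum = 0 ∧
    (L.map fun χ => (row χ).2.2 * (sg χ * (Chars.deg (χ : G → ℂ) : ℤ))).sum = 0
  counts :
    ((Subgroup.centralizer ({t} : Set G)).index : ℚ) *
        (L.map fun χ => ((row χ).1 : ℚ) * (rowW Q (row χ) : ℚ) ^ 2 /
          ((sg χ * (Chars.deg (χ : G → ℂ) : ℤ) : ℤ) : ℚ)).sum =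
      -((Q : ℚ) + 1) * Q * ((Q : ℚ) ^ 2 - 1) ∧
    ((Subgroup.centralizer ({t} : Set G)).index : ℚ) *
        (L.map fun χ => ((row χ).2.1 : ℚ) * (rowW Q (row χ) : ℚ) ^ 2 /
          ((sg χ * (Chars.deg (χ : G → ℂ) : ℤ) : ℤ) : ℚ)).sum =
      (3 * (Q : ℚ) + 1) * Q * ((Q : ℚ) + 1) ∧
    ((Subgroup.centralizer ({t} : Set G)).index : ℚ) *
        (L.map fun χ => ((row χ).2.2 : ℚ) * (rowW Q (row χ) : ℚ) ^ 2 /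
          ((sg χ * (Chars.deg (χ : G → ℂ) : ℤ) : ℤ) : ℚ)).sum =
      (3 * (Q : ℚ) + 1) * Q * ((Q : ℚ) + 1)

end Rows

/-- The rows of every twist. -/
def RowsSpec : Prop :=
  ∀ (G : Type u) [Group G] [Fintype G] (t : G) (E E₀ : Subgroup G) [Fintype E] (F : Type) [Field F] [Fintype F],
    Twist.Setting t E E₀ F → Fintype.card F % 8 = 3 → 27 < Fintype.card F →
    ∀ (M : Ideal AlgInt) (T : Twist.KTable E M), Field.TwistFacts t E E₀ F T →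
    ∀ μ : E →* ℂˣ, (∀ y : E, (y : G) ∈ E₀ → μ y = 1) →
      Nonempty (RowData t E T (signedCard F) μ)

/-! ### The arithmetic -/

/-- The facts on the field and the number of involutions. -/
structure Base (Q h : ℤ) : Prop where
  pp : IsPrimePow Q.natAbs
  three : (3 : ℤ) ∣ Q
  mod_eight : Q % 8 = 5
  big : Q ≤ -243
  pos : 0 < h
  odd : Odd h

/-- Eight members: `-a`, `-b` at `x`, `D5`, `D6` at `al`, `D7`, `D8` at `be`, `Z`, `Z'` at all three. -/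
structure EightData (Q h a b D5 D6 D7 D8 Z Z' : ℤ) : Prop extends Base Q h where
  ne : a ≠ 0 ∧ b ≠ 0 ∧ D5 ≠ 0 ∧ D6 ≠ 0 ∧ D7 ≠ 0 ∧ D8 ≠ 0 ∧ Z ≠ 0 ∧ Z' ≠ 0
  congr : a % 8 = 1 ∧ b % 8 = 1 ∧ (8 : ℤ) ∣ D5 - midVal Q ∧ (8 : ℤ) ∣ D6 - midVal Q ∧
    (8 : ℤ) ∣ D7 - midVal Q ∧ (8 : ℤ) ∣ D8 - midVal Q ∧ Z % 8 = 5 ∧ Z' % 8 = 5
  dvd : a ∣ h ∧ b ∣ h ∧ D5 ∣ h * midVal Q ∧ D6 ∣ h * midVal Q ∧ D7 ∣ h * midVal Q ∧ D8 ∣ h * midVal Q ∧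
    Z ∣ h * Q ∧ Z' ∣ h * Q
  col_x : Z + Z' = a + b
  col_al : D5 + D6 = -(a + b)
  col_be : D7 + D8 = -(a + b)
  eq_x : (h : ℚ) * (-1 / (a : ℚ) - 1 / (b : ℚ) + (Q : ℚ) ^ 2 * (1 / (Z : ℚ) + 1 / (Z' : ℚ))) =
    -((Q : ℚ) + 1) * Q * ((Q : ℚ) ^ 2 - 1)
  eq_al : (h : ℚ) * ((midVal Q : ℚ) ^ 2 * (1 / (D5 : ℚ) + 1 / (D6 : ℚ)) +
      (Q : ℚ) ^ 2 * (1 / (Z : ℚ) + 1 / (Z' : ℚ))) = (3 * (Q : ℚ) + 1) * Q * ((Q : ℚ) + 1)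
  eq_be : (h : ℚ) * ((midVal Q : ℚ) ^ 2 * (1 / (D7 : ℚ) + 1 / (D8 : ℚ)) +
      (Q : ℚ) ^ 2 * (1 / (Z : ℚ) + 1 / (Z' : ℚ))) = (3 * (Q : ℚ) + 1) * Q * ((Q : ℚ) + 1)

/-- The multiplicities are `-1` at `-b` and `1` at `Z`. -/
structure EightA (Q h a b D5 D6 D7 D8 Z Z' : ℤ) : Prop extends EightData Q h a b D5 D6 D7 D8 Z Z' where
  eq_b : (1 / (b : ℚ) + (Q : ℚ) ^ 2 / (Z : ℚ)) * ((b : ℚ) + Z) = ((Q : ℚ) + 1) ^ 2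
  eq_f : (-1 / (a : ℚ) - (midVal Q : ℚ) ^ 2 * (1 / (D5 : ℚ) + 1 / (D6 : ℚ) + 1 / (D7 : ℚ) + 1 / (D8 : ℚ)) -
      (Q : ℚ) ^ 2 / (Z' : ℚ) + ((Q : ℚ) - 1) * Q * ((Q : ℚ) ^ 2 - 1) / (h : ℚ)) *
      (-(a : ℚ) - D5 - D6 - D7 - D8 - Z') = 9 * ((Q : ℚ) + 1) ^ 2

/-- The first configuration. -/
def EightASpec : Prop :=
  ∀ Q h a b D5 D6 D7 D8 Z Z' : ℤ, EightA Q h a b D5 D6 D7 D8 Z Z' →
    0 < a ∧ Z' = a * Q ^ 3 ∧ h = Q ^ 2 * (Q ^ 2 + Q + 1) * a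

/-- The multiplicities are `1` at `D5` and `D7`. -/
structure EightB (Q h a b D5 D6 D7 D8 Z Z' : ℤ) : Prop extends EightData Q h a b D5 D6 D7 D8 Z Z' where
  congr_k : (Q - 1) / 4 ∣ a - 1 ∧ (Q - 1) / 4 ∣ b - 1 ∧ (Q - 1) / 4 ∣ D5 + 3 ∧ (Q - 1) / 4 ∣ D6 - 1 ∧
    (Q - 1) / 4 ∣ Z - 1 ∧ (Q - 1) / 4 ∣ Z' - 1
  eq_b : (midVal Q : ℚ) ^ 2 * (1 / (D5 : ℚ) + 1 / (D7 : ℚ)) * ((D5 : ℚ) + D7) = ((Q : ℚ) + 1) ^ 2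
  eq_f : (-1 / (a : ℚ) - 1 / (b : ℚ) - (midVal Q : ℚ) ^ 2 * (1 / (D6 : ℚ) + 1 / (D8 : ℚ)) -
      (Q : ℚ) ^ 2 * (1 / (Z : ℚ) + 1 / (Z' : ℚ)) + ((Q : ℚ) - 1) * Q * ((Q : ℚ) ^ 2 - 1) / (h : ℚ)) *
      (-(a : ℚ) - b - D6 - D8 - Z - Z') = 9 * ((Q : ℚ) + 1) ^ 2

/-- The second configuration is impossible. -/
def EightBSpec : Prop :=
  ∀ Q h a b D5 D6 D7 D8 Z Z' : ℤ, EightB Q h a b D5 D6 D7 D8 Z Z' → False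

/-- Seven members, named by their rows: `-a`, `C`, `B`, `W`, `P`, `R`, `Z`. -/
structure SevenData (Q h a C B W P R Z : ℤ) : Prop extends Base Q h where
  ne : a ≠ 0 ∧ C ≠ 0 ∧ B ≠ 0 ∧ W ≠ 0 ∧ P ≠ 0 ∧ R ≠ 0 ∧ Z ≠ 0
  congr : a % 8 = 1 ∧ (8 : ℤ) ∣ C - midVal Q ∧ (8 : ℤ) ∣ B - midVal Q ∧ (8 : ℤ) ∣ W - (Q + 1) ∧
    (8 : ℤ) ∣ P - (midVal Q - 1) ∧ (8 : ℤ) ∣ R - (midVal Q - 1) ∧ Z % 8 = 5
  dvd : a ∣ h ∧ C ∣ h * midVal Q ∧ B ∣ h * midVal Q ∧ W ∣ h * (Q + 1) ∧ P ∣ h * (midVal Q - 1) ∧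
    R ∣ h * (midVal Q - 1) ∧ Z ∣ h * Q
  col_x : P + R + Z = a
  col_al : B + W + R + Z = 0
  col_be : C + W + P + Z = 0
  eq_x : (h : ℚ) * (-1 / (a : ℚ) + ((midVal Q : ℚ) - 1) ^ 2 * (1 / (P : ℚ) + 1 / (R : ℚ)) +
      (Q : ℚ) ^ 2 / (Z : ℚ)) = -((Q : ℚ) + 1) * Q * ((Q : ℚ) ^ 2 - 1)
  eq_al : (h : ℚ) * ((midVal Q : ℚ) ^ 2 / (B : ℚ) + ((Q : ℚ) + 1) ^ 2 / (W : ℚ) +
      ((midVal Q : ℚ) - 1) ^ 2 / (R : ℚ) + (Q : ℚ) ^ 2 / (Z : ℚ)) = (3 * (Q : ℚ) + 1) * Q * ((Q : ℚ) + 1)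
  eq_be : (h : ℚ) * ((midVal Q : ℚ) ^ 2 / (C : ℚ) + ((Q : ℚ) + 1) ^ 2 / (W : ℚ) +
      ((midVal Q : ℚ) - 1) ^ 2 / (P : ℚ) + (Q : ℚ) ^ 2 / (Z : ℚ)) = (3 * (Q : ℚ) + 1) * Q * ((Q : ℚ) + 1)

/-- The multiplicities are `-1` at `-a` and `1` at `Z`. -/
structure SevenA (Q h a C B W P R Z : ℤ) : Prop extends SevenData Q h a C B W P R Z where
  eq_b : (1 / (a : ℚ) + (Q : ℚ) ^ 2 / (Z : ℚ)) * ((a : ℚ) + Z) = ((Q : ℚ) + 1) ^ 2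
  eq_f : (-(midVal Q : ℚ) ^ 2 * (1 / (C : ℚ) + 1 / (B : ℚ)) - 2 * ((Q : ℚ) + 1) ^ 2 / (W : ℚ) +
      ((Q : ℚ) - 1) * Q * ((Q : ℚ) ^ 2 - 1) / (h : ℚ)) * (-(C : ℚ) - B - 2 * W) = 9 * ((Q : ℚ) + 1) ^ 2

/-- It does not occur. -/
def SevenASpec : Prop := ∀ Q h a C B W P R Z : ℤ, SevenA Q h a C B W P R Z → False

/-- The multiplicities are `1` at `B` and `C`. -/
structure SevenB (Q h a C B W P R Z : ℤ) : Prop extends SevenData Q h a C B W P R Z where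
  congr_k : (Q - 1) / 4 ∣ a - 1 ∧ (Q - 1) / 4 ∣ B + 3 ∧ (Q - 1) / 4 ∣ Z - 1
  eq_b : (midVal Q : ℚ) ^ 2 * (1 / (C : ℚ) + 1 / (B : ℚ)) * ((C : ℚ) + B) = ((Q : ℚ) + 1) ^ 2
  eq_f : (-1 / (a : ℚ) - 2 * ((Q : ℚ) + 1) ^ 2 / (W : ℚ) - (Q : ℚ) ^ 2 / (Z : ℚ) +
      ((Q : ℚ) - 1) * Q * ((Q : ℚ) ^ 2 - 1) / (h : ℚ)) * (-(a : ℚ) - 2 * W - Z) = 9 * ((Q : ℚ) + 1) ^ 2

/-- It does not occur. -/
def SevenBSpec : Prop := ∀ Q h a C B W P R Z : ℤ, SevenB Q h a C B W P R Z → False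

end Cfsg.Lib.Ree.Three
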