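import Cfsg.Agent.Ree.Three.Common

/-!
`ModelSpec`, steps 1 and 2: a function vanishes on the members of the other classes, and the equations of a
primitive class (`notes/ree_three_model_h4.md`).
-/

set_option autoImplicit false
set_option linter.unusedSectionVars false

namespace Cfsg.Lib.Ree.Three

universe v w

attribute [local instance 10] _root_.Classical.propDecidable

namespace Model

variable {m : Model.{v}}

/-- A block of a class with target one contributes at least one to the norm. -/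
theorem le_norm_cls (θ : m.Fix) {l : Fin 4} (hl : l ≠ 0) (ν : m.Blk) :
    (m.r : ℤ) ≤ ∑ ν' ∈ m.cls ν, ∑ χ ∈ m.mem ν', m.F θ l ν χ ^ 2 := by
  calc (m.r : ℤ) = ∑ _ν' ∈ m.cls ν, 1 := by
        rw [Finset.sum_const, card_cls, nsmul_one]
    _ ≤ _ := Finset.sum_le_sum fun ν' hν' => one_le_norm (F_tgt_one θ hl (mem_cls.1 hν')) one_ne_zero

theorem sum_u_cls (θ : m.Fix) (l : Fin 4) (ν : m.Blk) :
    ∑ ν' ∈ m.cls ν, ∑ χ ∈ m.mem ν', m.F θ l ν χ * m.u χ = (m.r : ℤ) * (tgt l * (m.Q + 1)) := by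
  have h : ∀ ν' ∈ m.cls ν, ∑ χ ∈ m.mem ν', m.F θ l ν χ * m.u χ = tgt l * (m.Q + 1) := fun ν' hν' => by
    have := sum_mul_u (F_tgt θ l ν ν')
    rwa [if_pos (mem_cls.1 hν')] at this
  rw [Finset.sum_congr rfl h, Finset.sum_const, card_cls, nsmul_eq_mul]

theorem out_u (θ : m.Fix) (l : Fin 4) (ν : m.Blk) :
    ∑ χ ∈ m.out (m.cls ν), m.F θ l ν χ * m.u χ = -((m.r : ℤ) * (tgt l * (m.Q + 1))) := by
  have h := sum_split (m.cls ν) (fun χ => m.F θ l ν χ * m.u χ)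
  rw [m.F_t, sum_u_cls] at h
  linarith

theorem off_ne_zero (θ : m.Fix) {l : Fin 4} (hl : l ≠ 0) {ν ν' : m.Blk} (hsame : ¬ m.Same ν ν')
    (hP : m.r = 1 ∨ m.Prim ν') {χ : m.Irr} (hχ : χ ∈ m.mem ν') : m.F θ l ν χ = 0 := by
  by_contra hne
  have hT : Tgt ν' 0 (m.F θ l ν) := by
    have := F_tgt θ l ν ν'
    rwa [if_neg hsame] at this
  have h2 := two_le_norm hT hχ hne
  rcases m.r_cases with hr | hr
  · have hS : ν ≠ ν' := fun e => hsame (e ▸ m.same_equiv.refl ν)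
    have hs := sum_split {ν, ν'} (fun χ => m.F θ l ν χ ^ 2)
    rw [m.F_norm θ l ν hl, Finset.sum_pair hS, hr] at hs
    have h1 := one_le_norm (F_tgt_one θ hl (m.same_equiv.refl ν)) one_ne_zero
    have h0 : 0 ≤ ∑ χ ∈ m.out {ν, ν'}, m.F θ l ν χ ^ 2 := Finset.sum_nonneg fun χ _ => sq_nonneg _
    have hz := eq_zero_of_sum_sq (show ∑ χ ∈ m.out {ν, ν'}, m.F θ l ν χ ^ 2 ≤ 0 by push_cast at hs; linarith)
    have hu := sum_split {ν, ν'} (fun χ => m.F θ l ν χ * m.u χ)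
    rw [m.F_t, Finset.sum_pair hS, sum_mul_u (F_tgt_one θ hl (m.same_equiv.refl ν)), sum_mul_u hT,
      Finset.sum_eq_zero (fun χ hχ => by rw [hz χ hχ, zero_mul])] at hu
    exact A_ne (m := m) (by linarith)
  · have hP' : m.Prim ν' := hP.resolve_left (by omega)
    have hdis : Disjoint (m.cls ν) (m.cls ν') := Finset.disjoint_left.2 fun μ h1 h2 =>
      hsame (m.same_equiv.trans (mem_cls.1 h1) (m.same_equiv.symm (mem_cls.1 h2)))
    have hs := sum_split (m.cls ν ∪ m.cls ν') (fun χ => m.F θ l ν χ ^ 2)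
    rw [m.F_norm θ l ν hl, Finset.sum_union hdis, sum_class hP' (fun f _ _ => f θ l ν ^ 2), nsmul_eq_mul] at hs
    have h1 := le_norm_cls θ hl ν
    have h0 : 0 ≤ ∑ χ ∈ m.out (m.cls ν ∪ m.cls ν'), m.F θ l ν χ ^ 2 := Finset.sum_nonneg fun χ _ => sq_nonneg _
    simp only [hr, Nat.cast_ofNat] at hs h1
    linarith

/-- Step 1. -/
theorem off (θ : m.Fix) (l : Fin 4) {ν ν' : m.Blk} (hsame : ¬ m.Same ν ν') (hP : m.r = 1 ∨ m.Prim ν')
    {χ : m.Irr} (hχ : χ ∈ m.mem ν') : m.F θ l ν χ = 0 := by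
  by_cases hl : l = 0
  · have h := m.F_diff θ 1 ν ν' (by decide) χ (mem_mem.1 hχ)
    rw [off_ne_zero θ (by decide) hsame hP hχ, if_neg hsame, add_zero] at h
    rw [hl]; exact h.symm
  · exact off_ne_zero θ hl hsame hP hχ

variable {ν : m.Blk}

/-- The norm outside the class. -/
theorem out_norm (θ : m.Fix) {l : Fin 4} (hl : l ≠ 0) (hν : m.Prim ν) :
    ∑ χ ∈ m.out (m.cls ν), m.F θ l ν χ ^ 2 = 2 * (m.r : ℤ) + 1 - m.r * ∑ χ ∈ m.mem ν, m.F θ l ν χ ^ 2 := by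
  have hs := sum_split (m.cls ν) (fun χ => m.F θ l ν χ ^ 2)
  rw [m.F_norm θ l ν hl, sum_class hν (fun f _ _ => f θ l ν ^ 2), nsmul_eq_mul] at hs
  linarith

/-- The vector on a primitive block has norm at most two. -/
theorem norm_le_two (θ : m.Fix) {l : Fin 4} (hl : l ≠ 0) (hν : m.Prim ν) :
    ∑ χ ∈ m.mem ν, m.F θ l ν χ ^ 2 ≤ 2 := by
  by_contra hlt
  have hr : (1 : ℤ) ≤ m.r := by exact_mod_cast m.r_pos
  have h0 : ∑ χ ∈ m.out (m.cls ν), m.F θ l ν χ ^ 2 ≤ 0 := by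
    rw [out_norm θ hl hν]
    have : 3 * (m.r : ℤ) ≤ m.r * ∑ χ ∈ m.mem ν, m.F θ l ν χ ^ 2 := by
      rw [mul_comm]; exact Int.mul_le_mul_of_nonneg_left (by omega) (by omega)
    linarith
  have hu := out_u θ l ν
  rw [Finset.sum_eq_zero (fun χ hχ => by rw [eq_zero_of_sum_sq h0 χ hχ, zero_mul]), tgt, if_neg hl] at hu
  have hA := A_ne (m := m)
  have : (m.r : ℤ) * (1 * (m.Q + 1)) = 0 := by linarith
  rcases mul_eq_zero.1 this with h | h <;> omega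

theorem count_split (θ : m.Fix) (l : Fin 4) (hν : m.Prim ν) :
    (m.r : ℚ) * ∑ χ ∈ m.mem ν, (m.F θ l ν χ : ℚ) * (m.u χ : ℚ) ^ 2 / (m.d χ : ℚ) +
      ∑ χ ∈ m.out (m.cls ν), (m.F θ l ν χ : ℚ) * (m.u χ : ℚ) ^ 2 / (m.d χ : ℚ) =
    if l = 0 then -(m.r : ℚ) * ((m.Q : ℚ) - 1) * m.Q * ((m.Q : ℚ) ^ 2 - 1) / (m.h : ℚ) else 0 := by
  rw [← m.F_count θ l ν, sum_split (m.cls ν), sum_class hν (fun f u d => (f θ l ν : ℚ) * (u : ℚ) ^ 2 / (d : ℚ)),
    nsmul_eq_mul]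

theorem one_split (θ : m.Fix) (l : Fin 4) (hν : m.Prim ν) :
    (m.r : ℤ) * ∑ χ ∈ m.mem ν, m.F θ l ν χ * m.d χ + ∑ χ ∈ m.out (m.cls ν), m.F θ l ν χ * m.d χ = 0 := by
  rw [← m.F_one θ l ν, sum_split (m.cls ν), sum_class hν (fun f _ d => f θ l ν * d), nsmul_eq_mul]

theorem d_cast_ne (χ : m.Irr) : (m.d χ : ℚ) ≠ 0 := by exact_mod_cast (m.d_pos χ).ne'

/-- The arithmetic of a single outside character. -/
theorem outside_eq {r N P A c u d K : ℚ} (hr : r ≠ 0) (hc : c ^ 2 = 1) (hd : d ≠ 0) (h1 : r * P + r * (c * d) = 0)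
    (hu : c * u = A) (hN : r * N + r * (c * u ^ 2 / d) = -(r * K)) : (N + K) * P = A ^ 2 := by
  have h2 : P = -(c * d) := by
    refine mul_left_cancel₀ hr ?_
    linarith
  have h3 : N + K = -(c * u ^ 2 / d) := by
    refine mul_left_cancel₀ hr ?_
    linarith
  rw [h2, h3, ← hu, mul_pow, hc]
  field_simp
  linear_combination u ^ 2 * hc

/-- The equation of a pattern of norm two. -/
theorem top_eq (θ : m.Fix) {l : Fin 4} (hl : l ≠ 0) (hν : m.Prim ν)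
    (h2 : ∑ χ ∈ m.mem ν, m.F θ l ν χ ^ 2 = 2) :
    (∑ χ ∈ m.mem ν, (m.F θ l ν χ : ℚ) * (m.u χ : ℚ) ^ 2 / (m.d χ : ℚ)) *
      (∑ χ ∈ m.mem ν, (m.F θ l ν χ : ℚ) * (m.d χ : ℚ)) = ((m.Q : ℚ) + 1) ^ 2 := by
  have hn := out_norm θ hl hν
  rw [h2] at hn
  obtain ⟨X, hX, hX1, hrest⟩ := single_of_norm_one (show ∑ χ ∈ m.out (m.cls ν), m.F θ l ν χ ^ 2 = 1 by linarith)
  have hu := out_u θ l ν
  rw [Finset.sum_eq_single X (fun χ hχ hne => by rw [hrest χ hχ hne, zero_mul]) (fun h => absurd hX h), tgt,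
    if_neg hl] at hu
  have hd := one_split θ l hν
  rw [Finset.sum_eq_single X (s := m.out (m.cls ν)) (fun χ hχ hne => by rw [hrest χ hχ hne, zero_mul])
    (fun h => absurd hX h)] at hd
  have hc := count_split θ l hν
  rw [if_neg hl, Finset.sum_eq_single X (s := m.out (m.cls ν))
    (fun χ hχ hne => by rw [hrest χ hχ hne, Int.cast_zero, zero_mul, zero_div]) (fun h => absurd hX h)] at hc
  set c : ℚ := ((m.F θ l ν X : ℤ) : ℚ)
  have hu' : c * (m.u X : ℚ) = -((m.r : ℚ) * (1 * ((m.Q : ℚ) + 1))) := by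
    have := congrArg (Int.cast : ℤ → ℚ) hu
    push_cast at this
    exact this
  have hd' : (m.r : ℚ) * (∑ χ ∈ m.mem ν, (m.F θ l ν χ : ℚ) * (m.d χ : ℚ)) + c * (m.d X : ℚ) = 0 := by
    have := congrArg (Int.cast : ℤ → ℚ) hd
    push_cast at this
    exact this
  have hc1 : c ^ 2 = 1 := by
    have := congrArg (Int.cast : ℤ → ℚ) hX1
    push_cast at this
    exact this
  have hr : (m.r : ℚ) ≠ 0 := by exact_mod_cast m.r_pos.ne'
  have key := outside_eq (r := (m.r : ℚ)) (N := ∑ χ ∈ m.mem ν, (m.F θ l ν χ : ℚ) * (m.u χ : ℚ) ^ 2 / (m.d χ : ℚ))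
    (P := ∑ χ ∈ m.mem ν, (m.F θ l ν χ : ℚ) * (m.d χ : ℚ)) (A := -((m.Q : ℚ) + 1)) (c := c)
    (u := (m.u X : ℚ) / m.r) (d := (m.d X : ℚ) / m.r) (K := 0) hr hc1 (div_ne_zero (d_cast_ne X) hr)
    (by rw [show (m.r : ℚ) * (c * ((m.d X : ℚ) / m.r)) = c * m.d X by field_simp]; exact hd')
    (by rw [mul_div_assoc', hu']; field_simp)
    (by
      have hdX := d_cast_ne X
      rw [show (m.r : ℚ) * (c * ((m.u X : ℚ) / m.r) ^ 2 / ((m.d X : ℚ) / m.r)) = c * (m.u X : ℚ) ^ 2 / m.d X by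
        field_simp]
      rw [hc]; ring)
  rw [add_zero] at key
  rw [key]; ring

/-- `τ` preserves the characters outside a class. -/
theorem out_stable {τ : m.Gal} (hτ : ∀ μ, m.Same μ (m.bperm τ μ)) {χ : m.Irr} (h : χ ∈ m.out (m.cls ν)) :
    m.perm τ χ ∈ m.out (m.cls ν) := by
  rw [mem_out] at h ⊢
  intro μ hμ hmem
  obtain ⟨μ', rfl⟩ := (m.bperm τ).surjective μ
  rw [mem_gal, Finset.mem_map_equiv, Equiv.symm_apply_apply] at hmem
  exact h μ' (mem_cls.2 (m.same_equiv.trans (mem_cls.1 hμ) (m.same_equiv.symm (hτ μ')))) hmem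

/-- At `l = 0` the part outside is one orbit of `r` equal entries. -/
theorem out_zero (hν : m.Prim ν) (h6 : ∑ χ ∈ m.mem ν, m.F m.θ₀ 0 ν χ ^ 2 = 6) :
    ∃ X, m.F m.θ₀ 0 ν X ^ 2 = 1 ∧ ∀ φ : ℤ → ℤ → ℤ → ℚ, (∀ a b, φ 0 a b = 0) →
      ∑ χ ∈ m.out (m.cls ν), φ (m.F m.θ₀ 0 ν χ) (m.u χ) (m.d χ) =
        (m.r : ℚ) * φ (m.F m.θ₀ 0 ν X) (m.u X) (m.d X) := by
  have hs := sum_split (m.cls ν) (fun χ => m.F m.θ₀ 0 ν χ ^ 2)
  rw [m.F_norm_zero, sum_class hν (fun f _ _ => f m.θ₀ 0 ν ^ 2), h6, nsmul_eq_mul] at hs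
  rcases m.r_cases with hr | hr
  · rw [if_pos hr, hr] at hs
    obtain ⟨X, hX, hX1, hrest⟩ := single_of_norm_one
      (show ∑ χ ∈ m.out (m.cls ν), m.F m.θ₀ 0 ν χ ^ 2 = 1 by push_cast at hs; linarith)
    refine ⟨X, hX1, fun φ hφ => ?_⟩
    rw [Finset.sum_eq_single X (fun χ hχ hne => by rw [hrest χ hχ hne, hφ]) (fun h => absurd hX h), hr,
      Nat.cast_one, one_mul]
  · rw [if_neg (by omega), hr] at hs
    push_cast at hs
    obtain ⟨τ, hτ, -, -, ⟨n, hn⟩, hfix⟩ := m.cycle hr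
    have hf : ∀ χ, m.F m.θ₀ 0 ν (m.perm τ χ) = m.F m.θ₀ 0 ν χ := fun χ =>
      (congrFun (m.F_same m.θ₀ 0 ν _ (hτ ν)) _).trans (m.gal_F τ m.θ₀ 0 ν χ)
    have h3 : ∑ χ ∈ m.out (m.cls ν), m.F m.θ₀ 0 ν χ ^ 2 = 3 := by linarith
    obtain ⟨X, hX, hX0⟩ : ∃ X ∈ m.out (m.cls ν), m.F m.θ₀ 0 ν X ≠ 0 := by
      by_contra hcon
      push Not at hcon
      rw [Finset.sum_eq_zero fun χ hχ => by rw [hcon χ hχ]; norm_num] at h3
      norm_num at h3
    have hne1 : m.perm τ X ≠ X := fun e => by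
      obtain ⟨j, hj⟩ := hfix m.θ₀ ν X hν e
      have h9 := Finset.single_le_sum (fun χ _ => sq_nonneg (m.F m.θ₀ 0 ν χ)) hX
      rw [h3, hj] at h9
      have : j ≠ 0 := fun e' => hX0 (by rw [hj, e', mul_zero])
      have := one_le_sq this
      nlinarith
    have hne2 : m.perm τ (m.perm τ X) ≠ X := fun e => by
      obtain ⟨i, hi⟩ := Odd.pow (n := n) (show Odd 3 by decide)
      have h2 : (m.perm τ)^[2] X = X := e
      have h4 : (m.perm τ)^[2 * i] X = X := by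
        rw [Function.iterate_mul]
        exact Function.iterate_fixed h2 i
      have h5 := congrFun hn X
      rw [hi, add_comm, Function.iterate_add_apply, h4, Function.iterate_one] at h5
      exact hne1 h5
    have hne3 : m.perm τ (m.perm τ X) ≠ m.perm τ X := fun e => hne1 ((m.perm τ).injective e)
    set T : Finset m.Irr := {X, m.perm τ X, m.perm τ (m.perm τ X)} with hT
    have hTsub : T ⊆ m.out (m.cls ν) := by
      intro χ hχ
      simp only [T, Finset.mem_insert, Finset.mem_singleton] at hχ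
      rcases hχ with rfl | rfl | rfl
      exacts [hX, out_stable hτ hX, out_stable hτ (out_stable hτ hX)]
    have hcard : T.card = 3 := by
      rw [hT, Finset.card_insert_of_notMem (by simp [hne1.symm, hne2.symm]), Finset.card_pair hne3.symm]
    have hsumT : ∑ χ ∈ T, m.F m.θ₀ 0 ν χ ^ 2 = 3 * m.F m.θ₀ 0 ν X ^ 2 := by
      rw [Finset.sum_congr rfl (g := fun _ => m.F m.θ₀ 0 ν X ^ 2) (fun χ hχ => ?_), Finset.sum_const, hcard,
        nsmul_eq_mul]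
      · norm_num
      simp only [T, Finset.mem_insert, Finset.mem_singleton] at hχ
      rcases hχ with rfl | rfl | rfl <;> simp [hf]
    have hle := Finset.sum_le_sum_of_subset_of_nonneg hTsub (fun χ _ _ => sq_nonneg (m.F m.θ₀ 0 ν χ))
    rw [h3, hsumT] at hle
    have h1X := one_le_sq hX0
    have hX1 : m.F m.θ₀ 0 ν X ^ 2 = 1 := by linarith
    have hrest : ∀ χ ∈ m.out (m.cls ν) \ T, m.F m.θ₀ 0 ν χ = 0 := by
      refine eq_zero_of_sum_sq ?_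
      have := Finset.sum_sdiff hTsub (f := fun χ => m.F m.θ₀ 0 ν χ ^ 2)
      rw [h3, hsumT, hX1] at this
      linarith
    refine ⟨X, hX1, fun φ hφ => ?_⟩
    rw [← Finset.sum_sdiff hTsub, Finset.sum_eq_zero (s := m.out (m.cls ν) \ T)
      (fun χ hχ => by rw [hrest χ hχ, hφ]), zero_add,
      Finset.sum_congr rfl (g := fun _ => φ (m.F m.θ₀ 0 ν X) (m.u X) (m.d X)) (fun χ hχ => ?_), Finset.sum_const,
      hcard, nsmul_eq_mul, hr]
    simp only [T, Finset.mem_insert, Finset.mem_singleton] at hχ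
    rcases hχ with rfl | rfl | rfl <;> simp [hf, m.gal_u, m.gal_d]

/-- The equation at `l = 0`. -/
theorem top_eq_zero (hν : m.Prim ν) (h6 : ∑ χ ∈ m.mem ν, m.F m.θ₀ 0 ν χ ^ 2 = 6) :
    ((∑ χ ∈ m.mem ν, (m.F m.θ₀ 0 ν χ : ℚ) * (m.u χ : ℚ) ^ 2 / (m.d χ : ℚ)) +
        ((m.Q : ℚ) - 1) * m.Q * ((m.Q : ℚ) ^ 2 - 1) / (m.h : ℚ)) *
      (∑ χ ∈ m.mem ν, (m.F m.θ₀ 0 ν χ : ℚ) * (m.d χ : ℚ)) = 9 * ((m.Q : ℚ) + 1) ^ 2 := by
  obtain ⟨X, hX1, hsum⟩ := out_zero hν h6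
  set f := m.F m.θ₀ 0 ν with hf
  have hr : (m.r : ℚ) ≠ 0 := by exact_mod_cast m.r_pos.ne'
  have hu := congrArg (Int.cast : ℤ → ℚ) (out_u m.θ₀ 0 ν)
  rw [tgt, if_pos rfl] at hu
  push_cast at hu
  rw [hsum (fun a b _ => (a : ℚ) * b) (fun a b => by simp)] at hu
  have hu' : (f X : ℚ) * (m.u X : ℚ) = 3 * ((m.Q : ℚ) + 1) := mul_left_cancel₀ hr (by linarith)
  have hd := congrArg (Int.cast : ℤ → ℚ) (one_split m.θ₀ 0 hν)
  push_cast at hd
  rw [hsum (fun a _ b => (a : ℚ) * b) (fun a b => by simp)] at hd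
  have hc := count_split m.θ₀ 0 hν
  rw [if_pos rfl, hsum (fun a b c => (a : ℚ) * (b : ℚ) ^ 2 / (c : ℚ)) (fun a b => by simp)] at hc
  have hc1 : (f X : ℚ) ^ 2 = 1 := by exact_mod_cast hX1
  rw [outside_eq hr hc1 (d_cast_ne X) hd hu' (by rw [hc]; ring)]
  ring

end Model

end Cfsg.Lib.Ree.Three
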